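import Cfsg.Agent.J4Type.Order.Formula
import Cfsg.Agent.J4Type.V11.CentT
import Cfsg.Prelude.Def_Sporadic

/-!
# The order of a group of Janko-four type from the two pair counts
-/

set_option autoImplicit false

open Cfsg Subgroup
open scoped Pointwise

namespace Cfsg.Agent.J4Type.Order

open V11
open LargeExtra (oc)

variable {G : Type*} [Group G] [Finite G] {z : G} {P : Subgroup G} {V : Type*} [AddCommGroup V]
  {π : ↥(oc z) →* Multiplicative V} {ρ : ↥(mSub z P) →* Equiv.Perm V} {q : V → ZMod 2} {B : List V}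
  {S : Sys z P π ρ q B} (F : Frame S) (hF : F.Good)

theorem orderOf_tt : orderOf F.tt = 2 :=
  orderOf_eq_prime (by rw [pow_two]; exact F.grp_sq (F.phi_mem t0_lt)) F.tt_ne_one

include hF

theorem card_lc : Nat.card ↥F.lc = 2 ^ 11 * 887040 := by
  obtain ⟨K, hK, h1, h2, ⟨e⟩⟩ := F.exists_lc_split hF
  have hn : K ≤ normalizer (F.grp : Set G) := fun k hk => F.cent_le_nrm hF (hK hk)
  have hset : ((K ⊔ F.grp : Subgroup G) : Set G) = (K : Set G) * (F.grp : Set G) :=
    coe_mul_of_left_le_normalizer_right K F.grp hn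
  let f : ↥K × ↥F.grp → ↥F.lc := fun x =>
    ⟨x.1.1 * x.2.1, mul_mem (hK x.1.2) (F.grp_le_lc x.2.2)⟩
  have hf : Function.Bijective f := by
    constructor
    · rintro ⟨⟨k, hk⟩, ⟨a, ha⟩⟩ ⟨⟨k', hk'⟩, ⟨a', ha'⟩⟩ h
      have h' : k * a = k' * a' := congrArg Subtype.val h
      have hm : k'⁻¹ * k = a' * a⁻¹ := by
        rw [eq_mul_inv_iff_mul_eq, mul_assoc, h', inv_mul_cancel_left]
      have hb : k'⁻¹ * k = 1 :=
        mem_bot.1 (h1.le ⟨K.mul_mem (K.inv_mem hk') hk, hm ▸ F.grp.mul_mem ha' (F.grp.inv_mem ha)⟩)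
      obtain rfl := eq_of_inv_mul_eq_one hb
      obtain rfl := mul_left_cancel h'
      rfl
    · rintro ⟨x, hx⟩
      have hx' : x ∈ ((K ⊔ F.grp : Subgroup G) : Set G) := h2.ge hx
      rw [hset] at hx'
      obtain ⟨k, hk, a, ha, rfl⟩ := Set.mem_mul.1 hx'
      exact ⟨(⟨k, hk⟩, ⟨a, ha⟩), rfl⟩
  rw [← Nat.card_congr (Equiv.ofBijective f hf), Nat.card_prod, Nat.card_congr e.toEquiv,
    card_mulAut_m22, F.card_grp, mul_comm]

theorem card_of_counts :
    Nat.card G = Nat.card (Pairs z F.tt z) * 1816657920 + Nat.card (Pairs z F.tt F.tt) * 21799895040 := by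
  have h := order_formula (z := z) (t := F.tt) S.D.set'.ord (orderOf_tt F) F.not_conj_tt fun x hx => by
    obtain ⟨h1, h2⟩ := Invol.orderOf_eq_two_iff.1 hx
    exact F.classes hF h2 h1
  have hl : Nat.card ↥(centralizer ({F.tt} : Set G)) = 1816657920 := by
    rw [show centralizer ({F.tt} : Set G) = F.lc from rfl, card_lc F hF]; norm_num
  rw [h, hl, S.card_H]
  norm_num

/-- The order, granted the two counts. -/
theorem isJ4_of_counts [IsSimpleGroup G] (hz : Nat.card (Pairs z F.tt z) = 29236337328)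
    (ht : Nat.card (Pairs z F.tt F.tt) = 1544188503) : IsJ4 G := by
  refine ⟨inferInstance, ?_⟩
  rw [card_of_counts F hF, hz, ht]

theorem two_classes : ∃ x y : G, orderOf x = 2 ∧ orderOf y = 2 ∧ ¬ IsConj x y ∧
    ∀ w : G, orderOf w = 2 → IsConj w x ∨ IsConj w y := by
  refine ⟨z, F.tt, S.D.set'.ord, orderOf_tt F, F.not_conj_tt, fun w hw => ?_⟩
  obtain ⟨h1, h2⟩ := Invol.orderOf_eq_two_iff.1 hw
  exact (F.classes hF h2 h1).imp IsConj.symm IsConj.symm

end Cfsg.Agent.J4Type.Order
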