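import Cfsg.Agent.J4Type.Order.LargeExclude
import Cfsg.Agent.J4Type.Order.Glue
import Cfsg.Agent.S5563
import Cfsg.Agent.S5564
import Cfsg.Agent.S5565
import Cfsg.Agent.S5572
import Cfsg.Agent.S5573

/-!
# The large primes of a group of Janko-four type of the order of `J₄`
-/

set_option autoImplicit false

open Cfsg Subgroup

namespace Cfsg.Agent.J4Type.LargePrime

universe u

variable {G : Type u} [Group G] [Finite G]

theorem centralizer_zpowers (x : G) : centralizer (zpowers x : Set G) = centralizer ({x} : Set G) := by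
  rw [zpowers_eq_closure, centralizer_closure]

theorem card_centralizer_conj (g x : G) :
    Nat.card ↥(centralizer ({g * x * g⁻¹} : Set G)) = Nat.card ↥(centralizer ({x} : Set G)) := by
  have : centralizer ({g * x * g⁻¹} : Set G) = (centralizer ({x} : Set G)).map (MulAut.conj g).toMonoidHom := by
    ext w
    rw [mem_map_equiv, MulAut.conj_symm_apply, mem_centralizer_singleton_iff, mem_centralizer_singleton_iff]
    constructor
    · intro h
      calc g⁻¹ * w * g * x = g⁻¹ * (w * (g * x * g⁻¹)) * g := by group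
        _ = x * (g⁻¹ * w * g) := by rw [h]; group
    · intro h
      calc w * (g * x * g⁻¹) = g * (g⁻¹ * w * g * x) * g⁻¹ := by group
        _ = g * x * g⁻¹ * w := by rw [h]; group
  rw [this, card_map_of_injective (MulAut.conj g).injective]

theorem card_normalizer_conj (g : G) (A : Subgroup G) :
    Nat.card ↥(normalizer ((A.map (MulAut.conj g).toMonoidHom : Subgroup G) : Set G)) =
      Nat.card ↥(normalizer (A : Set G)) := by
  rw [← map_equiv_normalizer_eq A (MulAut.conj g), card_map_of_injective (MulAut.conj g).injective]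

/-- The local facts, granted the order. -/
theorem facts_of_card [IsSimpleGroup G] (hG : ¬ IsMulCommutative G) (z : G) (P : Subgroup G)
    (hJ : IsOfJankoFourTypeWith z P) (hcard : Nat.card G = 86775571046077562880) : Facts G := by
  have hH : Nat.card ↥(centralizer ({z} : Set G)) = 2 ^ 21 * 3 ^ 3 * 5 * 7 * 11 := by
    rw [card_centralizer_z hJ]; norm_num
  obtain ⟨p₀, hp₀, hp₀o, hP⟩ := Base.exists_gen hJ
  obtain ⟨-, -, -, -, hnorm⟩ := S5563.result hG z P hJ
  -- a conjugate of an element of prime order `q` lies in the fixed subgroup of that order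
  have hsyl : ∀ q : ℕ, q.Prime → ¬ q * q ∣ Nat.card G → q ∣ Nat.card ↥(centralizer ({z} : Set G)) →
      ∃ S : Subgroup G, Nat.card ↥S = q ∧ S ≤ centralizer ({z} : Set G) ∧
        ∀ x : G, orderOf x = q → ∃ g : G, S = (zpowers x).map (MulAut.conj g).toMonoidHom := by
    intro q hq hsq hd
    have := Fact.mk hq
    obtain ⟨⟨s, hs⟩, hso⟩ := exists_prime_orderOf_dvd_card' q hd
    rw [Subgroup.orderOf_mk] at hso
    refine ⟨zpowers s, by rw [Nat.card_zpowers, hso], zpowers_le.2 hs, fun x hx => ?_⟩
    have hfac : (Nat.card G).factorization q = 1 := by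
      have hne : Nat.card G ≠ 0 := Nat.card_pos.ne'
      have h1 := (hq.pow_dvd_iff_le_factorization hne (k := 1)).1 (by
        rw [pow_one, ← hso]; exact orderOf_dvd_natCard s)
      have h2 := mt (hq.pow_dvd_iff_le_factorization hne (k := 2)).2 (by rwa [pow_two])
      omega
    let X : Sylow q G := Sylow.ofCard (zpowers x) (by rw [Nat.card_zpowers, hx, hfac, pow_one])
    let S : Sylow q G := Sylow.ofCard (zpowers s) (by rw [Nat.card_zpowers, hso, hfac, pow_one])
    obtain ⟨g, hg⟩ := MulAction.exists_smul_eq G X S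
    refine ⟨g, ?_⟩
    show (S : Subgroup G) = _
    rw [← hg]; rfl
  have hat : IsOfJankoFourTypeAt z := ⟨P, hJ⟩
  have hfive : ∀ x : G, orderOf x = 5 → Nat.card ↥(centralizer ({x} : Set G)) ∣ 26880 := by
    intro x hx
    obtain ⟨Q, hQ, hQz, hconj⟩ := hsyl 5 (by norm_num) (by rw [hcard]; norm_num) (by rw [hH]; norm_num)
    obtain ⟨g, rfl⟩ := hconj x hx
    have hN := (S5572.result hG z hat _ hQ hQz).2.2.2
    rw [card_normalizer_conj] at hN
    rw [← centralizer_zpowers]
    exact (card_dvd_of_le (Subgroup.centralizer_le_normalizer _)).trans (hN ▸ by norm_num)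
  have hseven : ∀ x : G, orderOf x = 7 → Nat.card ↥(centralizer ({x} : Set G)) = 840 ∧
      Nat.card ↥(normalizer (zpowers x : Set G)) = 2520 := by
    intro x hx
    obtain ⟨S, hS, hSz, hconj⟩ := hsyl 7 (by norm_num) (by rw [hcard]; norm_num) (by rw [hH]; norm_num)
    obtain ⟨g, rfl⟩ := hconj x hx
    obtain ⟨-, -, h3, hN⟩ := S5573.result hG z hat _ hS hSz
    have hc : centralizer (((zpowers x).map (MulAut.conj g).toMonoidHom : Subgroup G) : Set G) =
        centralizer ({g * x * g⁻¹} : Set G) := by
      rw [MonoidHom.map_zpowers, centralizer_zpowers]; rfl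
    rw [hc, card_centralizer_conj] at h3
    rw [card_normalizer_conj] at h3 hN
    constructor <;> omega
  refine ⟨hcard, ?_, ?_, hfive, hseven, ?_⟩
  · intro y hy
    by_cases hc : IsConj z y
    · obtain ⟨g, rfl⟩ := isConj_iff.1 hc
      exact Or.inl ((card_centralizer_conj g z).trans hH)
    · obtain ⟨B, S⟩ := V11.exists_sys hG hJ
      obtain ⟨F, hF⟩ := V11.Frame.exists_good S
      obtain ⟨h1, h2⟩ := Invol.orderOf_eq_two_iff.1 hy
      obtain ⟨g, rfl⟩ := isConj_iff.1 ((F.classes hF h2 h1).resolve_left hc)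
      exact Or.inr ((card_centralizer_conj g F.tt).trans (Order.card_lc F hF))
  · intro x hx
    obtain ⟨g, rfl⟩ := isConj_iff.1 (S5564.result hG ⟨z, hat⟩ p₀ x hp₀o hx)
    rw [card_centralizer_conj, ← hH]
    refine card_dvd_of_le (le_trans ?_ hnorm)
    rw [hP, ← centralizer_zpowers]
    exact Subgroup.centralizer_le_normalizer _
  · intro T
    have := Fact.mk (show Nat.Prime 3 by norm_num)
    obtain ⟨R₀, hR₀⟩ := Sylow.exists_subgroup_card_pow_prime 3
      (show 3 ^ 3 ∣ Nat.card ↥(centralizer ({z} : Set G)) by rw [hH]; norm_num)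
    have hfac : (Nat.card G).factorization 3 = 3 := by
      have hp : Nat.Prime 3 := by norm_num
      have hne : Nat.card G ≠ 0 := Nat.card_pos.ne'
      have h1 := (hp.pow_dvd_iff_le_factorization hne (k := 3)).1 (by rw [hcard]; norm_num)
      have h2 := mt (hp.pow_dvd_iff_le_factorization hne (k := 4)).2 (by rw [hcard]; norm_num)
      omega
    let R : Sylow 3 G := Sylow.ofCard (R₀.map (centralizer ({z} : Set G)).subtype)
      (by rw [card_map_of_injective (subtype_injective _), hR₀, hfac])
    obtain ⟨hex, hR27, -, -, hRN⟩ := S5565.result hG z hat R (map_subtype_le _)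
    obtain ⟨g, hg⟩ := MulAction.exists_smul_eq G R T
    have hT : (T : Subgroup G) = (R : Subgroup G).map (MulAut.conj g).toMonoidHom := by rw [← hg]; rfl
    refine ⟨?_, ?_, ?_⟩
    · rw [hT, card_map_of_injective (MulAut.conj g).injective, hR27]
    · let e : ↥(R : Subgroup G) ≃* ↥(T : Subgroup G) :=
        ((R : Subgroup G).equivMapOfInjective _ (MulAut.conj g).injective).trans
          (MulEquiv.subgroupCongr hT.symm)
      rw [← Nat.card_congr (Subgroup.centerCongr e).toEquiv]
      exact hex.2
    · rw [hT, card_normalizer_conj, hRN]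

/-- The statement on the large primes, granted the order. -/
theorem large_prime_sylow [IsSimpleGroup G] (hG : ¬ IsMulCommutative G) (z : G) (P : Subgroup G)
    (hJ : IsOfJankoFourTypeWith z P) (hcard : Nat.card G = 86775571046077562880) {p : ℕ} (hp : p ∈ bigList)
    (U : Sylow p G) :
    centralizer ((U : Subgroup G) : Set G) = (U : Subgroup G) ∧
      (p, Nat.card ↥(normalizer ((U : Subgroup G) : Set G))) ∈
        [(23, 23 * 22), (29, 29 * 28), (31, 31 * 10), (37, 37 * 12), (43, 43 * 14)] := by
  have F := facts_of_card hG z P hJ hcard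
  have hpp := prime_of_big hp
  have := Fact.mk hpp
  have hfac : (Nat.card G).factorization p = 1 := by
    have hd : p ∣ ordJ ∧ ¬ p ^ 2 ∣ ordJ := by clear * - hp; revert p; decide +kernel
    have hne : ordJ ≠ 0 := by norm_num [ordJ]
    have h1 := (hpp.pow_dvd_iff_le_factorization hne (k := 1)).1 (by rw [pow_one]; exact hd.1)
    have h2 := mt (hpp.pow_dvd_iff_le_factorization hne (k := 2)).2 hd.2
    rw [F.card]; omega
  have hUc : Nat.card ↥(U : Subgroup G) = p := by rw [U.card_eq_multiplicity, hfac, pow_one]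
  obtain ⟨⟨x, hxU⟩, hx⟩ := exists_prime_orderOf_dvd_card' (G := ↥(U : Subgroup G)) p (dvd_of_eq hUc.symm)
  rw [Subgroup.orderOf_mk] at hx
  have hU : (U : Subgroup G) = zpowers x :=
    (eq_of_le_of_card_ge (zpowers_le.2 hxU) (by rw [hUc, Nat.card_zpowers, hx])).symm
  have h := orders_large F hp hx
  simp only [List.mem_cons, List.not_mem_nil, or_false, Prod.mk.injEq] at h
  have hC : Nat.card ↥(centralizer ({x} : Set G)) = p := by omega
  refine ⟨?_, ?_⟩
  · rw [hU, centralizer_zpowers]
    exact (eq_of_le_of_card_ge (zpowers_le.2 (mem_centralizer_singleton_iff.2 rfl))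
      (by rw [hC, Nat.card_zpowers, hx])).symm
  · rw [hU]
    simp only [List.mem_cons, List.not_mem_nil, or_false, Prod.mk.injEq]
    omega

end Cfsg.Agent.J4Type.LargePrime
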