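import Cfsg.Agent.J4Type.Order.CountTLists
import Cfsg.Agent.J4Type.V11.Sel

/-!
# Histograms and sums on lists
-/

set_option autoImplicit false
set_option maxRecDepth 100000

namespace Cfsg.Agent.J4Type.Order

open Cfsg.Agent.Compute Cfsg.Agent.TenLocal

/-- The number of listed vectors of the first kind with a given image. -/
noncomputable def cntZ (one : Bool) (m : ℕ) (N : List ℕ) (l : List (ℕ × ℕ)) (x : ℕ) : ℕ :=
  l.countP fun p => zB one m p && Nat.beq (mapp N p.1) x

theorem pack_single (w : ℕ) : ∀ (n : ℕ) (f : ℕ → ℕ) (x : ℕ), x < n →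
    pack w n (fun i => f i + if i = x then 1 else 0) = pack w n f + 2 ^ (w * x)
  | n + 1, f, x, hx => by
    rw [pack_succ, pack_succ]
    rcases Nat.lt_succ_iff_lt_or_eq.1 hx with h | rfl
    · rw [pack_single w n f x h, if_neg (by omega : n ≠ x), Nat.add_zero]
      omega
    · rw [pack_congr_add w x f x le_rfl, if_pos rfl, Nat.add_mul, Nat.one_mul]
      omega
where
  pack_congr_add (w n : ℕ) (f : ℕ → ℕ) (x : ℕ) (hx : n ≤ x) :
      pack w n (fun i => f i + if i = x then 1 else 0) = pack w n f := by
    induction n with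
    | zero => rfl
    | succ n ih => rw [pack_succ, pack_succ, ih (by omega), if_neg (by omega : n ≠ x), Nat.add_zero]

theorem pack_zero (w : ℕ) : ∀ n, pack w n (fun _ => 0) = 0
  | 0 => rfl
  | n + 1 => by rw [pack_succ, pack_zero w n, Nat.zero_mul]

theorem hist_eq (one : Bool) (m : ℕ) (N : List ℕ) (hN : ∀ v, mapp N v < 2048) (n : ℕ) (hn : n = 2048) :
    ∀ l : List (ℕ × ℕ), hist one m N l = pack 11 n (cntZ one m N l) := by
  intro l
  induction l with
  | nil => exact (pack_zero 11 n).symm
  | cons p l ih =>
    have hc : cntZ one m N (p :: l) = fun i => cntZ one m N l i +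
        (if zB one m p = true ∧ i = mapp N p.1 then 1 else 0) := by
      funext i
      rw [cntZ, List.countP_cons]
      congr 1
      simp only [Bool.and_eq_true, Nat.beq_eq, eq_comm (a := mapp N p.1)]
    show cond (zB one m p) (Nat.add (hist one m N l) (Nat.shiftLeft 1 (Nat.mul 11 (mapp N p.1))))
      (hist one m N l) = _
    rw [hc]
    cases hz : zB one m p
    · simp only [cond_false, Bool.false_eq_true, false_and, if_false, Nat.add_zero]
      exact ih
    · simp only [cond_true, true_and]
      rw [pack_single 11 n _ _ (hn.symm ▸ hN p.1), ih]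
      show _ + 1 <<< (11 * mapp N p.1) = _
      rw [Nat.one_shiftLeft]

/-- The count, term by term. -/
theorem countH_eq (one : Bool) (m h : ℕ) (N A : List ℕ) : ∀ l : List (ℕ × ℕ),
    countH one m h N A l =
      (l.map fun p => if tBit one m p = true then getField 11 h (Nat.xor 1 (mapp N (mapp A p.1))) else 0).sum := by
  intro l
  induction l with
  | nil => rfl
  | cons p l ih =>
    show cond (tBit one m p) (Nat.add (countH one m h N A l)
      (getField 11 h (Nat.xor 1 (mapp N (mapp A p.1))))) (countH one m h N A l) = _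
    rw [List.map_cons, List.sum_cons, ← ih]
    cases tBit one m p
    · simp
    · simp [Nat.add_comm]

theorem countP_range (n : ℕ) (f : ℕ → Bool) :
    (List.range n).countP f = ((Finset.range n).filter fun v => f v = true).card := by
  induction n with
  | zero => rfl
  | succ n ih =>
    rw [List.range_succ, List.countP_append, Finset.range_add_one, Finset.filter_insert, ih]
    by_cases h : f n = true
    · rw [if_pos h, Finset.card_insert_of_notMem (by simp)]
      simp [h]
    · rw [if_neg h]
      simp [h]

theorem sum_range_list (n : ℕ) (f : ℕ → ℕ) : ((List.range n).map f).sum = ∑ v ∈ Finset.range n, f v := by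
  induction n with
  | zero => rfl
  | succ n ih => rw [List.range_succ, List.map_append, List.sum_append, Finset.sum_range_succ, ih]; simp

theorem sumB_eq (f : ℕ → ℕ) : ∀ n, sumB f n = ∑ i ∈ Finset.range n, f i := by
  intro n
  induction n with
  | zero => rfl
  | succ n ih => rw [Finset.sum_range_succ, ← ih]; rfl

theorem sumIt_xor (A B : List ℕ) : ∀ (k a b : ℕ),
    sumIt A B k (a ^^^ b) = sumIt A B k a ^^^ sumIt A B k b := by
  intro k
  induction k with
  | zero => intro a b; exact (Nat.xor_self 0).symm
  | succ k ih =>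
    intro a b
    show (a ^^^ b) ^^^ sumIt A B k (mapp A (mapp B (a ^^^ b))) =
      (a ^^^ sumIt A B k (mapp A (mapp B a))) ^^^ (b ^^^ sumIt A B k (mapp A (mapp B b)))
    rw [mapp_xor, mapp_xor, ih]
    ac_rfl

theorem sumMat_spec (A B : List ℕ) (k : ℕ) {v : ℕ} (hv : v < 2048) :
    mapp (sumMat A B k) v = sumIt A B k v := by
  have h0 : sumIt A B k 0 = 0 := by
    have := sumIt_xor A B k 0 0
    rw [Nat.xor_self, Nat.xor_self] at this
    exact this
  refine J4Type.V11.bitInd 11 (P := fun v => mapp (sumMat A B k) v = sumIt A B k v) ?_ ?_ ?_ v hv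
  · show mapp _ 0 = _
    rw [mapp_zero, h0]
  · intro a b _ _ ha hb
    show mapp _ (a ^^^ b) = _
    rw [mapp_xor, sumIt_xor, ha, hb]
  · intro i hi
    show mapp _ (2 ^ i) = _
    rw [mapp_two_pow, sumMat, List.getD_eq_getElem _ _ (by simpa using hi)]
    simp

end Cfsg.Agent.J4Type.Order
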