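import Cfsg.Agent.J4Type.Order.CountTPairs
import Cfsg.Agent.J4Type.Order.CountTSum

/-!
# The pairs of involutions whose product has an involution of the second kind as a power
-/

set_option autoImplicit false
set_option maxRecDepth 100000

open Cfsg Subgroup

namespace Cfsg.Agent.J4Type.Order

open LargeExtra (oc)
open LargeFischer (W11 pt IsDuad bv)
open J4Type (mSub)
open J4Type.V11
open Cfsg.Agent.Compute (rep24 bitB allBelow allBelow_eq_true getField idB idB_iff pack getField_pack)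
open TenLocal

theorem few_z : allBelow 4 (fun t =>
    Nat.blt ((imgPairs (repMats.getD t (0, [], 0)).2.1).countP
      (zB (idB (invC (repMats.getD t (0, [], 0)).1)) (repMats.getD t (0, [], 0)).2.2)) 2048) = true := by
  decide +kernel

variable {G : Type*} [Group G] [Finite G] {z : G} {P : Subgroup G} {V : Type*} [AddCommGroup V]
  {π : ↥(oc z) →* Multiplicative V} {ρ : ↥(mSub z P) →* Equiv.Perm V} {q : V → ZMod 2} {B : List V}
  {S : Sys z P π ρ q B} (T : Sect S)

/-- The sum of the first images. -/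
noncomputable def sumA (R : ↥M24) : ℕ → W11 → W11
  | 0, _ => 0
  | n + 1, c => c + sumA R n (T.act R c)

theorem sumA_act (R : ↥M24) : ∀ (n : ℕ) (c : W11), sumA T R n (T.act R c) = T.act R (sumA T R n c)
  | 0, c => (map_zero _).symm
  | n + 1, c => by
    show T.act R c + sumA T R n (T.act R (T.act R c)) = T.act R (c + sumA T R n (T.act R c))
    rw [map_add, sumA_act R n (T.act R c)]

theorem el_pow (c : W11) (R : ↥M24) : ∀ n : ℕ, T.el c R ^ n = T.el (sumA T R n c) (R ^ n)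
  | 0 => by rw [pow_zero, pow_zero]; exact T.el_one.symm
  | n + 1 => by
    rw [pow_succ', el_pow c R n, T.el_mul, pow_succ']
    congr 1
    show c + T.act R (sumA T R n c) = c + sumA T R n (T.act R c)
    rw [sumA_act]

theorem uD_mem_iff {c : W11} {R : ↥M24} {k : ℕ} (hk : orderOf R = k) :
    uD T ∈ zpowers (T.el c R) ↔ sumA T R k c = bv 1 := by
  have hk1 : R ^ k = 1 := hk ▸ pow_orderOf_eq_one R
  have hk' : T.el c R ^ k = wg T.F (sumA T R k c) := by rw [el_pow, hk1, wg_eq]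
  constructor
  · intro h
    obtain ⟨n, hn⟩ : ∃ n : ℕ, T.el c R ^ n = uD T := mem_powers_iff_mem_zpowers.2 h
    rw [el_pow, uD, wg_eq] at hn
    obtain ⟨h1, h2⟩ := T.el_inj hn
    obtain ⟨m, hm⟩ : k ∣ n := hk ▸ orderOf_dvd_of_pow_eq_one h2
    have h3 : T.el c R ^ n = wg T.F (bv 1) := by rw [el_pow, h1, h2, wg_eq]
    rw [hm, pow_mul, hk'] at h3
    have hs : wg T.F (sumA T R k c) * wg T.F (sumA T R k c) = 1 := T.F.grp_sq (wg_mem T.F _)
    rcases Nat.even_or_odd m with ⟨r, rfl⟩ | ⟨r, rfl⟩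
    · rw [← two_mul, pow_mul, sq, hs, one_pow] at h3
      exact absurd h3.symm (uD_spec T).1
    · rw [pow_succ, pow_mul, sq, hs, one_pow, one_mul] at h3
      exact wg_inj T.F h3
  · intro h
    rw [uD, ← h, ← hk']
    exact pow_mem (mem_zpowers _) k

theorem sumA_code {R : ↥M24} {A B : List ℕ}
    (hR : ∀ v < 2048, T.act R (bv v) = bv (mapp A (mapp B v))) (hA : ∀ v, mapp A v < 2048) :
    ∀ (k v : ℕ), v < 2048 → bv (sumIt A B k v) = sumA T R k (bv v) ∧ sumIt A B k v < 2048 := by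
  intro k
  induction k with
  | zero => intro v _; exact ⟨LargeFischer.bv_zero, Nat.two_pow_pos 11⟩
  | succ k ih =>
    intro v hv
    obtain ⟨h1, h2⟩ := ih (mapp A (mapp B v)) (hA _)
    refine ⟨?_, LargeFischer.xor_lt11 hv h2⟩
    show bv (v ^^^ sumIt A B k (mapp A (mapp B v))) = bv v + sumA T R k (T.act R (bv v))
    rw [LargeFischer.bv_xor, h1, hR v hv]

theorem duad_bit {v : ℕ} (hv : v < 2048) : IsDuad (bv v) ↔ bitB LargeFischer.tmask v = true := by
  rw [duad_iff hv, Orbits.bit_iff, Compute.bitB_eq]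

theorem act_inv {i : ℕ} (hi : i < 2872) {v : ℕ} (hv : v < 2048) :
    T.act (sI i) (bv v) = bv (mapp (matOf (invC i)) v) :=
  matOf_spec (inv_facts hi).1 _ (sI_val hi ▸ T.acts (sI i)) hv

theorem idB_sI {i : ℕ} (hi : i < 2872) : idB (invC i) = true ↔ sI i = 1 := by
  rw [idB_iff (inv_facts hi).1, ← sI_val hi]
  exact ⟨fun h => Subtype.ext h, fun h => by rw [h]; rfl⟩

theorem act_fix_iff {i : ℕ} (hi : i < 2872) {v : ℕ} (hv : v < 2048) :
    T.act (sI i) (bv v) = bv v ↔ v = mapp (matOf (invC i)) v := by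
  rw [act_inv T hi hv]
  exact ⟨fun h => (LargeFischer.bv_inj (matOf_lt _ v) hv h).symm, fun h => by rw [← h]⟩

variable {T}
variable (hT : ∀ σ : ↥M24, σ * σ = 1 → σ ≠ 1 → CritAt T σ)

include hT in
theorem zB_iff {i m : ℕ} (hi : i < 2872) (hm : comBits (imgPairs (matOf (invC i))) = m) {v : ℕ} (hv : v < 2048) :
    IsConj z (T.el (bv v) (sI i)) ↔ zB (idB (invC i)) m (v, mapp (matOf (invC i)) v) = true := by
  rw [z_iff hT, ZC, act_fix_iff T hi hv, and_iff_right (sI_sq hi), zB, Bool.and_eq_true, Nat.beq_eq]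
  refine and_congr Iff.rfl ?_
  rw [isCom_code T (inv_facts hi).1 (sI_val hi) hv, hm]
  by_cases h1 : sI i = 1
  · rw [(idB_sI hi).2 h1, cond_true, Bool.and_eq_true, Bool.not_eq_true', Bool.not_eq_true',
      ← Bool.not_eq_true, ← Bool.not_eq_true, Nat.beq_eq, ← duad_bit hv]
    have h0 : bv v ≠ 0 ↔ v ≠ 0 := by
      refine not_congr ⟨fun e => LargeFischer.bv_inj hv (by norm_num) (e.trans LargeFischer.bv_zero.symm), ?_⟩
      rintro rfl; exact LargeFischer.bv_zero
    simp only [h1, true_and, ne_eq, not_true_eq_false, false_and, or_false]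
    exact and_congr h0 Iff.rfl
  · rw [Bool.eq_false_iff.2 fun h => h1 ((idB_sI hi).1 h), cond_false]
    simp [h1]

include hT in
theorem tBit_iff {j m : ℕ} (hj : j < 2872) (hm : comBits (imgPairs (matOf (invC j))) = m) {v : ℕ} (hv : v < 2048) :
    IsConj (uD T) (T.el (bv v) (sI j)) ↔ tBit (idB (invC j)) m (v, mapp (matOf (invC j)) v) = true := by
  rw [t_iff hT, TC, act_fix_iff T hj hv, and_iff_right (sI_sq hj), tBit, Bool.and_eq_true, Nat.beq_eq]
  refine and_congr Iff.rfl ?_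
  rw [isCom_code T (inv_facts hj).1 (sI_val hj) hv, hm]
  by_cases h1 : sI j = 1
  · rw [(idB_sI hj).2 h1, cond_true, ← duad_bit hv]
    simp [h1]
  · rw [Bool.eq_false_iff.2 fun h => h1 ((idB_sI hj).1 h), cond_false]
    simp [h1]

theorem order_code {c k : ℕ} (hok : rep24.Ok c) (h : ordB c k = true) : orderOf (rep24.den c) = k := by
  simp only [ordB, Bool.and_eq_true, Nat.blt_eq, allBelow_eq_true, Bool.or_eq_true, Nat.beq_eq,
    Bool.not_eq_true'] at h
  obtain ⟨⟨hk, h1⟩, h2⟩ := h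
  rw [orderOf_eq_iff hk]
  refine ⟨?_, fun m hm hm0 e => ?_⟩
  · rw [← (rep24.powCode_spec hok k).2]
    exact (idB_iff (rep24.powCode_spec hok k).1).1 h1
  · have h := (h2 m hm).resolve_left (by omega)
    rw [(idB_iff (rep24.powCode_spec hok m).1).2 (by rw [(rep24.powCode_spec hok m).2, e])] at h
    exact Bool.noConfusion h

include hT in
/-- **One representative pair.** -/
theorem eval_pair {t : ℕ} (ht : t < 4) {d : ℕ × ℕ × List ℕ × ℕ × List ℕ × ℕ × ℕ} (h : pairB t d = true) :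
    nPair T (repMats.getD t (0, [], 0)).1 d.1 = d.2.2.2.2.2.2 := by
  classical
  obtain ⟨j, k, Bm, mb, N, hh, val⟩ := d
  have hrow := allBelow_eq_true.1 row_ok t ht
  simp only [rowB, Bool.and_eq_true, Nat.blt_eq, Nat.beq_eq, beq_iff_eq] at hrow
  obtain ⟨⟨⟨⟨hi, hA⟩, hma⟩, -⟩, -⟩ := hrow
  simp only [pairB, Bool.and_eq_true, Nat.blt_eq, Nat.beq_eq, beq_iff_eq] at h
  obtain ⟨⟨⟨⟨⟨⟨hj, hord⟩, hB⟩, hmb⟩, hN⟩, hhist⟩, hcount⟩ := h
  have hfew := allBelow_eq_true.1 few_z t ht
  rw [Nat.blt_eq] at hfew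
  set i := (repMats.getD t (0, [], 0)).1
  set ma := (repMats.getD t (0, [], 0)).2.2
  rw [← hA] at hma hN hhist hcount hfew
  rw [← hB] at hmb hN hcount
  set A := matOf (invC i) with hAdef
  set Bj := matOf (invC j) with hBdef
  have hok : rep24.Ok (rep24.mul (invC i) (invC j)) := rep24.ok_mul _ _ (inv_facts hi).1 (inv_facts hj).1
  have hk : orderOf (sI i * sI j) = k := by
    rw [← Subgroup.orderOf_coe, Subgroup.coe_mul, sI_val hi, sI_val hj,
      ← rep24.den_mul _ _ (inv_facts hi).1 (inv_facts hj).1]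
    exact order_code hok hord
  have hR : ∀ v < 2048, T.act (sI i * sI j) (bv v) = bv (mapp A (mapp Bj v)) := fun v hv => by
    rw [T.act_mul, act_inv T hj hv, act_inv T hi (matOf_lt _ v)]
  have hAlt : ∀ v, mapp A v < 2048 := matOf_lt _
  have hmapN : ∀ v < 2048, bv (mapp N v) = sumA T (sI i * sI j) k (bv v) ∧ mapp N v < 2048 := fun v hv => by
    rw [← hN, sumMat_spec A Bj k hv]
    exact sumA_code T hR hAlt k v hv
  have hNlt : ∀ v, mapp N v < 2048 := by
    refine mapp_lt _ fun c hc => ?_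
    rw [← hN, sumMat, List.mem_map] at hc
    obtain ⟨b, hb, rfl⟩ := hc
    exact (sumA_code T hR hAlt k _ (Nat.pow_lt_pow_right (by norm_num) (List.mem_range.1 hb))).2
  have hcond : ∀ a < 2048, ∀ b < 2048, (PairCond T i j (bv a, bv b) ↔
      (zB (idB (invC i)) ma (a, mapp A a) = true ∧ tBit (idB (invC j)) mb (b, mapp Bj b) = true) ∧
        mapp N a = Nat.xor 1 (mapp N (mapp A b))) := fun a ha b hb => by
    rw [PairCond, zB_iff hT hi hma ha, tBit_iff hT hj hmb hb, and_assoc]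
    refine and_congr Iff.rfl (and_congr Iff.rfl ?_)
    rw [T.el_mul, uD_mem_iff T hk, act_inv T hi hb, ← LargeFischer.bv_xor,
      ← (hmapN _ (LargeFischer.xor_lt11 ha (hAlt b))).1, mapp_xor]
    show bv (mapp N a ^^^ mapp N (mapp A b)) = bv 1 ↔ mapp N a = 1 ^^^ mapp N (mapp A b)
    refine ⟨fun e => ?_, fun e => by rw [e, Nat.xor_assoc, Nat.xor_self, Nat.xor_zero]⟩
    have := LargeFischer.bv_inj (LargeFischer.xor_lt11 (hNlt _) (hNlt _)) (by norm_num) e
    rw [← this, Nat.xor_assoc, Nat.xor_self, Nat.xor_zero]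
  set Fa := fun b => (Finset.range (2 ^ 11)).filter fun a => tBit (idB (invC j)) mb (b, mapp Bj b) = true ∧
    zB (idB (invC i)) ma (a, mapp A a) = true ∧ mapp N a = Nat.xor 1 (mapp N (mapp A b))
  have hpow : ∀ {a : ℕ}, a < 2 ^ 11 ↔ a < 2048 := Iff.rfl
  have hcard : nPair T i j = ((Finset.range (2 ^ 11)).sigma Fa).card := by
    refine Eq.symm ?_
    rw [← Nat.card_eq_finsetCard]
    refine Nat.card_eq_of_bijective (fun s => ⟨(bv s.1.2, bv s.1.1), ?_⟩) ⟨fun s s' e => ?_, fun p => ?_⟩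
    · obtain ⟨hb, ha⟩ := Finset.mem_sigma.1 s.2
      obtain ⟨ha, h1, h2, h3⟩ := Finset.mem_filter.1 ha
      exact (hcond _ (hpow.1 (Finset.mem_range.1 ha)) _ (hpow.1 (Finset.mem_range.1 hb))).2 ⟨⟨h2, h1⟩, h3⟩
    · obtain ⟨⟨b, a⟩, hs⟩ := s
      obtain ⟨⟨b', a'⟩, hs'⟩ := s'
      obtain ⟨e1, e2⟩ := Prod.mk.inj (congrArg Subtype.val e)
      obtain ⟨hb, ha⟩ := Finset.mem_sigma.1 hs
      obtain ⟨hb', ha'⟩ := Finset.mem_sigma.1 hs'
      obtain rfl := LargeFischer.bv_inj (hpow.1 (Finset.mem_range.1 (Finset.mem_filter.1 ha).1))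
        (hpow.1 (Finset.mem_range.1 (Finset.mem_filter.1 ha').1)) e1
      obtain rfl := LargeFischer.bv_inj (hpow.1 (Finset.mem_range.1 hb)) (hpow.1 (Finset.mem_range.1 hb')) e2
      rfl
    · obtain ⟨⟨x, y⟩, hp⟩ := p
      obtain ⟨a, ha, rfl⟩ := bv_surj x
      obtain ⟨b, hb, rfl⟩ := bv_surj y
      obtain ⟨⟨h2, h1⟩, h3⟩ := (hcond a ha b hb).1 hp
      exact ⟨⟨⟨b, a⟩, Finset.mem_sigma.2 ⟨Finset.mem_range.2 (hpow.2 hb),
        Finset.mem_filter.2 ⟨Finset.mem_range.2 (hpow.2 ha), h1, h2, h3⟩⟩⟩, rfl⟩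
  rw [hcard, Finset.card_sigma, ← hcount, countH_eq, imgPairs_eq, List.map_map, matOf_length, sum_range_list]
  dsimp only [Fa, Function.comp_def]
  refine Finset.sum_congr rfl fun b hb => ?_
  cases hb' : tBit (idB (invC j)) mb (b, mapp Bj b)
  · rw [if_neg Bool.false_ne_true]
    refine Finset.card_eq_zero.2 (Finset.filter_eq_empty_iff.2 fun a _ h => ?_)
    exact Bool.false_ne_true h.1
  · rw [if_pos rfl, ← hhist, hist_eq _ _ _ hNlt 2048 rfl, getField_pack _ _ _ (fun x _ =>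
      lt_of_le_of_lt ?_ hfew) (show Nat.xor 1 (mapp N (mapp A b)) < 2048 from LargeFischer.xor_lt11 (by norm_num) (hNlt _)), cntZ, imgPairs_eq,
      List.countP_map, matOf_length, countP_range]
    · refine congrArg Finset.card (Finset.filter_congr fun a _ => ?_)
      rw [Function.comp_apply, Bool.and_eq_true, Nat.beq_eq]
      exact ⟨fun h => ⟨h.2.1, h.2.2⟩, fun h => ⟨rfl, h⟩⟩
    · exact List.countP_mono_left fun p _ hp => ((Bool.and_eq_true _ _).mp hp).1

variable (T)

theorem invAct_facts {t : ℕ} (ht : t < 4) {w : List ℕ} (hw : w ∈ treeWords.getD t []) :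
    (∀ g ∈ w, g < 2) ∧ invAct w (repMats.getD t (0, [], 0)).1 = (repMats.getD t (0, [], 0)).1 :=
  tree_words ht w hw

variable {T}

include hT in
/-- **One representative row.** -/
theorem eval_row {t : ℕ} (ht : t < 4) :
    ∑ j ∈ Finset.range 2872, nPair T (repMats.getD t (0, [], 0)).1 j = rowSums.getD t 0 := by
  have hrow := allBelow_eq_true.1 row_ok t ht
  simp only [rowB, Bool.and_eq_true, Nat.blt_eq, Nat.beq_eq, beq_iff_eq] at hrow
  obtain ⟨⟨⟨⟨hi, -⟩, -⟩, hroots⟩, hsum⟩ := hrow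
  rw [← hsum, sumB_eq]
  refine Finset.sum_congr rfl fun j hj => ?_
  refine tree_ind ht (Pr := fun j => nPair T (repMats.getD t (0, [], 0)).1 j = valT t (labT t j)) ?_ ?_
    j (Finset.mem_range.1 hj)
  · intro o ho hlab
    rw [hlab]
    have hlen : o < (pairData t).length := by rwa [← hroots, List.length_map] at ho
    have he : (treeRoots.getD t []).getD o 0 = ((pairData t).getD o (0, 0, [], 0, [], 0, 0)).1 := by
      rw [← hroots, List.getD_eq_getElem _ _ (by rwa [List.length_map]), List.getElem_map,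
        List.getD_eq_getElem _ _ hlen]
    rw [he, valT]
    refine eval_pair hT ht ?_
    have hall : ∀ d ∈ pairData t, pairB t d = true := by
      interval_cases t
      exacts [List.all_eq_true.1 pairs_ok_0, List.all_eq_true.1 pairs_ok_1, List.all_eq_true.1 pairs_ok_2,
        List.all_eq_true.1 pairs_ok_3]
    refine hall _ ?_
    rw [List.getD_eq_getElem _ _ hlen]
    exact List.getElem_mem _
  · intro w hw p hp _ hlab hPr
    obtain ⟨hw2, hfix⟩ := invAct_facts ht hw
    have h := nPair_act T w hw2 hi hp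
    rw [hfix] at h
    show nPair T _ (invAct w p) = valT t (labT t (invAct w p))
    rw [hlab, h]
    exact hPr

include hT in
theorem card_gPair_eq : Nat.card (GPair T) = 1544188503 := by
  have htot := total_ok
  simp only [totalB, Bool.and_eq_true, Nat.beq_eq, beq_iff_eq] at htot
  obtain ⟨⟨hroots, hsum⟩, -⟩ := htot
  rw [card_gPair, ← hsum, sumB_eq]
  refine Finset.sum_congr rfl fun i hi => ?_
  refine tree_ind (t := 0) (by norm_num)
    (Pr := fun i => ∑ j ∈ Finset.range 2872, nPair T i j = rowSums.getD (labT 0 i) 0) ?_ ?_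
    i (Finset.mem_range.1 hi)
  · intro o ho hlab
    rw [hlab]
    have ho4 : o < repMats.length := by rwa [← hroots, List.length_map] at ho
    have he : (treeRoots.getD 0 []).getD o 0 = (repMats.getD o (0, [], 0)).1 := by
      rw [← hroots, List.getD_eq_getElem _ _ (by rwa [List.length_map]), List.getElem_map,
        List.getD_eq_getElem _ _ ho4]
    rw [he]
    exact eval_row hT (ho4.trans_le (le_of_eq rfl))
  · intro w hw p hp _ hlab hPr
    have h := (invAct_ind (Pr := fun i => ∑ j ∈ Finset.range 2872, nPair T i j =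
      ∑ j ∈ Finset.range 2872, nPair T p j) (fun g hg i hi h => (row_img T hg hi).trans h) w
      (invAct_facts (by norm_num) hw).1 p hp rfl).1
    show ∑ j ∈ Finset.range 2872, nPair T (invAct w p) j = rowSums.getD (labT 0 (invAct w p)) 0
    rw [hlab, h]
    exact hPr

/-- **The pairs of a conjugate of `z` and a conjugate of `tt` whose product has `tt` as a power.** -/
theorem card_pairs_tt (F : Frame S) (hF : F.Good) :
    Nat.card {p : G × G // IsConj z p.1 ∧ IsConj F.tt p.2 ∧ F.tt ∈ zpowers (p.1 * p.2)} = 1544188503 := by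
  obtain ⟨T, rfl, hT⟩ := exists_crit F hF
  obtain ⟨n, -, hn⟩ := exists_conj_tt T.F hF duad_one
  change cj n T.F.tt = uD T at hn
  rw [cj_apply] at hn
  rw [← card_gPair_eq hT]
  let e : G ≃ G := (MulAut.conj n).toEquiv
  refine Nat.card_congr ((e.prodCongr e).subtypeEquiv fun p => ?_)
  show IsConj z p.1 ∧ IsConj T.F.tt p.2 ∧ T.F.tt ∈ zpowers (p.1 * p.2) ↔
    IsConj z (n * p.1 * n⁻¹) ∧ IsConj (uD T) (n * p.2 * n⁻¹) ∧
      uD T ∈ zpowers (n * p.1 * n⁻¹ * (n * p.2 * n⁻¹))
  rw [isConj_conj_iff, isConj_conj_iff, ← hn,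
    show n * p.1 * n⁻¹ * (n * p.2 * n⁻¹) = n * (p.1 * p.2) * n⁻¹ by group]
  refine and_congr Iff.rfl (and_congr ⟨fun h => ?_, fun h => ?_⟩ ?_)
  · exact (isConj_iff.2 ⟨n, rfl⟩ : IsConj T.F.tt (n * T.F.tt * n⁻¹)).symm.trans h
  · exact (isConj_iff.2 ⟨n, rfl⟩ : IsConj T.F.tt (n * T.F.tt * n⁻¹)).trans h
  rw [mem_zpowers_iff, mem_zpowers_iff]
  refine exists_congr fun k => ?_
  rw [conj_zpow]
  exact ⟨fun h => by rw [h], fun h => mul_left_cancel (mul_right_cancel h)⟩

end Cfsg.Agent.J4Type.Order
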