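import Cfsg.Agent.J4Type.Order.ZClasses
import Cfsg.Agent.J4Type.Order.CountT
import Cfsg.Agent.J4Type.V11.Setup

/-!
# The order of a group of Janko-four type
-/

set_option autoImplicit false

open Cfsg Subgroup

namespace Cfsg.Agent.J4Type.Order

open V11

/-- A simple group of Janko-four type has the order of `J₄` and two classes of involutions. -/
theorem isJ4_of_type {G : Type*} [Group G] [Finite G] [IsSimpleGroup G] (hG : ¬ IsMulCommutative G)
    (hJ : IsOfJankoFourType G) : IsJ4 G ∧ ∃ x y : G, orderOf x = 2 ∧ orderOf y = 2 ∧ ¬ IsConj x y ∧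
      ∀ z : G, orderOf z = 2 → IsConj z x ∨ IsConj z y := by
  obtain ⟨z, P, hJ⟩ := hJ
  obtain ⟨B, S⟩ := exists_sys hG hJ
  obtain ⟨F, hF⟩ := Frame.exists_good S
  exact ⟨isJ4_of_counts F hF (AZ.card_pairs_z hF) (card_pairs_tt F hF), two_classes F hF⟩

/-- The order. -/
theorem card_of_type {G : Type*} [Group G] [Finite G] [IsSimpleGroup G] (hG : ¬ IsMulCommutative G)
    (hJ : IsOfJankoFourType G) : Nat.card G = 86775571046077562880 :=
  (isJ4_of_type hG hJ).1.2

end Cfsg.Agent.J4Type.Order
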