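import Cfsg.Agent.J4Type.Order.CountTLists
import Cfsg.Agent.TenLocal.Classify
import Cfsg.Agent.TenLocal.Types
import Cfsg.Agent.TenLocal.Split

/-!
# The two classes of involutions on the split extension
-/

set_option autoImplicit false
set_option maxRecDepth 100000

open Cfsg Subgroup

namespace Cfsg.Agent.J4Type.Order

open LargeExtra (oc oc_le)
open LargeFischer (W11 pt IsDuad bv)
open J4Type (mSub)
open J4Type.V11
open Cfsg.Agent.Compute (rep24 bitB allBelow allBelow_eq_true syl2Reps)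
open TenLocal

/-- The commutators of the first translation. -/
def maskA : ℕ := 0x84000000000200000000001000000000120000000004000000000080000000000000000000000000000000000000000000000000000000000000000000000000000000000000000000000000000000000000000000000000000000000000000000000000000000000000000000000000000000000000000000000000000000000000000000000000000000000000000000000000000000000000000000000010000200000400000000000000800000800004000002000000000000001

/-- The commutators of the second involution. -/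
def maskB : ℕ := 0x18420000000000000000000000000000000000000000000000000000000000000000000000000000000024810000000000000000000000000000000000000000000000000000000042180000000000000000000000000000000000000000000000008124000000000000000000000000000000000000000000000000000000000000000000000000000000000000000042180000000000000000812400000000000000000000000000000000000000000000000000000000184200000000000000000000000000000000000000000000000000000000000000000000000000000000000000000000000000000000000000002481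

theorem class_ok : (Nat.beq (comBits (imgPairs (matOf (Oct.rC 1)))) maskA &&
    allBelow 1024 (fun n => !(Nat.beq (Oct.mOf n) 1) || (bitB Oct.oMask2 n == bitB maskA (Oct.uOf n))) &&
    Nat.beq (comBits (imgPairs (matOf (ePerm.getD 1 0)))) maskB &&
    !(bitB maskB 1360) && Nat.beq (Nat.xor (vpL.getD 4 0) (vpL.getD (rep24.act (ePerm.getD 1 0) 4) 0)) 1360 &&
    (imgPairs (matOf (ePerm.getD 1 0))).all (fun p =>
      !(Nat.beq p.1 p.2) || bitB maskB p.1 || bitB maskB (Nat.xor p.1 1360)) &&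
    (List.range 24).any (fun i => Nat.beq (rep24.act (syl2Reps.getD 0 rep24.one) i) i) &&
    (List.range 24).any (fun i => Nat.beq (rep24.act (Oct.rC 1) i) i) &&
    allBelow 24 (fun i => !(Nat.beq (rep24.act (syl2Reps.getD 1 rep24.one) i) i)) &&
    allBelow 24 (fun i => !(Nat.beq (rep24.act (ePerm.getD 1 0) i) i)) &&
    Compute.inM24B (ePerm.getD 1 0) &&
    allBelow 2 (fun j => Compute.inM24B (syl2Reps.getD j rep24.one))) = true := by decide +kernel

theorem lift_codes : (bitB Orbits.Short.orbBits 43 && bitB Orbits.Long.orbBits (Nat.xor 43 (wv 1)) &&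
    !(Orbits.qb (Nat.xor 43 (wv 1))) && Nat.beq (eVec.getD 1 0) 43) = true := by decide +kernel

variable {G : Type*} [Group G] [Finite G] {z : G} {P : Subgroup G} {V : Type*} [AddCommGroup V]
  {π : ↥(oc z) →* Multiplicative V} {ρ : ↥(mSub z P) →* Equiv.Perm V} {q : V → ZMod 2} {B : List V}
  {S : Sys z P π ρ q B}

/-- A section for a given frame. -/
theorem exists_sect_of (F : Frame S) (hF : F.Good) : ∃ T : Sect S, T.F = F := by
  obtain ⟨K, hK, h1, h2, -⟩ := F.exists_split hF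
  let f : ↥K →* ↥M24 := (F.theta hF).comp (inclusion hK)
  have hinj : Function.Injective f := (injective_iff_map_eq_one f).2 fun k hk => by
    have h : inclusion hK k ∈ (F.theta hF).ker := hk
    rw [F.theta_ker hF, mem_subgroupOf] at h
    have h' : (k : G) ∈ K ⊓ F.grp := ⟨k.2, h⟩
    rw [h1, mem_bot] at h'
    exact Subtype.ext h'
  have hsurj : Function.Surjective f := fun σ => by
    obtain ⟨n, hn⟩ := F.theta_surjective hF σ
    have hmem : (n : G) ∈ ((F.grp ⊔ K : Subgroup G) : Set G) := by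
      rw [SetLike.mem_coe, sup_comm, h2]; exact n.2
    rw [coe_mul_of_right_le_normalizer_left F.grp K hK] at hmem
    obtain ⟨a, ha, k, hk, e⟩ := hmem
    refine ⟨⟨k, hk⟩, ?_⟩
    have he : n = ⟨a, F.grp_le_nrm ha⟩ * inclusion hK ⟨k, hk⟩ := Subtype.ext e.symm
    have hker : (⟨a, F.grp_le_nrm ha⟩ : ↥F.nrm) ∈ (F.theta hF).ker := by
      rw [F.theta_ker hF, mem_subgroupOf]; exact ha
    rw [← hn, he, map_mul, MonoidHom.mem_ker.1 hker, one_mul]
    rfl
  let e : ↥K ≃* ↥M24 := MulEquiv.ofBijective f ⟨hinj, hsurj⟩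
  exact ⟨⟨F, hF, (inclusion hK).comp e.symm.toMonoidHom, fun σ => e.apply_symm_apply σ⟩, rfl⟩

variable (T : Sect S)

/-- The other section. -/
noncomputable def twist : Sect S where
  F := T.F
  good := T.good
  kap := MonoidHom.mk' (fun σ => ⟨T.el (Sect.coc σ) σ, T.el_mem _ _⟩) fun σ τ =>
    Subtype.ext (by rw [Subgroup.coe_mul, T.el_mul, T.coc_mul])
  spec σ := T.theta_el _ σ

theorem twist_el (w : W11) (σ : ↥M24) : (twist T).el w σ = T.el (w + Sect.coc σ) σ := by
  show wg T.F w * T.el (Sect.coc σ) σ = T.el (w + Sect.coc σ) σ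
  rw [Sect.el, Sect.el, ← mul_assoc, wg_add]

theorem act_twist (σ : ↥M24) (w : W11) : (twist T).act σ w = T.act σ w :=
  acts_unique ((twist T).acts σ) (T.acts σ) w

/-- A commutator of the permutation. -/
def IsCom (σ : ↥M24) (w : W11) : Prop := ∃ x, w = x + T.act σ x

/-- The lifts of one involution in the class of `z`. -/
def CritAt (σ : ↥M24) : Prop := ∀ w, T.act σ w = w → (IsConj z (T.el w σ) ↔ IsCom T σ w)

theorem wg_eq (w : W11) : wg T.F w = T.el w 1 := by
  rw [Sect.el, map_one, Subgroup.coe_one, mul_one]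

theorem isConj_shift {σ : ↥M24} {a b : W11} (h : IsCom T σ (a + b)) :
    IsConj (T.el a σ) (T.el b σ) := by
  obtain ⟨x, hx⟩ := h
  refine isConj_iff.2 ⟨T.el x 1, ?_⟩
  rw [T.el_conj, one_mul, inv_one, mul_one, T.act_one]
  congr 1
  calc x + a + T.act σ x = a + (x + T.act σ x) := by abel
    _ = b := by rw [← hx, ← add_assoc, LargeFischer.self11, zero_add]

theorem act_inv_act (g : ↥M24) (w : W11) : T.act g (T.act g⁻¹ w) = w := by
  rw [← T.act_mul, mul_inv_cancel, T.act_one]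

theorem isCom_conj (g σ : ↥M24) (w : W11) : IsCom T σ w → IsCom T (g * σ * g⁻¹) (T.act g w) := by
  rintro ⟨x, rfl⟩
  refine ⟨T.act g x, ?_⟩
  rw [map_add, T.act_mul, T.act_mul, ← T.act_mul g⁻¹ g, inv_mul_cancel, T.act_one]

theorem CritAt.conj {σ : ↥M24} (h : CritAt T σ) (g : ↥M24) : CritAt T (g * σ * g⁻¹) := by
  intro w hw
  set v := T.act g⁻¹ w with hv
  have hgv : T.act g v = w := act_inv_act T g w
  have hfix : T.act σ v = v := by
    have := congrArg (T.act g⁻¹) hw
    rwa [← T.act_mul, show g⁻¹ * (g * σ * g⁻¹) = σ * g⁻¹ by group, T.act_mul, ← hv] at this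
  have hconj : T.el w (g * σ * g⁻¹) = T.el 0 g * T.el v σ * (T.el 0 g)⁻¹ := by
    rw [T.el_conj, map_zero, zero_add, add_zero, hgv]
  rw [hconj, isConj_conj_iff, h v hfix]
  refine ⟨fun hc => hgv ▸ isCom_conj T g σ v hc, fun hc => ?_⟩
  have := isCom_conj T g⁻¹ _ w hc
  rwa [← hv, show g⁻¹ * (g * σ * g⁻¹) * g⁻¹⁻¹ = σ by group] at this

theorem isCom_code {c : ℕ} (hok : rep24.Ok c) {σ : ↥M24} (hσ : (σ : Equiv.Perm GolayPt) = rep24.den c)
    {v : ℕ} (hv : v < 2048) : IsCom T σ (bv v) ↔ bitB (comBits (imgPairs (matOf c))) v = true := by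
  have hL : Acts (rep24.den c) (T.act σ) := hσ ▸ T.acts σ
  rw [com_iff (matOf_length c)]
  constructor
  · rintro ⟨x, hx⟩
    obtain ⟨u, hu, rfl⟩ := bv_surj x
    rw [matOf_spec hok _ hL hu, ← LargeFischer.bv_xor] at hx
    exact ⟨u, hu, (LargeFischer.bv_inj hv (LargeFischer.xor_lt11 hu (matOf_lt c u)) hx).symm⟩
  · rintro ⟨u, hu, rfl⟩
    exact ⟨bv u, by rw [matOf_spec hok _ hL hu, LargeFischer.bv_xor]⟩

theorem critAt_A : CritAt T (rEl 1) := by
  intro w hw
  obtain ⟨v, hv, rfl⟩ := bv_surj w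
  obtain ⟨hok, -, -, -⟩ := r_facts (m := 1) (by norm_num)
  have hfix : mapp (matOf (Oct.rC 1)) v = v := by
    rw [T.act_rEl (by norm_num) hv] at hw
    exact LargeFischer.bv_inj (matOf_lt _ v) hv hw
  have hval : ((rEl 1 : ↥M24) : Equiv.Perm GolayPt) = rep24.den (Oct.rC 1) := rEl_val (by norm_num)
  have hc := class_ok
  simp only [Bool.and_eq_true, allBelow_eq_true, Nat.beq_eq] at hc
  obtain ⟨⟨⟨⟨⟨⟨⟨⟨⟨⟨⟨hmask, htab⟩, -⟩, -⟩, -⟩, -⟩, -⟩, -⟩, -⟩, -⟩, -⟩, -⟩ := hc
  obtain ⟨u, hu, hcom⟩ : ∃ u, Oct.inU u = true ∧ IsCom T (rEl 1) (bv v + bv u) := by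
    rcases fixed_cases (m := 1) (by norm_num) (by norm_num) hv hfix with h | h
    · exact ⟨v, h, 0, by rw [map_zero, add_zero, LargeFischer.self11]⟩
    · refine ⟨_, h, bv TenLocal.Oct.wTop, ?_⟩
      rw [T.act_rEl (by norm_num) TenLocal.wTop_lt, ← LargeFischer.bv_xor, ← LargeFischer.bv_xor,
        ← Nat.xor_assoc, Nat.xor_self, Nat.zero_xor]
      rfl
  obtain ⟨n, hn, e1, e2⟩ := exists_coord hu (m := 1) (by norm_num)
  have hn0 : n ≠ 0 := fun h => by
    rw [h, show Oct.mOf 0 = 0 from mapp_zero _] at e2; exact zero_ne_one e2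
  obtain ⟨hcls, -⟩ := T.classes_std fun A hA hcA hCA hle => conj_std_of_le T hA hcA hCA hle
  have hz := hcls n hn hn0
  rw [Sect.sEl, e1, e2] at hz
  have hm0 : Oct.oMask0.testBit n ≠ true := fun h => by
    rw [(sort_facts.2.1 n hn h).1] at e2; exact zero_ne_one e2
  have ht := htab n hn
  rw [e2, e1, show Nat.beq 1 1 = true from rfl, Bool.not_true, Bool.false_or, beq_iff_eq, Compute.bitB_eq] at ht
  have hu' : u < 2048 := (inU_lt hu).trans (by norm_num)
  have hcu : IsCom T (rEl 1) (bv u) ↔ IsCom T (rEl 1) (bv v) := by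
    obtain ⟨x, hx⟩ := hcom
    constructor <;> rintro ⟨y, hy⟩ <;> refine ⟨x + y, ?_⟩ <;>
      rw [map_add, show x + y + (T.act (rEl 1) x + T.act (rEl 1) y) =
        (x + T.act (rEl 1) x) + (y + T.act (rEl 1) y) by abel, ← hx, ← hy]
    · rw [add_assoc, LargeFischer.self11, add_zero]
    · rw [add_comm (bv v), add_assoc, LargeFischer.self11, add_zero]
  rw [← hcu, isCom_code T hok hval hu', hmask, ← ht]
  refine ⟨fun h => ?_, fun h => ?_⟩
  · exact (hz.1 (h.trans (isConj_shift T hcom))).resolve_left hm0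
  · exact (hz.2 (Or.inr h)).trans (isConj_shift T hcom).symm

/-- Two lifts of the two kinds of the second involution. -/
theorem exists_lifts : ∃ (σ : ↥M24) (a b : W11), (σ : Equiv.Perm GolayPt) = rep24.den (ePerm.getD 1 0) ∧
    T.act σ a = a ∧ T.act σ b = b ∧ IsConj z (T.el a σ) ∧ ¬ IsConj z (T.el b σ) := by
  obtain ⟨e, he, he2, hev, hθ⟩ := T.F.theta_eVec T.good (j := 1) (by norm_num)
  have hl := lift_codes
  simp only [Bool.and_eq_true, Bool.not_eq_true', Nat.beq_eq] at hl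
  obtain ⟨⟨⟨hs, hlong⟩, hq⟩, h43⟩ := hl
  rw [h43] at hev
  obtain ⟨a, ha⟩ := T.exists_el e.2
  have hθ' : T.F.theta T.good ⟨(e : G), e.2⟩ = T.F.theta T.good e := rfl
  rw [hθ'] at ha
  set σ := T.F.theta T.good e with hσ
  obtain ⟨w, hw⟩ := exists_wg T.F (T.F.phi_mem (x := 1) (by norm_num))
  have hy : (e : G) * T.F.phi 1 = T.el (a + T.act σ w) σ := by
    rw [← hw, wg_eq, ha, T.el_mul, mul_one]
  have hσ2 : σ * σ = 1 := by
    rw [hσ, ← map_mul, show e * e = 1 from Subtype.ext he2, map_one]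
  have hfix : ∀ {c : W11}, T.el c σ * T.el c σ = 1 → T.act σ c = c := fun {c} h => by
    rw [T.el_mul, hσ2, ← T.el_one] at h
    exact (LargeFischer.eq_of_add11 (T.el_inj h).1).symm
  have hphi := T.F.phi_oc (k := 1) (by norm_num)
  have hymem : (e : G) * T.F.phi 1 ∈ oc z := mul_mem he hphi
  have hyv : vec π ((e : G) * T.F.phi 1) = Rep.lin B (43 ^^^ wv 1) := by
    rw [vec_mul he hphi, hev, T.F.vec_phi (by norm_num), Rep.lin_xor S.M.two]
  have hlt : 43 ^^^ wv 1 < 4096 := Nat.xor_lt_two_pow (n := 12) (by norm_num) (wv_lt 1)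
  have hy2 : (e : G) * T.F.phi 1 * ((e : G) * T.F.phi 1) = 1 := by
    have h := S.sq_code hymem hlt hyv
    rw [show Orbits.qb (43 ^^^ wv 1) = false from hq] at h
    exact h
  rw [hy] at hy2
  refine ⟨σ, a, a + T.act σ w, hθ, hfix (by rw [← ha]; exact he2), hfix hy2, ?_, ?_⟩
  · rw [← ha]
    obtain ⟨γ, hγ, eγ⟩ := Orbits.short.reach S.M (bitB_short hs)
    obtain ⟨-, -, hT, h0⟩ := long_base
    refine ((T.F.conj_low (lt_trans (wc_lt 7) (by norm_num)) h0).2 hT).trans
      (T.F.isConj_of_img (wc_lt 7) h0 hγ ?_ he hev)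
    rw [seven_coord]; exact eγ
  · rw [← hy]
    intro hz
    obtain ⟨γ₁, hγ₁, e₁⟩ := Orbits.long.reach S.M (bitB_short hlong)
    obtain ⟨γ₂, hγ₂, e₂⟩ := Orbits.long.reach S.M long_base.1
    have h58 := T.F.isConj_of_img (k := 58) (r := 43 ^^^ wv 1) (by norm_num) (by norm_num)
      (mul_mem hγ₁ (inv_mem hγ₂))
      (by rw [Equiv.Perm.mul_apply, Equiv.Perm.inv_def, ← e₂, Equiv.symm_apply_apply, e₁]; rfl) hymem hyv
    exact T.F.sec_58.2 (hz.trans h58.symm)
where
  bitB_short {n r : ℕ} (h : bitB n r = true) : Orbits.bit n r = true :=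
    Orbits.bit_iff.2 ((Compute.bitB_eq n r).symm.trans h)

theorem critAt_B_of (T : Sect S) {σ : ↥M24} (hσ : (σ : Equiv.Perm GolayPt) = rep24.den (ePerm.getD 1 0))
    {a b : W11} (ha : T.act σ a = a) (hb : T.act σ b = b)
    (hza : IsConj z (T.el a σ)) (hzb : ¬ IsConj z (T.el b σ)) :
    (IsCom T σ a → CritAt T σ) ∧ (¬ IsCom T σ a → IsCom T σ (a + Sect.coc σ)) := by
  have hc := class_ok
  simp only [Bool.and_eq_true, Nat.beq_eq, List.all_eq_true] at hc
  obtain ⟨⟨⟨⟨⟨⟨⟨⟨⟨⟨⟨-, -⟩, hmask⟩, hnot⟩, hcoc⟩, hall⟩, -⟩, -⟩, -⟩, -⟩, hM⟩, -⟩ := hc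
  obtain ⟨hok, -⟩ := Compute.mem_M24_of_check hM
  have hcc : Sect.coc σ = bv 1360 := by
    rw [Sect.coc, Sect.basePt, hσ, TenLocal.den_pt hok (by norm_num), ← pts_ok (by norm_num),
      ← pts_ok (rep24.act_lt _ _ hok (show 4 < 24 by norm_num)), ← LargeFischer.bv_xor]
    exact congrArg bv hcoc
  have hcases : ∀ w, T.act σ w = w → ¬ IsCom T σ w → IsCom T σ (w + Sect.coc σ) := by
    intro w hw hn
    obtain ⟨v, hv, rfl⟩ := bv_surj w
    have hfix : v = mapp (matOf (ePerm.getD 1 0)) v := by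
      rw [matOf_spec hok _ (hσ ▸ T.acts σ) hv] at hw
      exact (LargeFischer.bv_inj (matOf_lt _ v) hv hw).symm
    have h := hall (v, mapp (matOf (ePerm.getD 1 0)) v) ((mem_imgPairs (matOf_length _)).2 ⟨hv, rfl⟩)
    simp only [Bool.or_eq_true, Bool.not_eq_true'] at h
    rw [isCom_code T hok hσ hv, hmask] at hn
    rw [hcc, ← LargeFischer.bv_xor, isCom_code T hok hσ (LargeFischer.xor_lt11 hv (by norm_num)), hmask]
    exact (h.resolve_left fun h => h.elim (fun h' => by
      rw [← hfix, Nat.beq_refl] at h'; exact Bool.noConfusion h') hn)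
  refine ⟨fun hA => ?_, hcases a ha⟩
  have hB : ¬ IsCom T σ b := fun hB => hzb (hza.trans (isConj_shift T (by
    obtain ⟨x, rfl⟩ := hA
    obtain ⟨y, rfl⟩ := hB
    exact ⟨x + y, by rw [map_add]; abel⟩)))
  intro w hw
  by_cases hW : IsCom T σ w
  · refine ⟨fun _ => hW, fun _ => hza.trans (isConj_shift T ?_)⟩
    obtain ⟨x, rfl⟩ := hA
    obtain ⟨y, rfl⟩ := hW
    exact ⟨x + y, by rw [map_add]; abel⟩
  · refine ⟨fun hz => absurd (hz.trans (isConj_shift T ?_)) hzb, fun h => absurd h hW⟩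
    obtain ⟨x, hx⟩ := hcases w hw hW
    obtain ⟨y, hy⟩ := hcases b hb hB
    refine ⟨x + y, ?_⟩
    rw [map_add, show x + y + (T.act σ x + T.act σ y) = (x + T.act σ x) + (y + T.act σ y) by abel, ← hx, ← hy]
    rw [show w + Sect.coc σ + (b + Sect.coc σ) = w + b + (Sect.coc σ + Sect.coc σ) by abel,
      LargeFischer.self11, add_zero]

/-- Fixing a point. -/
theorem fix_conj {s t k : Equiv.Perm GolayPt} (h : k * s * k⁻¹ = t) : (∃ p, s p = p) ↔ ∃ p, t p = p := by
  subst h
  constructor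
  · rintro ⟨p, hp⟩; exact ⟨k p, by simp [hp]⟩
  · rintro ⟨p, hp⟩
    refine ⟨k⁻¹ p, k.injective ?_⟩
    simpa using hp

theorem fix_iff {c : ℕ} (hc : rep24.Ok c) :
    (∃ p, rep24.den c p = p) ↔ ∃ i < 24, rep24.act c i = i := by
  constructor
  · rintro ⟨p, hp⟩
    refine ⟨Compute.ptIdx p, Compute.ptIdx_lt p, ?_⟩
    have := congrArg Compute.ptIdx hp
    rwa [Compute.ptIdx_den hc] at this
  · rintro ⟨i, hi, e⟩
    exact ⟨rep24.pt i, by rw [TenLocal.den_pt hc hi, e]⟩

/-- **A section in which the commutators are exactly the lifts in the class of `z`.** -/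
theorem exists_crit (F : Frame S) (hF : F.Good) : ∃ T : Sect S, T.F = F ∧
    ∀ σ : ↥M24, σ * σ = 1 → σ ≠ 1 → CritAt T σ := by
  obtain ⟨T₀, h₀⟩ := exists_sect_of F hF
  obtain ⟨σB, a, b, hσB, ha, hb, hza, hzb⟩ := exists_lifts T₀
  obtain ⟨T, hTF, hB⟩ : ∃ T : Sect S, T.F = F ∧ CritAt T σB := by
    by_cases hA : IsCom T₀ σB a
    · exact ⟨T₀, h₀, (critAt_B_of T₀ hσB ha hb hza hzb).1 hA⟩
    · obtain ⟨x, hx⟩ := (critAt_B_of T₀ hσB ha hb hza hzb).2 hA
      have hfix : ∀ {w : W11}, T₀.act σB w = w →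
          T₀.act σB (w + Sect.coc σB) = w + Sect.coc σB → (twist T₀).act σB (w + Sect.coc σB) = w + Sect.coc σB :=
        fun _ h => by rw [act_twist]; exact h
      have hs : σB * σB = 1 := by
        have h := T₀.el_mul a a σB σB
        have h2 : T₀.el a σB * T₀.el a σB = 1 := by
          obtain ⟨g, hg⟩ := isConj_iff.1 hza
          rw [← hg, show g * z * g⁻¹ * (g * z * g⁻¹) = g * (z * z) * g⁻¹ by group, S.D.zz]; group
        rw [h2, ← T₀.el_one] at h
        exact (T₀.el_inj h).2.symm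
      have hcf : T₀.act σB (Sect.coc σB) = Sect.coc σB := by
        have h := T₀.coc_mul σB σB
        rw [hs, show Sect.coc (1 : ↥M24) = 0 from LargeFischer.self11 _] at h
        exact (LargeFischer.eq_of_add11 h).symm
      have he : ∀ w, (twist T₀).el (w + Sect.coc σB) σB = T₀.el w σB := fun w => by
        rw [twist_el, add_assoc, LargeFischer.self11, add_zero]
      refine ⟨twist T₀, h₀, (critAt_B_of (twist T₀) hσB (hfix ha (by rw [map_add, ha, hcf]))
        (hfix hb (by rw [map_add, hb, hcf])) (by rw [he]; exact hza) (by rw [he]; exact hzb)).1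
        ⟨x, by rw [act_twist]; exact hx⟩⟩
  refine ⟨T, hTF, fun σ h2 h1 => ?_⟩
  have hc := class_ok
  simp only [Bool.and_eq_true, allBelow_eq_true, Nat.beq_eq, List.any_eq_true, List.mem_range,
    Bool.not_eq_true'] at hc
  obtain ⟨⟨⟨⟨⟨⟨-, hf0⟩, hfA⟩, hn1⟩, hnB⟩, hMB⟩, hMs⟩ := hc
  obtain ⟨hokA, -, -, -⟩ := r_facts (m := 1) (by norm_num)
  obtain ⟨hokB, -⟩ := Compute.mem_M24_of_check hMB
  obtain ⟨hok0, -⟩ := Compute.mem_M24_of_check (hMs 0 (by norm_num))
  obtain ⟨hok1, -⟩ := Compute.mem_M24_of_check (hMs 1 (by norm_num))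
  have class_of : ∀ τ : ↥M24, τ * τ = 1 → τ ≠ 1 → ∃ k : ↥M24,
      ((k * τ * k⁻¹ : ↥M24) : Equiv.Perm GolayPt) =
        if ∃ p, (τ : Equiv.Perm GolayPt) p = p then rep24.den (syl2Reps.getD 0 rep24.one)
        else rep24.den (syl2Reps.getD 1 rep24.one) := by
    intro τ hτ2 hτ1
    have hord : orderOf (τ : Equiv.Perm GolayPt) = 2 :=
      orderOf_eq_prime (by rw [sq, ← Subgroup.coe_mul, hτ2]; rfl) fun h => hτ1 (Subtype.ext h)
    obtain ⟨j, hj, k, hk, e⟩ := Compute.exists_conj_involution τ.2 hord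
    refine ⟨⟨k, hk⟩, ?_⟩
    rw [Subgroup.coe_mul, Subgroup.coe_mul, Subgroup.coe_inv, e]
    rcases (show j = 0 ∨ j = 1 by omega) with rfl | rfl
    · rw [if_pos ((fix_conj e).2 ((fix_iff hok0).2 hf0))]
    · rw [if_neg fun hp => by
        obtain ⟨i, hi, ei⟩ := (fix_iff hok1).1 ((fix_conj e).1 hp)
        have := hn1 i hi
        rw [ei, Nat.beq_refl] at this; exact Bool.noConfusion this]
  have transfer : ∀ {τ : ↥M24}, CritAt T τ → τ * τ = 1 → τ ≠ 1 →
      ((∃ p, (σ : Equiv.Perm GolayPt) p = p) ↔ ∃ p, (τ : Equiv.Perm GolayPt) p = p) → CritAt T σ := by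
    intro τ hT hτ2 hτ1 hiff
    obtain ⟨k, hk⟩ := class_of τ hτ2 hτ1
    obtain ⟨l, hl⟩ := class_of σ h2 h1
    have : l * σ * l⁻¹ = k * τ * k⁻¹ := Subtype.ext (by rw [hk, hl]; simp only [hiff])
    have e : σ = (l⁻¹ * k) * τ * (l⁻¹ * k)⁻¹ := by
      calc σ = l⁻¹ * (l * σ * l⁻¹) * l := by group
        _ = _ := by rw [this]; group
    rw [e]
    exact hT.conj T _
  have hσB2 : σB * σB = 1 ∧ σB ≠ 1 ∧ ¬ ∃ p, (σB : Equiv.Perm GolayPt) p = p := by
    have hnf : ¬ ∃ p, (σB : Equiv.Perm GolayPt) p = p := by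
      rw [hσB]
      intro hp
      obtain ⟨i, hi, ei⟩ := (fix_iff hokB).1 hp
      have := hnB i hi
      rw [ei, Nat.beq_refl] at this; exact Bool.noConfusion this
    refine ⟨?_, fun h => hnf ⟨none, by rw [h]; rfl⟩, hnf⟩
    obtain ⟨g, hg⟩ := isConj_iff.1 hza
    have h2' : T₀.el a σB * T₀.el a σB = 1 := by
      rw [← hg, show g * z * g⁻¹ * (g * z * g⁻¹) = g * (z * z) * g⁻¹ by group, S.D.zz]; group
    rw [T₀.el_mul, ← T₀.el_one] at h2'
    exact (T₀.el_inj h2').2
  by_cases hp : ∃ p, (σ : Equiv.Perm GolayPt) p = p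
  · have hA2 : rEl 1 * rEl 1 = 1 := by rw [rEl_xor (by norm_num) (by norm_num), Nat.xor_self, rEl_zero]
    exact transfer (critAt_A T) hA2 (fun h => one_ne_zero (rEl_eq_one (by norm_num) h))
      (iff_of_true hp (by rw [rEl_val (by norm_num)]; exact (fix_iff hokA).2 hfA))
  · exact transfer hB hσB2.1 hσB2.2.1 (iff_of_false hp hσB2.2.2)

end Cfsg.Agent.J4Type.Order
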