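import Cfsg.Agent.J4Type.Order.CountTDefs

/-!
# Lists of vectors with their images
-/

set_option autoImplicit false

namespace Cfsg.Agent.J4Type.Order

open Cfsg.Agent.Compute Cfsg.Agent.TenLocal

theorem range_two_mul (n : ℕ) :
    List.range (2 * n) = (List.range n).flatMap fun v => [2 * v, 2 * v + 1] := by
  induction n with
  | zero => rfl
  | succ n ih =>
    rw [show 2 * (n + 1) = 2 * n + 1 + 1 by omega, List.range_succ, List.range_succ, ih,
      List.range_succ, List.flatMap_append, List.flatMap_singleton]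
    simp

theorem imgPairs_eq (M : List ℕ) :
    imgPairs M = (List.range (2 ^ M.length)).map fun v => (v, mapp M v) := by
  induction M with
  | nil => rfl
  | cons c M ih =>
    have e0 : ∀ v, mapp (c :: M) (2 * v) = mapp M v := fun v => by
      rw [mapp_cons, Nat.shiftRight_one, Nat.mul_div_cancel_left _ (by norm_num : 0 < 2)]
      simp
    have e1 : ∀ v, mapp (c :: M) (2 * v + 1) = c ^^^ mapp M v := fun v => by
      rw [mapp_cons, Nat.shiftRight_one, show (2 * v + 1) / 2 = v by omega]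
      simp
    show (imgPairs M).flatMap _ = _
    rw [ih, List.length_cons, pow_succ', range_two_mul, List.map_flatMap, List.flatMap_map]
    refine List.flatMap_congr fun v _ => ?_
    simp only [List.map_cons, List.map_nil, e0, e1]
    rfl

theorem mem_imgPairs {M : List ℕ} (hM : M.length = 11) {p : ℕ × ℕ} :
    p ∈ imgPairs M ↔ p.1 < 2048 ∧ p.2 = mapp M p.1 := by
  rw [imgPairs_eq, hM, List.mem_map]
  constructor
  · rintro ⟨v, hv, rfl⟩
    exact ⟨(List.mem_range.1 hv).trans_le (by norm_num), rfl⟩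
  · rintro ⟨h1, h2⟩
    exact ⟨p.1, List.mem_range.2 (h1.trans_le (by norm_num)), Prod.ext rfl h2.symm⟩

theorem comBits_iff : ∀ (l : List (ℕ × ℕ)) (v : ℕ),
    bitB (comBits l) v = true ↔ ∃ p ∈ l, p.1 ^^^ p.2 = v := by
  intro l v
  induction l with
  | nil => simp [comBits, bitB_eq]
  | cons p l ih =>
    rw [bitB_eq] at ih ⊢
    show (comBits l ||| 1 <<< (p.1 ^^^ p.2)).testBit v = true ↔ _
    rw [Nat.one_shiftLeft, Nat.testBit_or, Bool.or_eq_true, Nat.testBit_two_pow, decide_eq_true_iff, ih,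
      List.exists_mem_cons_iff]
    exact or_comm

/-- The commutators of a matrix. -/
theorem com_iff {M : List ℕ} (hM : M.length = 11) (v : ℕ) :
    bitB (comBits (imgPairs M)) v = true ↔ ∃ u < 2048, u ^^^ mapp M u = v := by
  rw [comBits_iff]
  constructor
  · rintro ⟨p, hp, e⟩
    obtain ⟨h1, h2⟩ := (mem_imgPairs hM).1 hp
    exact ⟨p.1, h1, h2 ▸ e⟩
  · rintro ⟨u, hu, e⟩
    exact ⟨(u, mapp M u), (mem_imgPairs hM).2 ⟨hu, rfl⟩, e⟩

theorem colB_lt (g : ℕ) (l : List ℕ) : colB g l < 2048 := by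
  have hl : ∀ i, vpL.getD i 0 < 2048 := fun i => by
    by_cases h : i < 24
    · exact (show ∀ i : Fin 24, vpL.getD i.val 0 < 2048 by decide +kernel) ⟨i, h⟩
    · rw [List.getD_eq_default _ _ (by show 24 ≤ i; omega)]; norm_num
  induction l with
  | nil => exact Nat.two_pow_pos 11
  | cons a l ih => exact Nat.xor_lt_two_pow (n := 11) (Nat.xor_lt_two_pow (n := 11) (hl _) (hl _)) ih

theorem matOf_lt (g v : ℕ) : mapp (matOf g) v < 2048 := by
  refine mapp_lt _ (fun c hc => ?_) v
  obtain ⟨k, hk, rfl⟩ := List.getElem_of_mem hc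
  have h := matOf_getD g ⟨k, by rwa [matOf_length] at hk⟩
  rw [List.getD_eq_getElem _ _ hk] at h
  exact h ▸ colB_lt _ _

end Cfsg.Agent.J4Type.Order
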