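import Cfsg.Agent.J4Type.Order.LargeLocal

/-!
# Exclusion of the false solutions at the large primes
-/

set_option autoImplicit false

open Subgroup

namespace Cfsg.Agent.J4Type.LargePrime

variable {G : Type*} [Group G] [Finite G]

/-- In a centraliser of order `|a| · |b|` spanned by commuting elements of coprime orders, the solutions of
`w ^ |a| = 1` are powers of `a`. -/
theorem mem_zpowers_of_pow_eq_one {K : Subgroup G} {a b : G} (haK : a ∈ K) (hbK : b ∈ K) (h : Commute a b)
    (hco : (orderOf a).Coprime (orderOf b)) (hK : Nat.card ↥K = orderOf a * orderOf b) {w : G} (hw : w ∈ K)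
    (hwn : w ^ orderOf a = 1) : w ∈ zpowers a := by
  have hgen : zpowers (a * b) = K := eq_of_le_of_card_ge (zpowers_le.2 (mul_mem haK hbK))
    (by rw [Nat.card_zpowers, h.orderOf_mul_eq_mul_orderOf_of_coprime hco, hK])
  obtain ⟨i, rfl⟩ := mem_zpowers_iff.1 (hgen ▸ hw)
  rw [h.mul_zpow] at hwn ⊢
  have h2 : (b ^ i) ^ orderOf a = 1 := by
    rw [(h.zpow_zpow i i).mul_pow, ← zpow_natCast (a ^ i), ← zpow_mul, mul_comm, zpow_mul, zpow_natCast,
      pow_orderOf_eq_one, one_zpow, one_mul] at hwn
    exact hwn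
  have h3 : b ^ i = 1 := orderOf_eq_one_iff.1 (Nat.eq_one_of_dvd_coprimes hco
    (orderOf_dvd_of_pow_eq_one h2) (orderOf_dvd_of_mem_zpowers (zpow_mem (mem_zpowers b) i)))
  rw [h3, mul_one]
  exact zpow_mem (mem_zpowers a) i

/-- An element normalising `⟨a⟩` whose order is prime to `φ(|a|)` centralises `a`. -/
theorem commute_of_normalizes_zpowers {a g : G} (hg : g ∈ normalizer (zpowers a : Set G))
    (hco : (orderOf g).Coprime (Nat.totient (orderOf a))) : Commute g a := by
  let φ := (zpowers a).normalizerMonoidHom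
  have h2 := orderOf_dvd_natCard (φ ⟨g, hg⟩)
  rw [IsCyclic.card_mulAut, Nat.card_zpowers] at h2
  have h3 : (⟨g, hg⟩ : ↥(normalizer (zpowers a : Set G))) ∈ φ.ker := by
    rw [MonoidHom.mem_ker, ← orderOf_eq_one_iff]
    exact Nat.eq_one_of_dvd_coprimes hco ((orderOf_map_dvd φ _).trans (Subgroup.orderOf_mk g hg).dvd) h2
  rw [normalizerMonoidHom_ker, mem_subgroupOf] at h3
  exact (mem_centralizer_iff.1 h3 a (mem_zpowers a)).symm

/-- A central element of prime order spans the only subgroup of that order if it is a Sylow subgroup. -/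
theorem mem_zpowers_of_commute {p : ℕ} [Fact p.Prime] {x w : G} (hx : orderOf x = p) (hw : orderOf w = p)
    (hsq : ¬ p * p ∣ Nat.card ↥(centralizer ({x} : Set G))) (h : Commute x w) : w ∈ zpowers x := by
  set K := centralizer ({x} : Set G)
  have hxK : x ∈ K := mem_centralizer_singleton_iff.2 rfl
  have hwK : w ∈ K := mem_centralizer_singleton_iff.2 h.symm.eq
  have hp : p.Prime := Fact.out
  have hfac : (Nat.card ↥K).factorization p = 1 := by
    have hne : Nat.card ↥K ≠ 0 := Nat.card_pos.ne'
    have h1 := (hp.pow_dvd_iff_le_factorization hne (k := 1)).1 (by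
      rw [pow_one, ← hx, ← Subgroup.orderOf_mk x hxK]; exact orderOf_dvd_natCard _)
    have h2 : ¬ 2 ≤ (Nat.card ↥K).factorization p := fun h => hsq
      (by rw [← pow_two]; exact (hp.pow_dvd_iff_le_factorization hne).2 h)
    omega
  let X : Sylow p ↥K := Sylow.ofCard (zpowers ⟨x, hxK⟩)
    (by rw [Nat.card_zpowers, Subgroup.orderOf_mk, hx, hfac, pow_one])
  let W : Sylow p ↥K := Sylow.ofCard (zpowers ⟨w, hwK⟩)
    (by rw [Nat.card_zpowers, Subgroup.orderOf_mk, hw, hfac, pow_one])
  obtain ⟨g, hg⟩ := MulAction.exists_smul_eq ↥K X W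
  have hm : (⟨w, hwK⟩ : ↥K) ∈ (W : Subgroup ↥K) := mem_zpowers _
  rw [← hg, Sylow.smul_def, Sylow.pointwise_smul_def, Subgroup.mem_pointwise_smul_iff_inv_smul_mem] at hm
  obtain ⟨i, hi⟩ := mem_zpowers_iff.1 (show _ ∈ zpowers (⟨x, hxK⟩ : ↥K) from hm)
  have hw' : w = (g : G) * x ^ i * (g : G)⁻¹ := by
    have h1 : (⟨w, hwK⟩ : ↥K) = g * (⟨x, hxK⟩ : ↥K) ^ i * g⁻¹ := by
      rw [hi, MulAut.smul_def, ← map_inv, MulAut.conj_apply]; group
    simpa using congrArg Subtype.val h1
  have hc : Commute (g : G) (x ^ i) := (show Commute (g : G) x from mem_centralizer_singleton_iff.1 g.2).zpow_right i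
  rw [hw', hc.eq, mul_inv_cancel_right]
  exact zpow_mem (mem_zpowers x) i

theorem card_isConj (j : G) :
    Nat.card {y : G // IsConj j y} * Nat.card ↥(centralizer ({j} : Set G)) = Nat.card G := by
  have h1 : Nat.card {y : G // IsConj j y} = (MulAction.stabilizer (ConjAct G) j).index := by
    rw [MulAction.index_stabilizer, ← Nat.card_coe_set_eq]
    exact Nat.card_congr (Equiv.subtypeEquivRight fun y => by rw [ConjAct.mem_orbit_conjAct, isConj_comm])
  have h2 : (centralizer ({j} : Set G)).index = (MulAction.stabilizer (ConjAct G) j).index := by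
    rw [Subgroup.centralizer_eq_comap_stabilizer]
    exact Subgroup.index_comap_of_surjective (f := ConjAct.toConjAct.toMonoidHom) _
      ConjAct.toConjAct.surjective
  rw [h1, ← h2, index_mul_card]

/-- No centraliser has order `31 · 43`. -/
theorem no_pair (F : Facts G) {x : G} (hx : orderOf x = 31)
    (hC : Nat.card ↥(centralizer ({x} : Set G)) = 1333)
    (hN : Nat.card ↥(normalizer (zpowers x : Set G)) = 7998) : False := by
  classical
  have h31 : 31 ∈ bigList := by simp [bigList]
  have h43 : 43 ∈ bigList := by simp [bigList]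
  set C := centralizer ({x} : Set G) with hCdef
  set N : Subgroup G := normalizer (zpowers x : Set G) with hNdef
  have hxC : x ∈ C := mem_centralizer_singleton_iff.2 rfl
  have := Fact.mk (show Nat.Prime 43 by norm_num)
  have := Fact.mk (show Nat.Prime 2 by norm_num)
  obtain ⟨⟨y, hyC⟩, hy⟩ := exists_prime_orderOf_dvd_card' (G := ↥C) 43 (by rw [hC]; norm_num)
  rw [Subgroup.orderOf_mk] at hy
  have hxy : Commute x y := (mem_centralizer_singleton_iff.1 hyC).symm
  have hgen : zpowers (x * y) = C := eq_of_le_of_card_ge (zpowers_le.2 (mul_mem hxC hyC))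
    (by rw [Nat.card_zpowers, hxy.orderOf_mul_eq_mul_orderOf_of_coprime (by rw [hx, hy]; norm_num), hC, hx, hy])
  have hcomm : ∀ a ∈ C, ∀ b ∈ C, Commute a b := by
    intro a ha b hb
    obtain ⟨i, rfl⟩ := mem_zpowers_iff.1 (hgen ▸ ha)
    obtain ⟨k, rfl⟩ := mem_zpowers_iff.1 (hgen ▸ hb)
    exact (Commute.refl _).zpow_zpow i k
  -- every non-trivial element of `C` has a power of large prime order
  have hpow : ∀ h ∈ C, h ≠ 1 → ∃ k q, q ∈ bigList ∧ orderOf (h ^ k) = q := by
    intro h hh h1
    have hd : orderOf h ∣ 31 * 43 := by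
      have := orderOf_dvd_natCard (⟨h, hh⟩ : ↥C); rwa [Subgroup.orderOf_mk, hC] at this
    obtain ⟨q, hq, hqd⟩ := Nat.exists_prime_and_dvd (mt orderOf_eq_one_iff.1 h1)
    refine ⟨orderOf h / q, q, ?_, orderOf_pow_orderOf_div (orderOf_pos h).ne' hqd⟩
    rcases (Nat.Prime.dvd_mul hq).1 (hqd.trans hd) with h' | h' <;>
      rw [(Nat.prime_dvd_prime_iff_eq hq (by norm_num)).1 h'] <;> assumption
  obtain ⟨⟨j, hjN⟩, hj⟩ := exists_prime_orderOf_dvd_card' (G := ↥N) 2 (by rw [hN]; norm_num)
  rw [Subgroup.orderOf_mk] at hj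
  have hj2 : j * j = 1 := by rw [← pow_two, ← hj, pow_orderOf_eq_one]
  have hji : j⁻¹ = j := inv_eq_of_mul_eq_one_right hj2
  have hNC : ∀ g ∈ N, ∀ h ∈ C, g * h * g⁻¹ ∈ C := by
    intro g hg h hh
    obtain ⟨i, hi⟩ := mem_zpowers_iff.1 (mem_normalizer_conj (inv_mem hg) (mem_zpowers x))
    have hx' : x = (g * x * g⁻¹) ^ i := by rw [conj_zpow, hi]; group
    refine mem_centralizer_singleton_iff.2 ?_
    rw [hx']
    exact (((show Commute h x from mem_centralizer_singleton_iff.1 hh).map (MulAut.conj g).toMonoidHom).zpow_right i).eq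
  have hinv : ∀ h ∈ C, j * h * j = h⁻¹ := by
    intro h hh
    have hh' : j * h * j ∈ C := by simpa [hji] using hNC j hjN h hh
    by_contra hne
    have hu1 : h * (j * h * j) ≠ 1 := fun e => hne (eq_inv_of_mul_eq_one_right e)
    obtain ⟨k, q, hq, hk⟩ := hpow _ (mul_mem hh hh') hu1
    refine F.not_commute_small hq hk (Or.inl hj) (Commute.pow_left ?_ k)
    show h * (j * h * j) * j = j * (h * (j * h * j))
    conv_rhs => rw [(hcomm h hh _ hh').eq]
    simp only [mul_assoc, hj2, mul_one]
    rw [← mul_assoc j j, hj2, one_mul]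
  have hsq : ∀ h ∈ C, IsConj j (j * h) := by
    intro h hh
    have hk : (h ^ 667) * (h ^ 667) = h := by
      have h1 : h ^ 1333 = 1 := orderOf_dvd_iff_pow_eq_one.1
        (hC ▸ (by simpa using orderOf_dvd_natCard (⟨h, hh⟩ : ↥C)))
      rw [← pow_add, show 667 + 667 = 1333 + 1 from rfl, pow_succ, h1, one_mul]
    refine isConj_iff.2 ⟨(h ^ 667)⁻¹, ?_⟩
    have h2 : (h ^ 667)⁻¹ * j = j * h ^ 667 := by
      rw [← hinv _ (pow_mem hh 667), mul_assoc, hj2, mul_one]
    rw [inv_inv, h2, mul_assoc, hk]
  -- pairs of conjugates of `j`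
  let f : (G ⧸ N) × {h : ↥C // h ≠ 1} × ↥C → {y : G // IsConj j y} × {y : G // IsConj j y} := fun a =>
    (⟨a.1.out * (j * (a.2.2 : G)) * a.1.out⁻¹, (hsq _ a.2.2.2).trans (isConj_iff.2 ⟨_, rfl⟩)⟩,
      ⟨a.1.out * (j * ((a.2.2 : G) * ((a.2.1 : ↥C) : G))) * a.1.out⁻¹,
        (hsq _ (mul_mem a.2.2.2 a.2.1.1.2)).trans (isConj_iff.2 ⟨_, rfl⟩)⟩)
  have hprod : ∀ (g : G) (a h : G), a ∈ C → h ∈ C →
      g * (j * a) * g⁻¹ * (g * (j * (a * h)) * g⁻¹) = g * h * g⁻¹ := by
    intro g a h ha hh
    have : j * a * j = a⁻¹ := hinv a ha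
    calc g * (j * a) * g⁻¹ * (g * (j * (a * h)) * g⁻¹) = g * ((j * a * j) * a * h) * g⁻¹ := by group
      _ = g * h * g⁻¹ := by rw [this, inv_mul_cancel, one_mul]
  have hf : Function.Injective f := by
    rintro ⟨c, h, a⟩ ⟨c', h', a'⟩ he
    have e1 : c.out * (j * (a : G)) * c.out⁻¹ = c'.out * (j * (a' : G)) * c'.out⁻¹ :=
      congrArg (fun r => (r.1 : G)) he
    have e2 := congrArg (fun r => (r.1 : G) * (r.2 : G)) he
    simp only [f] at e2
    rw [hprod _ _ _ a.2 h.1.2, hprod _ _ _ a'.2 h'.1.2] at e2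
    have hc : c = c' := by
      rw [← c.out_eq', ← c'.out_eq', eq_comm, QuotientGroup.eq]
      set u := c'.out⁻¹ * c.out with hu
      have hconj : u * (h.1 : G) * u⁻¹ = (h'.1 : G) := by
        calc u * (h.1 : G) * u⁻¹ = c'.out⁻¹ * (c.out * (h.1 : G) * c.out⁻¹) * c'.out := by rw [hu]; group
          _ = (h'.1 : G) := by rw [e2]; group
      obtain ⟨k, q, hq, hk⟩ := hpow _ h.1.2 (fun e => h.2 (Subtype.ext e))
      have hkC : (h.1 : G) ^ k ∈ C := pow_mem h.1.2 k
      have hk' : (h'.1 : G) ^ k ∈ C := pow_mem h'.1.2 k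
      have hxk : Commute x ((h.1 : G) ^ k) := (mem_centralizer_singleton_iff.1 hkC).symm
      have hmem : u * (h.1 : G) ^ k * u⁻¹ ∈ zpowers ((h.1 : G) ^ k) := by
        refine unique_in_centralizer F h31 hq hx hk ?_ hxk ?_
        · exact (orderOf_injective (MulAut.conj u).toMonoidHom (MulAut.conj u).injective _).trans hk
        · rw [← conj_pow, hconj]; exact (mem_centralizer_singleton_iff.1 hk').symm
      have hu' : u ∈ normalizer (zpowers ((h.1 : G) ^ k) : Set G) := by
        refine mem_normalizer_fintype (S := (zpowers ((h.1 : G) ^ k) : Set G)) fun n hn => ?_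
        obtain ⟨i, rfl⟩ := mem_zpowers_iff.1 hn
        rw [← conj_zpow]
        exact zpow_mem hmem i
      rw [← normalizer_eq_of_commute F h31 hq hx hk hxk] at hu'
      exact hu'
    subst hc
    have hh : h = h' := Subtype.ext (Subtype.ext (by simpa using e2))
    have ha : a = a' := Subtype.ext (by simpa using e1)
    rw [hh, ha]
  have hle := Nat.card_le_card_of_injective f hf
  rw [Nat.card_prod, Nat.card_prod, Nat.card_prod] at hle
  have hne : Nat.card {h : ↥C // h ≠ 1} = 1332 := by
    have := Fintype.ofFinite ↥C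
    rw [Nat.card_eq_fintype_card, Fintype.card_subtype_compl, Fintype.card_subtype_eq, ← Nat.card_eq_fintype_card,
      hC]
  have hidx : Nat.card (G ⧸ N) * 7998 = ordJ := by
    have := N.index_mul_card
    rwa [hN, F.card] at this
  have hcl := card_isConj j
  rw [F.card] at hcl
  have h1 : Nat.card (G ⧸ N) = ordJ / 7998 := by rw [← hidx, Nat.mul_div_cancel _ (by norm_num)]
  rw [hne, hC, h1] at hle
  have hcl' : Nat.card {y : G // IsConj j y} ≤ ordJ / (2 ^ 11 * 887040) := by
    rw [Nat.le_div_iff_mul_le (by norm_num), ← hcl]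
    refine Nat.mul_le_mul_left _ ?_
    rcases F.invol j hj with h | h <;> rw [h] <;> norm_num
  have h2 := hle.trans (Nat.mul_le_mul hcl' hcl')
  norm_num [ordJ] at h2

/-- After removing `31 · 43`, one pair of orders is left at 29, 37 and 43 and two at 23 and 31. -/
theorem final_mem' (F : Facts G) {p : ℕ} (hp : p ∈ bigList) {x : G} (hx : orderOf x = p) :
    (p, Nat.card ↥(centralizer ({x} : Set G)), Nat.card ↥(normalizer (zpowers x : Set G))) ∈
      [(23, 23, 506), (23, 253, 506), (29, 29, 812), (31, 31, 310), (31, 341, 5115), (37, 37, 444),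
        (43, 43, 602)] := by
  have h := final_mem F hp hx
  generalize hC : Nat.card ↥(centralizer ({x} : Set G)) = C at h ⊢
  generalize hN : Nat.card ↥(normalizer (zpowers x : Set G)) = N at h ⊢
  simp only [finalList, List.mem_cons, List.not_mem_nil, or_false, Prod.mk.injEq] at h ⊢
  rcases h with ⟨rfl, rfl, rfl⟩ | ⟨rfl, rfl, rfl⟩ | ⟨rfl, rfl, rfl⟩ | ⟨rfl, rfl, rfl⟩ | ⟨rfl, rfl, rfl⟩ |
    ⟨rfl, rfl, rfl⟩ | ⟨rfl, rfl, rfl⟩ | ⟨rfl, rfl, rfl⟩ | ⟨rfl, rfl, rfl⟩
  all_goals first
    | exact (no_pair F hx hC hN).elim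
    | (norm_num; done)
    | skip
  have := Fact.mk (show Nat.Prime 31 by norm_num)
  obtain ⟨⟨y, hy⟩, hyo⟩ := exists_prime_orderOf_dvd_card' (G := ↥(centralizer ({x} : Set G))) 31
    (by rw [hC]; norm_num)
  rw [Subgroup.orderOf_mk] at hyo
  have h31 : 31 ∈ bigList := by simp [bigList]
  have hN' : Nat.card ↥(normalizer (zpowers y : Set G)) = 7998 := by
    rw [← normalizer_eq_of_commute F hp h31 hx hyo (mem_centralizer_singleton_iff.1 hy).symm, hN]
  have h' := final_mem F h31 hyo
  rw [hN'] at h'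
  generalize hC' : Nat.card ↥(centralizer ({y} : Set G)) = C' at h'
  simp only [finalList, List.mem_cons, List.not_mem_nil, or_false, Prod.mk.injEq] at h'
  exact (no_pair F hyo (by rw [hC']; omega) hN').elim

/-- A centraliser of an element of order 11 has order divisible by 121. -/
theorem dvd_centralizer_eleven (F : Facts G) {a : G} (ha : orderOf a = 11) :
    121 ∣ Nat.card ↥(centralizer ({a} : Set G)) := by
  have := Fact.mk (show Nat.Prime 11 by norm_num)
  obtain ⟨U, hU⟩ := (IsPGroup.of_card (p := 11) (n := 1) (G := ↥(zpowers a))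
    (by rw [Nat.card_zpowers, ha, pow_one])).exists_le_sylow
  have hfac : (ordJ).factorization 11 = 3 := by
    have hp : Nat.Prime 11 := by norm_num
    have hne : ordJ ≠ 0 := by norm_num [ordJ]
    have h1 := (hp.pow_dvd_iff_le_factorization hne (k := 3)).1 (by norm_num [ordJ])
    have h2 := mt (hp.pow_dvd_iff_le_factorization hne (k := 4)).2 (by norm_num [ordJ])
    omega
  have hUc : Nat.card ↥(U : Subgroup G) = 1331 := by
    rw [U.card_eq_multiplicity, F.card, hfac]; norm_num
  set u : ↥(U : Subgroup G) := ⟨a, hU (mem_zpowers a)⟩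
  set C := centralizer ({u} : Set ↥(U : Subgroup G)) with hCdef
  have hd : Nat.card ↥C ∣ 11 ^ 3 := by
    have := C.card_subgroup_dvd_card; rwa [hUc, show (1331 : ℕ) = 11 ^ 3 by norm_num] at this
  obtain ⟨i, hi, hCi⟩ := (Nat.dvd_prime_pow (by norm_num)).1 hd
  have huC : u ∈ C := mem_centralizer_singleton_iff.2 rfl
  have hle : zpowers u ≤ C := zpowers_le.2 huC
  have hu : orderOf u = 11 := by rw [Subgroup.orderOf_mk, ha]
  have hi2 : 2 ≤ i := by
    by_contra hlt
    have hCu : zpowers u = C := eq_of_le_of_card_ge hle (by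
      rw [Nat.card_zpowers, hu, hCi]
      exact le_trans (Nat.pow_le_pow_right (by norm_num) (show i ≤ 1 by omega)) (by norm_num))
    have := _root_.nontrivial_iff.2 ⟨(1 : ↥(U : Subgroup G)), u, fun e => by
      rw [← e, orderOf_one] at hu; omega⟩
    have hZ := U.2.center_nontrivial
    have hZle : center ↥(U : Subgroup G) ≤ zpowers u :=
      hCu ▸ fun w hw => mem_centralizer_singleton_iff.2 ((mem_center_iff.1 hw u).symm)
    have hZc : Nat.card ↥(center ↥(U : Subgroup G)) = 11 := by
      have h1 := card_dvd_of_le hZle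
      rw [Nat.card_zpowers, hu] at h1
      rcases (Nat.dvd_prime (by norm_num)).1 h1 with h | h
      · exact absurd h (Finite.one_lt_card (α := ↥(center ↥(U : Subgroup G)))).ne'
      · exact h
    have hZu : u ∈ center ↥(U : Subgroup G) := by
      rw [eq_of_le_of_card_ge hZle (by rw [hZc, Nat.card_zpowers, hu])]; exact mem_zpowers u
    have hCtop : C = ⊤ := eq_top_iff.2 fun w _ =>
      mem_centralizer_singleton_iff.2 (mem_center_iff.1 hZu w)
    rw [hCtop, card_top, hUc] at hCi
    interval_cases i <;> norm_num at hCi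
  have h121 : 121 ∣ Nat.card ↥C := by
    rw [hCi]; exact (show (121 : ℕ) = 11 ^ 2 by norm_num) ▸ pow_dvd_pow 11 hi2
  refine h121.trans ?_
  rw [← card_map_of_injective (U : Subgroup G).subtype_injective]
  refine card_dvd_of_le ?_
  rintro - ⟨w, hw, rfl⟩
  exact mem_centralizer_singleton_iff.2 (congrArg Subtype.val (mem_centralizer_singleton_iff.1 hw))

theorem fac_three (F : Facts G) : (Nat.card G).factorization 3 = 3 := by
  have hp : Nat.Prime 3 := by norm_num
  have hne : ordJ ≠ 0 := by norm_num [ordJ]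
  have h1 := (hp.pow_dvd_iff_le_factorization hne (k := 3)).1 (by norm_num [ordJ])
  have h2 := mt (hp.pow_dvd_iff_le_factorization hne (k := 4)).2 (by norm_num [ordJ])
  rw [F.card]; omega

/-- No element of order 11 has a centraliser of order divisible by 9. -/
theorem not_nine_dvd (F : Facts G) {a : G} (ha : orderOf a = 11) :
    ¬ 9 ∣ Nat.card ↥(centralizer ({a} : Set G)) := by
  intro h9
  have := Fact.mk (show Nat.Prime 3 by norm_num)
  have := Fact.mk (show Nat.Prime 11 by norm_num)
  obtain ⟨R₀, hR₀⟩ := Sylow.exists_subgroup_card_pow_prime 3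
    (show 3 ^ 2 ∣ Nat.card ↥(centralizer ({a} : Set G)) by norm_num; exact h9)
  set R : Subgroup G := R₀.map (centralizer ({a} : Set G)).subtype with hRdef
  have hRc : Nat.card ↥R = 9 := by rw [hRdef, card_map_of_injective (subtype_injective _), hR₀]; norm_num
  have hRp : IsPGroup 3 ↥R := IsPGroup.of_card (n := 2) (by rw [hRc]; norm_num)
  obtain ⟨T, hRT⟩ := hRp.exists_le_sylow
  obtain ⟨hT, hZ, hN⟩ := F.sylow T
  set M := centralizer (R : Set G) with hMdef
  have haM : a ∈ M := by
    rw [hMdef, mem_centralizer_iff]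
    rintro r ⟨r₀, -, rfl⟩
    exact (mem_centralizer_singleton_iff.1 r₀.2)
  have hRcomm : ∀ r ∈ R, ∀ s ∈ R, r * s = s * r := fun r hr s hs => congrArg Subtype.val
    (IsPGroup.commutative_of_card_eq_prime_sq (p := 3) (G := ↥R) (by rw [hRc]; norm_num) ⟨r, hr⟩ ⟨s, hs⟩)
  have hRM : R ≤ M := fun r hr => mem_centralizer_iff.2 fun s hs => hRcomm s hs r hr
  have h27 : ¬ 27 ∣ Nat.card ↥M := by
    intro h
    obtain ⟨Q₀, hQ₀⟩ := Sylow.exists_subgroup_card_pow_prime_le 3
      (show 3 ^ 3 ∣ Nat.card ↥M by norm_num; exact h) (R.subgroupOf M)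
      (show Nat.card ↥(R.subgroupOf M) = 3 ^ 2 by
        rw [Nat.card_congr (subgroupOfEquivOfLe hRM).toEquiv, hRc]; norm_num) (by norm_num)
    set Q : Subgroup G := Q₀.map M.subtype
    let T' : Sylow 3 G := Sylow.ofCard Q (by
      rw [fac_three F, card_map_of_injective (subtype_injective _), hQ₀.1])
    have hRQ : R ≤ (T' : Subgroup G) := by
      intro r hr
      exact ⟨⟨r, hRM hr⟩, hQ₀.2 (show (⟨r, hRM hr⟩ : ↥M) ∈ R.subgroupOf M from hr), rfl⟩
    have hRZ : R.subgroupOf (T' : Subgroup G) ≤ center ↥(T' : Subgroup G) := by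
      intro r hr
      rw [mem_center_iff]
      intro t
      obtain ⟨t₀, -, ht₀⟩ := t.2
      apply Subtype.ext
      have htM : (t : G) ∈ M := ht₀ ▸ t₀.2
      exact ((mem_centralizer_iff.1 htM) r hr).symm
    have := card_dvd_of_le hRZ
    rw [Nat.card_congr (subgroupOfEquivOfLe hRQ).toEquiv, hRc, (F.sylow T').2.1] at this
    norm_num at this
  -- work in the normalizer of `R`
  set L : Subgroup G := normalizer (R : Set G) with hLdef
  have hML : M ≤ L := Subgroup.centralizer_le_normalizer _
  have hTL : (T : Subgroup G) ≤ L := by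
    have hidx : (R.subgroupOf (T : Subgroup G)).index = 3 := by
      have := (R.subgroupOf (T : Subgroup G)).index_mul_card
      rw [Nat.card_congr (subgroupOfEquivOfLe hRT).toEquiv, hRc, hT] at this
      omega
    have hnorm : (R.subgroupOf (T : Subgroup G)).Normal := by
      refine Subgroup.normal_of_index_eq_minFac_card ?_
      rw [hidx, hT]; norm_num
    exact (normal_subgroupOf_iff_le_normalizer hRT).1 hnorm
  set M' : Subgroup ↥L := M.subgroupOf L with hM'
  have hM'n : M'.Normal := by
    rw [hM', hMdef, ← normalizerMonoidHom_ker]; infer_instance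
  have hM'c : Nat.card ↥M' = Nat.card ↥M := Nat.card_congr (subgroupOfEquivOfLe hML).toEquiv
  have h3idx : 3 ∣ M'.index := by
    by_contra hnd
    refine h27 (hM'c ▸ (Nat.Coprime.dvd_of_dvd_mul_left (m := M'.index) ?_ ?_))
    · exact ((Nat.Prime.coprime_iff_not_dvd (by norm_num)).2 hnd).pow_left 3
    · rw [index_mul_card, ← hT]; exact card_dvd_of_le hTL
  set a' : ↥M' := ⟨⟨a, hML haM⟩, haM⟩
  have ha' : orderOf a' = 11 := by rw [← Subgroup.orderOf_coe, ← Subgroup.orderOf_coe]; exact ha
  have hM11 : ¬ 121 ∣ Nat.card ↥M' := by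
    intro h
    obtain ⟨⟨r, hr⟩, hro⟩ := exists_prime_orderOf_dvd_card' (G := ↥R) 3 (by rw [hRc]; norm_num)
    rw [Subgroup.orderOf_mk] at hro
    have h1 : Nat.card ↥M ∣ Nat.card ↥(centralizer ({r} : Set G)) :=
      card_dvd_of_le (centralizer_le (by simpa using hr))
    have := (h.trans (dvd_of_eq hM'c)).trans (h1.trans (F.three r hro))
    norm_num at this
  let S : Sylow 11 ↥M' := Sylow.ofCard (zpowers a') (by
    have hp : Nat.Prime 11 := by norm_num
    have hne : Nat.card ↥M' ≠ 0 := Nat.card_pos.ne'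
    have h1 := (hp.pow_dvd_iff_le_factorization hne (k := 1)).1 (by
      rw [pow_one, ← ha']; exact orderOf_dvd_natCard a')
    have h2 := mt (hp.pow_dvd_iff_le_factorization hne (k := 2)).2 (by norm_num; exact hM11)
    rw [Nat.card_zpowers, ha', show (Nat.card ↥M').factorization 11 = 1 by omega, pow_one])
  have hS : (S : Subgroup ↥M').map M'.subtype = zpowers (⟨a, hML haM⟩ : ↥L) := by
    show (zpowers a').map M'.subtype = _
    rw [MonoidHom.map_zpowers]; rfl
  have hfr := Sylow.normalizer_sup_eq_top S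
  rw [hS] at hfr
  set A : Subgroup ↥L := zpowers (⟨a, hML haM⟩ : ↥L) with hA
  have hrel : M'.relIndex (normalizer (A : Set ↥L)) = M'.index := by
    rw [← relIndex_top_right, ← hfr, relIndex_sup_right]
  have h9A : 9 ∣ Nat.card ↥(M' ⊓ normalizer (A : Set ↥L) : Subgroup ↥L) := by
    have hle : R.subgroupOf L ≤ M' ⊓ normalizer (A : Set ↥L) := by
      intro r hr
      refine ⟨hRM hr, Subgroup.centralizer_le_normalizer _ ?_⟩
      rw [hA, zpowers_eq_closure, centralizer_closure, mem_centralizer_singleton_iff]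
      exact Subtype.ext ((mem_centralizer_iff.1 haM) r hr)
    have := card_dvd_of_le hle
    rwa [Nat.card_congr (subgroupOfEquivOfLe (le_normalizer)).toEquiv, hRc] at this
  have h27A : 3 ^ 3 ∣ Nat.card ↥(normalizer (A : Set ↥L)) := by
    rw [← (M'.subgroupOf (normalizer (A : Set ↥L))).card_mul_index,
      show (M'.subgroupOf (normalizer (A : Set ↥L))).index = M'.index from hrel,
      ← Nat.card_congr (subgroupOfEquivOfLe (inf_le_right :
        M' ⊓ normalizer (A : Set ↥L) ≤ normalizer (A : Set ↥L))).toEquiv, inf_subgroupOf_right] at *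
    exact Nat.mul_dvd_mul (show 3 ^ 2 ∣ _ by norm_num; exact h9A) h3idx
  obtain ⟨Q₁, hQ₁⟩ := Sylow.exists_subgroup_card_pow_prime 3 h27A
  set Q : Subgroup G := (Q₁.map (normalizer (A : Set ↥L)).subtype).map L.subtype
  let T'' : Sylow 3 G := Sylow.ofCard Q (by
    rw [fac_three F, card_map_of_injective (subtype_injective _), card_map_of_injective (subtype_injective _),
      hQ₁])
  have hcent : a ∈ centralizer ((T'' : Subgroup G) : Set G) := by
    rw [mem_centralizer_iff]
    rintro - ⟨-, ⟨g, hg, rfl⟩, rfl⟩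
    have hdvd : orderOf (g : ↥L) ∣ 3 ^ 3 := by
      rw [Subgroup.orderOf_coe, ← Subgroup.orderOf_mk g hg, ← hQ₁]; exact orderOf_dvd_natCard _
    have hc := commute_of_normalizes_zpowers g.2 (Nat.Coprime.coprime_dvd_left hdvd (by
      rw [show orderOf (⟨a, hML haM⟩ : ↥L) = 11 by rw [Subgroup.orderOf_mk, ha],
        Nat.totient_prime (by norm_num)]
      norm_num))
    exact congrArg Subtype.val hc.eq
  have hd := orderOf_dvd_natCard (⟨a, Subgroup.centralizer_le_normalizer _ hcent⟩ :
    ↥(normalizer ((T'' : Subgroup G) : Set G)))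
  rw [Subgroup.orderOf_mk, ha, (F.sylow T'').2.2] at hd
  norm_num at hd

/-- The centraliser of an element of order 31 has no element of order 11. -/
theorem no_341 (F : Facts G) {x : G} (hx : orderOf x = 31)
    (hC : Nat.card ↥(centralizer ({x} : Set G)) = 341)
    (hN : Nat.card ↥(normalizer (zpowers x : Set G)) = 5115) : False := by
  have := Fact.mk (show Nat.Prime 11 by norm_num)
  have := Fact.mk (show Nat.Prime 3 by norm_num)
  have := Fact.mk (show Nat.Prime 5 by norm_num)
  have := Fact.mk (show Nat.Prime 31 by norm_num)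
  set C := centralizer ({x} : Set G) with hCdef
  set N : Subgroup G := normalizer (zpowers x : Set G) with hNdef
  obtain ⟨⟨a, haC⟩, ha⟩ := exists_prime_orderOf_dvd_card' (G := ↥C) 11 (by rw [hC]; norm_num)
  rw [Subgroup.orderOf_mk] at ha
  have hxC : x ∈ C := mem_centralizer_singleton_iff.2 rfl
  have hxa : Commute a x := mem_centralizer_singleton_iff.1 haC
  have huniq : ∀ w ∈ C, w ^ 11 = 1 → w ∈ zpowers a := fun w hw h =>
    mem_zpowers_of_pow_eq_one haC hxC hxa (by rw [ha, hx]; norm_num) (by rw [hC, ha, hx]) hw (by rwa [ha])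
  have hNa : ∀ g ∈ N, g ∈ normalizer (zpowers a : Set G) := by
    intro g hg
    have hm : g * a * g⁻¹ ∈ zpowers a := by
      refine huniq _ ?_ (by rw [conj_pow, ← ha, pow_orderOf_eq_one, mul_one, mul_inv_cancel])
      obtain ⟨i, hi⟩ := mem_zpowers_iff.1 (mem_normalizer_conj (inv_mem hg) (mem_zpowers x))
      have hx' : x = (g * x * g⁻¹) ^ i := by rw [conj_zpow, hi]; group
      refine mem_centralizer_singleton_iff.2 ?_
      rw [hx']
      exact ((hxa.map (MulAut.conj g).toMonoidHom).zpow_right i).eq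
    refine mem_normalizer_fintype (S := (zpowers a : Set G)) fun n hn => ?_
    obtain ⟨i, rfl⟩ := mem_zpowers_iff.1 hn
    rw [← conj_zpow]
    exact zpow_mem hm i
  set L := centralizer ({a} : Set G) with hLdef
  -- `N ∩ L` has order `1023`
  have hCL : C ≤ L := by
    intro c hc
    have hgen : zpowers (a * x) = C := eq_of_le_of_card_ge (zpowers_le.2 (mul_mem haC hxC))
      (by rw [Nat.card_zpowers, hxa.orderOf_mul_eq_mul_orderOf_of_coprime (by rw [ha, hx]; norm_num), hC, ha, hx])
    obtain ⟨i, rfl⟩ := mem_zpowers_iff.1 (hgen ▸ hc)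
    exact mem_centralizer_singleton_iff.2 (((Commute.refl a).mul_right hxa).zpow_right i).symm.eq
  obtain ⟨⟨g, hgN⟩, hg⟩ := exists_prime_orderOf_dvd_card' (G := ↥N) 3 (by rw [hN]; norm_num)
  rw [Subgroup.orderOf_mk] at hg
  have hga : g ∈ L := mem_centralizer_singleton_iff.2
    (commute_of_normalizes_zpowers (hNa g hgN) (by rw [hg, ha, Nat.totient_prime (by norm_num)]; norm_num)).eq
  have hCN : C ≤ N := by
    refine le_trans ?_ (Subgroup.centralizer_le_normalizer _)
    rw [hCdef, zpowers_eq_closure, centralizer_closure]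
  have hK : Nat.card ↥(N ⊓ L : Subgroup G) = 1023 := by
    have h1 : 341 ∣ Nat.card ↥(N ⊓ L : Subgroup G) := hC ▸ card_dvd_of_le (le_inf hCN hCL)
    have h2 : 3 ∣ Nat.card ↥(N ⊓ L : Subgroup G) := by
      have := orderOf_dvd_natCard (⟨g, hgN, hga⟩ : ↥(N ⊓ L : Subgroup G))
      rw [← Subgroup.orderOf_coe] at this
      exact hg ▸ this
    have h3 : Nat.card ↥(N ⊓ L : Subgroup G) ∣ 5115 := hN ▸ card_dvd_of_le inf_le_left
    have h4 : ¬ 5 ∣ Nat.card ↥(N ⊓ L : Subgroup G) := by
      intro h
      obtain ⟨⟨h', hh'⟩, ho⟩ := exists_prime_orderOf_dvd_card' (G := ↥(N ⊓ L : Subgroup G)) 5 h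
      rw [Subgroup.orderOf_mk] at ho
      have := (orderOf_dvd_centralizer (mem_centralizer_singleton_iff.1 hh'.2)).trans (F.five h' ho)
      rw [ha] at this; norm_num at this
    have h5 : 1023 ∣ Nat.card ↥(N ⊓ L : Subgroup G) :=
      (show Nat.Coprime 341 3 by norm_num).mul_dvd_of_dvd_of_dvd h1 h2
    obtain ⟨k, hk⟩ := h5
    rw [hk] at h3 h4 ⊢
    have hk5 : k ∣ 5 := (Nat.mul_dvd_mul_iff_left (show 0 < 1023 by norm_num)).1 h3
    rcases (Nat.dvd_prime (show Nat.Prime 5 by norm_num)).1 hk5 with rfl | rfl <;> norm_num at h4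
    norm_num
  -- the order of `L`
  have hLdvd : Nat.card ↥L ∣ prodPow [(2, 21), (3, 3), (11, 3), (23, 1), (31, 1)] := by
    have h : Nat.card ↥L ∣ (5 * 7 * 29 * 37 * 43) * prodPow [(2, 21), (3, 3), (11, 3), (23, 1), (31, 1)] := by
      have := card_subgroup_dvd_card L
      rw [F.card] at this
      exact this.trans (dvd_of_eq (by norm_num [ordJ, prodPow]))
    have key : ∀ s : ℕ, s.Prime → s ∈ [5, 7, 29, 37, 43] → Nat.Coprime (Nat.card ↥L) s := by
      intro s hs hs'
      refine (hs.coprime_iff_not_dvd.2 fun hd => ?_).symm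
      have := Fact.mk hs
      obtain ⟨⟨y, hy⟩, hyo⟩ := exists_prime_orderOf_dvd_card' (G := ↥L) s hd
      rw [Subgroup.orderOf_mk] at hyo
      have h11 := orderOf_dvd_centralizer (mem_centralizer_singleton_iff.1 hy)
      rw [ha] at h11
      simp only [List.mem_cons, List.not_mem_nil, or_false] at hs'
      rcases hs' with rfl | rfl | rfl | rfl | rfl
      · have := h11.trans (F.five y hyo); norm_num at this
      · rw [(F.seven y hyo).1] at h11; norm_num at h11
      all_goals
        have hm := final_mem' F (show _ ∈ bigList by simp [bigList]) hyo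
        generalize Nat.card ↥(centralizer ({y} : Set G)) = C' at hm h11
        simp only [List.mem_cons, List.not_mem_nil, or_false, Prod.mk.injEq] at hm
        omega
    refine Nat.Coprime.dvd_of_dvd_mul_left ?_ h
    exact ((((key 5 (by norm_num) (by simp)).mul_right (key 7 (by norm_num) (by simp))).mul_right
      (key 29 (by norm_num) (by simp))).mul_right (key 37 (by norm_num) (by simp))).mul_right
      (key 43 (by norm_num) (by simp))
  -- Sylow 31 in `L`
  set x' : ↥L := ⟨x, hCL hxC⟩
  have hx' : orderOf x' = 31 := by rw [Subgroup.orderOf_mk, hx]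
  let X : Sylow 31 ↥L := Sylow.ofCard (zpowers x') (by
    have hp : Nat.Prime 31 := by norm_num
    have hne : Nat.card ↥L ≠ 0 := Nat.card_pos.ne'
    have h1 := (hp.pow_dvd_iff_le_factorization hne (k := 1)).1 (by
      rw [pow_one, ← hx']; exact orderOf_dvd_natCard x')
    have h2 := mt (hp.pow_dvd_iff_le_factorization hne (k := 2)).2 fun h => by
      have := h.trans hLdvd
      norm_num [prodPow] at this
    rw [Nat.card_zpowers, hx', show (Nat.card ↥L).factorization 31 = 1 by omega, pow_one])
  have hNL : normalizer ((X : Subgroup ↥L) : Set ↥L) = N.subgroupOf L := by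
    have hX : (X : Subgroup ↥L) = (zpowers x).subgroupOf L := by
      show zpowers x' = _
      rw [← comap_map_eq_self_of_injective (subtype_injective L) (zpowers x'), MonoidHom.map_zpowers]; rfl
    rw [hX, hNdef, subgroupOf_normalizer_eq (zpowers_le.2 (hCL hxC))]
  have hcong : (Nat.card ↥L / 1023) % 31 = 1 ∧ 1023 ∣ Nat.card ↥L := by
    have hn : Nat.card (Sylow 31 ↥L) = (N.subgroupOf L).index := by
      exact (Sylow.card_eq_index_normalizer X).trans (congrArg Subgroup.index hNL)
    have hmod := card_sylow_modEq_one 31 ↥L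
    rw [hn] at hmod
    have hmul := (N.subgroupOf L).card_mul_index
    rw [← inf_subgroupOf_right, Nat.card_congr (subgroupOfEquivOfLe inf_le_right).toEquiv, hK,
      inf_subgroupOf_right] at hmul
    refine ⟨?_, Dvd.intro _ hmul⟩
    rw [← hmul, Nat.mul_div_cancel_left _ (by norm_num)]
    exact hmod
  have hmem := mem_prodDivisors _ (by simp only [List.forall_mem_cons, List.not_mem_nil]; norm_num) _ hLdvd
  have key : ∀ d ∈ prodDivisors [(2, 21), (3, 3), (11, 3), (23, 1), (31, 1)],
      d % 9 ≠ 0 → d % 121 = 0 → d % 1023 = 0 → (d / 1023) % 31 ≠ 1 := by decide +kernel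
  exact key _ hmem (fun h => not_nine_dvd F ha (Nat.dvd_of_mod_eq_zero h))
    (Nat.mod_eq_zero_of_dvd (dvd_centralizer_eleven F ha)) (Nat.mod_eq_zero_of_dvd hcong.2) hcong.1

/-- The number of elements of order divisible by `p`, from below. -/
theorem census {p : ℕ} [Fact p.Prime] {x : G} (hx : orderOf x = p) {C N k : ℕ}
    (hC : Nat.card ↥(centralizer ({x} : Set G)) = C) (hN : Nat.card ↥(normalizer (zpowers x : Set G)) = N)
    (hk : C = p * k) (hpk : ¬ p ∣ k) :
    Nat.card G / N * (C - k) ≤ Nat.card {g : G // p ∣ orderOf g} := by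
  classical
  have := Fintype.ofFinite G
  have hp : p.Prime := Fact.out
  set K := centralizer ({x} : Set G) with hKdef
  have hxK : x ∈ K := mem_centralizer_singleton_iff.2 rfl
  have hord : ∀ d ∈ K, orderOf d ∣ p * k := fun d hd => by
    have := orderOf_dvd_natCard (⟨d, hd⟩ : ↥K); rwa [Subgroup.orderOf_mk, hC, hk] at this
  have hsq : ¬ p * p ∣ Nat.card ↥K := by
    rw [hC, hk]; exact fun h => hpk ((Nat.mul_dvd_mul_iff_left hp.pos).1 h)
  have hbad : Nat.card {d : ↥K // ¬ p ∣ orderOf (d : G)} ≤ k := by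
    let φ : {d : ↥K // ¬ p ∣ orderOf (d : G)} × ↥(zpowers x) → ↥K := fun a =>
      a.1.1 * ⟨a.2, zpowers_le.2 hxK a.2.2⟩
    have hφ : Function.Injective φ := by
      rintro ⟨⟨d, hd⟩, ⟨u, hu⟩⟩ ⟨⟨d', hd'⟩, ⟨u', hu'⟩⟩ he
      have he' : (d : G) * u = (d' : G) * u' := congrArg Subtype.val he
      have hdk : ∀ e : ↥K, ¬ p ∣ orderOf (e : G) → (e : G) ^ k = 1 := fun e he =>
        orderOf_dvd_iff_pow_eq_one.1 ((Nat.Coprime.dvd_of_dvd_mul_left
          (hp.coprime_iff_not_dvd.2 he).symm (hord _ e.2)))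
      have hcu : ∀ e : ↥K, ∀ v ∈ zpowers x, Commute (e : G) v := fun e v hv => by
        obtain ⟨i, rfl⟩ := mem_zpowers_iff.1 hv
        exact (show Commute (e : G) x from mem_centralizer_singleton_iff.1 e.2).zpow_right i
      have hk' := congrArg (· ^ k) he'
      simp only [(hcu d u hu).mul_pow, (hcu d' u' hu').mul_pow, hdk d hd, hdk d' hd', one_mul] at hk'
      have huu : u = u' := by
        have hcard : (Nat.card ↥(zpowers x)).Coprime k := by
          rw [Nat.card_zpowers, hx]; exact hp.coprime_iff_not_dvd.2 hpk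
        exact congrArg Subtype.val ((powCoprime hcard).injective
          (a₁ := (⟨u, hu⟩ : ↥(zpowers x))) (a₂ := ⟨u', hu'⟩) (Subtype.ext hk'))
      subst huu
      have : d = d' := Subtype.ext (mul_right_cancel he')
      subst this; rfl
    have h := Nat.card_le_card_of_injective φ hφ
    rw [Nat.card_prod, Nat.card_zpowers, hx, hC, hk, mul_comm p k] at h
    exact Nat.le_of_mul_le_mul_right h hp.pos
  have hgood : C - k ≤ Nat.card {d : ↥K // p ∣ orderOf (d : G)} := by
    have h := Nat.card_congr (Equiv.sumCompl fun d : ↥K => p ∣ orderOf (d : G))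
    rw [Nat.card_sum, hC] at h
    omega
  let f : (G ⧸ (normalizer (zpowers x : Set G) : Subgroup G)) × {d : ↥K // p ∣ orderOf (d : G)} →
      {g : G // p ∣ orderOf g} := fun a => ⟨a.1.out * (a.2.1 : G) * a.1.out⁻¹, by
    rw [show orderOf (a.1.out * (a.2.1 : G) * a.1.out⁻¹) = orderOf (a.2.1 : G) from
      orderOf_injective (MulAut.conj a.1.out).toMonoidHom (MulAut.conj _).injective _]
    exact a.2.2⟩
  have hf : Function.Injective f := by
    rintro ⟨c, d, hd⟩ ⟨c', d', hd'⟩ he
    have e1 : c.out * (d : G) * c.out⁻¹ = c'.out * (d' : G) * c'.out⁻¹ := congrArg Subtype.val he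
    have hc : c = c' := by
      rw [← c.out_eq', ← c'.out_eq', eq_comm, QuotientGroup.eq]
      set u := c'.out⁻¹ * c.out with hu
      have hconj : u * (d : G) * u⁻¹ = (d' : G) := by
        calc u * (d : G) * u⁻¹ = c'.out⁻¹ * (c.out * (d : G) * c.out⁻¹) * c'.out := by rw [hu]; group
          _ = (d' : G) := by rw [e1]; group
      have hgen : ∀ e : ↥K, p ∣ orderOf (e : G) → orderOf ((e : G) ^ (orderOf (e : G) / p)) = p ∧
          (e : G) ^ (orderOf (e : G) / p) ∈ zpowers x := fun e he => by
        have ho := orderOf_pow_orderOf_div (orderOf_pos (e : G)).ne' he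
        refine ⟨ho, mem_zpowers_of_commute hx ho hsq (Commute.pow_right ?_ _)⟩
        exact (mem_centralizer_singleton_iff.1 e.2).symm
      have hgenx : ∀ w : G, orderOf w = p → w ∈ zpowers x → zpowers w = zpowers x := fun w hw hwx =>
        eq_of_le_of_card_ge (zpowers_le.2 hwx) (by rw [Nat.card_zpowers, Nat.card_zpowers, hw, hx])
      obtain ⟨hw, hwx⟩ := hgen d hd
      obtain ⟨hw', hwx'⟩ := hgen d' hd'
      have hdd : orderOf (d' : G) = orderOf (d : G) := by
        rw [← hconj]; exact orderOf_injective (MulAut.conj u).toMonoidHom (MulAut.conj u).injective _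
      have hm : u * x * u⁻¹ ∈ zpowers x := by
        obtain ⟨i, hi⟩ := mem_zpowers_iff.1 ((hgenx _ hw hwx).symm ▸ mem_zpowers x)
        have he : u * x * u⁻¹ = ((d' : G) ^ (orderOf (d' : G) / p)) ^ i := by
          calc u * x * u⁻¹ = u * ((d : G) ^ (orderOf (d : G) / p)) ^ i * u⁻¹ := by rw [hi]
            _ = _ := by rw [← conj_zpow, ← conj_pow, hconj, hdd]
        rw [he]
        exact zpow_mem hwx' i
      refine mem_normalizer_fintype (S := (zpowers x : Set G)) fun n hn => ?_
      obtain ⟨i, rfl⟩ := mem_zpowers_iff.1 hn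
      rw [← conj_zpow]
      exact zpow_mem hm i
    subst hc
    have : d = d' := Subtype.ext (by simpa using e1)
    subst this; rfl
  have h := Nat.card_le_card_of_injective f hf
  rw [Nat.card_prod] at h
  refine le_trans (Nat.mul_le_mul ?_ hgood) h
  rw [← index_mul_card (normalizer (zpowers x : Set G) : Subgroup G), hN,
    Nat.mul_div_cancel _ (hN ▸ Nat.card_pos)]
  exact le_refl _

/-- The orders at elements of large prime order. -/
theorem orders_large (F : Facts G) {p : ℕ} (hp : p ∈ bigList) {x : G} (hx : orderOf x = p) :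
    (p, Nat.card ↥(centralizer ({x} : Set G)), Nat.card ↥(normalizer (zpowers x : Set G))) ∈
      [(23, 23, 506), (29, 29, 812), (31, 31, 310), (37, 37, 444), (43, 43, 602)] := by
  classical
  have := Fintype.ofFinite G
  have h31 : ∀ y : G, orderOf y = 31 → Nat.card ↥(centralizer ({y} : Set G)) = 31 ∧
      Nat.card ↥(normalizer (zpowers y : Set G)) = 310 := fun y hy => by
    have h := final_mem' F (show 31 ∈ bigList by simp [bigList]) hy
    generalize hC : Nat.card ↥(centralizer ({y} : Set G)) = C at h ⊢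
    generalize hN : Nat.card ↥(normalizer (zpowers y : Set G)) = N at h ⊢
    simp only [List.mem_cons, List.not_mem_nil, or_false, Prod.mk.injEq] at h
    by_contra hne
    exact no_341 F hy (by omega) (by omega)
  have h := final_mem' F hp hx
  simp only [List.mem_cons, List.not_mem_nil, or_false, Prod.mk.injEq] at h ⊢
  rcases h with h | ⟨hp23, hC, hN⟩ | h | h | h | h | h
  · tauto
  · exfalso
    subst hp23
    have hex : ∀ q, q.Prime → q ∣ ordJ → ∃ y : G, orderOf y = q := fun q hq hd => by
      have := Fact.mk hq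
      exact exists_prime_orderOf_dvd_card' q (F.card ▸ hd)
    have hval : ∀ q, q ∈ [29, 37, 43] → ∀ y : G, orderOf y = q →
        Nat.card ↥(centralizer ({y} : Set G)) = q ∧
          ((q = 29 → Nat.card ↥(normalizer (zpowers y : Set G)) = 812) ∧
            (q = 37 → Nat.card ↥(normalizer (zpowers y : Set G)) = 444) ∧
            (q = 43 → Nat.card ↥(normalizer (zpowers y : Set G)) = 602)) := fun q hq y hy => by
      have h := final_mem' F (show q ∈ bigList by
        simp only [bigList, List.mem_cons, List.not_mem_nil, or_false] at hq ⊢; omega) hy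
      simp only [List.mem_cons, List.not_mem_nil, or_false, Prod.mk.injEq] at h hq
      omega
    have := Fact.mk (show Nat.Prime 7 by norm_num)
    have := Fact.mk (show Nat.Prime 23 by norm_num)
    have := Fact.mk (show Nat.Prime 29 by norm_num)
    have := Fact.mk (show Nat.Prime 31 by norm_num)
    have := Fact.mk (show Nat.Prime 37 by norm_num)
    have := Fact.mk (show Nat.Prime 43 by norm_num)
    obtain ⟨y7, h7⟩ := hex 7 (by norm_num) (by norm_num [ordJ])
    obtain ⟨y29, h29⟩ := hex 29 (by norm_num) (by norm_num [ordJ])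
    obtain ⟨y31, h31'⟩ := hex 31 (by norm_num) (by norm_num [ordJ])
    obtain ⟨y37, h37⟩ := hex 37 (by norm_num) (by norm_num [ordJ])
    obtain ⟨y43, h43⟩ := hex 43 (by norm_num) (by norm_num [ordJ])
    have c23 := census hx hC hN (k := 11) (by norm_num) (by norm_num)
    have c7 := census h7 (F.seven y7 h7).1 (F.seven y7 h7).2 (k := 120) (by norm_num) (by norm_num)
    have c29 := census h29 (hval 29 (by simp) _ h29).1 ((hval 29 (by simp) _ h29).2.1 rfl)
      (k := 1) (by norm_num) (by norm_num)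
    have c31 := census h31' (h31 _ h31').1 (h31 _ h31').2 (k := 1) (by norm_num) (by norm_num)
    have c37 := census h37 (hval 37 (by simp) _ h37).1 ((hval 37 (by simp) _ h37).2.2.1 rfl)
      (k := 1) (by norm_num) (by norm_num)
    have c43 := census h43 (hval 43 (by simp) _ h43).1 ((hval 43 (by simp) _ h43).2.2.2 rfl)
      (k := 1) (by norm_num) (by norm_num)
    have hdis : ∀ g : G, ∀ q ∈ [7, 23, 29, 31, 37, 43], ∀ r ∈ [7, 23, 29, 31, 37, 43],
        q ∣ orderOf g → r ∣ orderOf g → q = r := by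
      intro g q hq r hr hqg hrg
      by_contra hne
      have hu := orderOf_pow_orderOf_div (orderOf_pos g).ne' hqg
      have hv := orderOf_pow_orderOf_div (orderOf_pos g).ne' hrg
      have hd := orderOf_dvd_centralizer ((Commute.refl g).pow_pow (orderOf g / q) (orderOf g / r))
      rw [hv] at hd
      generalize g ^ (orderOf g / q) = u at hu hd
      by_cases hq7 : q = 7
      · subst hq7
        rw [(F.seven u hu).1] at hd
        fin_cases hr <;> first | exact hne rfl | norm_num at hd
      · have hmem := final_mem' F (show q ∈ bigList by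
          simp only [bigList, List.mem_cons, List.not_mem_nil, or_false] at hq ⊢; omega) hu
        generalize Nat.card ↥(centralizer ({u} : Set G)) = Cu at hmem hd
        generalize Nat.card ↥(normalizer (zpowers u : Set G)) = Nu at hmem
        simp only [List.mem_cons, List.not_mem_nil, or_false, Prod.mk.injEq] at hmem
        rcases hmem with h | h | h | h | h | h | h
        all_goals
          obtain ⟨rfl, rfl, rfl⟩ := h
          fin_cases hr <;> first | exact hne rfl | norm_num at hd
        all_goals exact absurd ((h31 u hu).1) (by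
          intro e
          have := final_mem' F (show 31 ∈ bigList by simp [bigList]) hu
          rw [e, (h31 u hu).2] at this
          norm_num at this)
    have hsum : (∑ q ∈ ([7, 23, 29, 31, 37, 43] : List ℕ).toFinset, Nat.card {g : G // q ∣ orderOf g}) ≤
        Nat.card G := by
      simp only [Nat.card_eq_fintype_card, Fintype.card_subtype]
      rw [← Finset.card_biUnion ?_]
      · exact Finset.card_le_univ _
      · intro q hq r hr hqr
        rw [Function.onFun, Finset.disjoint_left]
        intro g hg hg'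
        rw [Finset.mem_filter] at hg hg'
        exact hqr (hdis g q (List.mem_toFinset.1 hq) r (List.mem_toFinset.1 hr) hg.2 hg'.2)
    rw [show ([7, 23, 29, 31, 37, 43] : List ℕ).toFinset = {7, 23, 29, 31, 37, 43} by decide] at hsum
    rw [Finset.sum_insert (by decide), Finset.sum_insert (by decide), Finset.sum_insert (by decide),
      Finset.sum_insert (by decide), Finset.sum_insert (by decide), Finset.sum_singleton] at hsum
    rw [F.card] at hsum c23 c7 c29 c31 c37 c43
    norm_num [ordJ] at hsum c23 c7 c29 c31 c37 c43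
    omega
  · tauto
  · tauto
  · obtain ⟨rfl, -, -⟩ := h
    have := h31 x hx; tauto
  · tauto
  · tauto

end Cfsg.Agent.J4Type.LargePrime
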