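import Cfsg.Agent.J4Type.Order.BridgeLocal
import Cfsg.Agent.LargeExtra.SingularSubgroup

/-!
# From the shape of the centraliser of an involution to a group of Janko-four type
-/

set_option autoImplicit false

open Cfsg Subgroup

namespace Cfsg.Agent.J4Type.Order

universe u

variable {G : Type u} [Group G] [Finite G]

/-- **The bridge to the Janko-four type conditions.** -/
theorem bridge (t : G) (ht : orderOf t = 2)
    (Q N M : Subgroup (centralizer ({t} : Set G))) [Q.Normal] [N.Normal] [M.Normal]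
    (hQN : Q ≤ N) (hNM : N ≤ M) (hM : M.index = 2) (hQ : IsExtraspecial 2 Q)
    (hcard : Nat.card Q = 2 ^ 13) (hN : Nat.card N = 3 * Nat.card Q) (hcent : ⁅M, N⁆ ≤ Q)
    (hperf : M ≤ ⁅M, M⁆ ⊔ Q) (h2c : centralizer (Q : Set (centralizer ({t} : Set G))) ≤ Q)
    (hout : ∀ c : centralizer ({t} : Set G), (∀ m ∈ M, c * m * c⁻¹ * m⁻¹ ∈ N) → c ∈ M)
    (hM22 : Spor.IsoM22 (M ⧸ N.subgroupOf M)) :
    IsOfJankoFourTypeAt t ∧ ¬ IsMulCommutative G := by
  classical
  set z : ↥(centralizer ({t} : Set G)) := ⟨t, mem_centralizer_singleton_iff.2 rfl⟩ with hz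
  have hzc : z ∈ center ↥(centralizer ({t} : Set G)) := Subgroup.mem_center_iff.2 fun g =>
    Subtype.ext (mem_centralizer_singleton_iff.1 g.2)
  have S : Shape z Q N M :=
    ⟨by rw [hz, Subgroup.orderOf_mk, ht], hzc, inferInstance, inferInstance, inferInstance, hQN, hNM,
      hM, hQ, hcard, hN, hcent, hperf, h2c, hout, ⟨inferInstance, hM22⟩⟩
  obtain ⟨p, hp, ho, hdec⟩ := S.exists_three
  obtain ⟨hfix, c, hc⟩ := S.rep_facts hp ho hdec
  set P := zpowers p with hP
  have hPN : P ≤ N := zpowers_le.2 hp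
  have hPcard : Nat.card ↥P = 3 := by rw [hP, Nat.card_zpowers, ho]
  have hPQ : ∀ x ∈ P, x ∈ Q → x = 1 := by
    intro x hx hxQ
    have h1 : orderOf x ∣ 3 := hPcard ▸ Subgroup.orderOf_dvd_natCard P hx
    have h2 : orderOf x ∣ 2 ^ 13 := hcard ▸ Subgroup.orderOf_dvd_natCard Q hxQ
    exact orderOf_eq_one_iff.1 (Nat.eq_one_of_dvd_coprimes (by norm_num) h1 h2)
  have hcentP : ∀ {g : ↥(centralizer ({t} : Set G))}, g * p = p * g → g ∈ centralizer (P : Set ↥(centralizer ({t} : Set G))) := fun {g} h =>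
    mem_centralizer_iff.2 fun x hx => by
      obtain ⟨k, rfl⟩ := hx
      exact ((show Commute g p from h).zpow_right k).eq.symm
  -- Frattini
  have frat : ∀ g : ↥(centralizer ({t} : Set G)), ∃ n ∈ N, n * g ∈ normalizer (P : Set ↥(centralizer ({t} : Set G))) := by
    intro g
    have : Fact (Nat.Prime 3) := ⟨by norm_num⟩
    have hgN : g * p * g⁻¹ ∈ N := (inferInstance : N.Normal).conj_mem p hp g
    have mk : ∀ (w : ↥(centralizer ({t} : Set G))) (hw : w ∈ N), orderOf w = 3 →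
        ∃ T : Sylow 3 ↥N, (T : Subgroup ↥N) = zpowers (⟨w, hw⟩ : ↥N) := by
      intro w hw h3
      have hc : Nat.card ↥(zpowers (⟨w, hw⟩ : ↥N)) = 3 := by
        rw [Nat.card_zpowers, Subgroup.orderOf_mk, h3]
      refine ⟨(IsPGroup.of_card (n := 1) (by rw [pow_one]; exact hc)).toSylow fun hd => ?_, rfl⟩
      have h := (zpowers (⟨w, hw⟩ : ↥N)).card_mul_index
      rw [hc, hN, hcard] at h
      have hd' : 3 ∣ (zpowers (⟨w, hw⟩ : ↥N)).index := hd
      omega
    obtain ⟨T₁, hT₁⟩ := mk _ hgN (by rw [← MulAut.conj_apply, MulEquiv.orderOf_eq, ho])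
    obtain ⟨T₂, hT₂⟩ := mk p hp ho
    obtain ⟨n, hn⟩ := MulAction.exists_smul_eq (↥N) T₁ T₂
    have hmem : n * (⟨g * p * g⁻¹, hgN⟩ : ↥N) * n⁻¹ ∈ (T₂ : Subgroup ↥N) := by
      rw [← hn, Sylow.coe_subgroup_smul]
      have h : (⟨g * p * g⁻¹, hgN⟩ : ↥N) ∈ (T₁ : Subgroup ↥N) := hT₁ ▸ mem_zpowers _
      simpa [MulAut.smul_def, MulAut.conj_apply] using
        Subgroup.smul_mem_pointwise_smul _ (MulAut.conj n) _ h
    rw [hT₂] at hmem
    obtain ⟨k, hk⟩ := hmem
    refine ⟨n, n.2, ?_⟩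
    have hconj : (n : ↥(centralizer ({t} : Set G))) * g * p * ((n : ↥(centralizer ({t} : Set G))) * g)⁻¹ ∈ P := ⟨k, (congrArg Subtype.val hk).trans (by
      show (n : ↥(centralizer ({t} : Set G))) * (g * p * g⁻¹) * (n : ↥(centralizer ({t} : Set G)))⁻¹ = _
      group)⟩
    have hle : P.map (MulAut.conj ((n : ↥(centralizer ({t} : Set G))) * g)).toMonoidHom ≤ P := by
      rw [hP, MonoidHom.map_zpowers]
      exact zpowers_le.2 hconj
    have he := eq_of_le_of_card_ge hle (by rw [card_map_of_injective (MulAut.conj _).injective])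
    refine mem_normalizer_iff.2 fun w => ⟨fun hw => hle ⟨w, hw, rfl⟩, fun hw => ?_⟩
    rw [← he] at hw
    obtain ⟨w', hw', e⟩ := hw
    have : w' = w := (MulAut.conj ((n : ↥(centralizer ({t} : Set G))) * g)).injective e
    exact this ▸ hw'
  -- `C_M(P)` covers `M / Q`
  have hcover : ∀ m ∈ M, ∃ q ∈ Q, ∃ r ∈ M ⊓ centralizer (P : Set ↥(centralizer ({t} : Set G))), m = q * r := by
    intro m hm
    obtain ⟨n, hn, hnm⟩ := frat m
    have hnmM : n * m ∈ M := mul_mem (hNM hn) hm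
    have hcn : n * m ∈ centralizer (P : Set ↥(centralizer ({t} : Set G))) := by
      refine hcentP ?_
      have h1 : n * m * p * (n * m)⁻¹ ∈ P := (mem_normalizer_iff.1 hnm p).1 (mem_zpowers p)
      have h2 : n * m * p * (n * m)⁻¹ * p⁻¹ = 1 :=
        hPQ _ (mul_mem h1 (inv_mem (mem_zpowers p))) (S.conj_mod hp hnmM)
      exact mul_inv_eq_iff_eq_mul.1 (mul_inv_eq_one.1 h2)
    obtain ⟨q, hq, i, -, hqi⟩ := hdec n⁻¹ (inv_mem hn)
    refine ⟨q, hq, p ^ i * (n * m), ⟨mul_mem (pow_mem (hNM hp) i) hnmM,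
      mul_mem (pow_mem (hcentP rfl) i) hcn⟩, ?_⟩
    rw [← mul_assoc q, ← hqi, inv_mul_cancel_left]
  have hPD : P ≤ ⁅centralizer (P : Set ↥(centralizer ({t} : Set G))), centralizer (P : Set ↥(centralizer ({t} : Set G)))⁆ := by
    set K := M ⊓ centralizer (P : Set ↥(centralizer ({t} : Set G))) with hK
    refine zpowers_le.2 (commutator_mono (inf_le_right : K ≤ _) (inf_le_right : K ≤ _) ?_)
    have hmapM : ∀ m ∈ M, QuotientGroup.mk' Q m ∈ K.map (QuotientGroup.mk' Q) := by
      intro m hm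
      obtain ⟨q, hq, r, hr, rfl⟩ := hcover m hm
      refine ⟨r, hr, ?_⟩
      rw [map_mul, show QuotientGroup.mk' Q q = 1 from (QuotientGroup.eq_one_iff q).2 hq, one_mul]
    have hMK : M.map (QuotientGroup.mk' Q) ≤ K.map (QuotientGroup.mk' Q) := by
      rintro _ ⟨m, hm, rfl⟩
      exact hmapM m hm
    have hpi : QuotientGroup.mk' Q p ∈ (⁅K, K⁆).map (QuotientGroup.mk' Q) := by
      rw [map_commutator]
      refine commutator_mono hMK hMK ?_
      rw [← map_commutator]
      obtain ⟨d, hd, q, hq, hdq⟩ := mem_sup_of_normal_right.1 (hperf (hNM hp))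
      refine ⟨d, hd, ?_⟩
      rw [← hdq, map_mul, show QuotientGroup.mk' Q q = 1 from (QuotientGroup.eq_one_iff q).2 hq, mul_one]
    obtain ⟨d, hd, hdp⟩ := hpi
    have hq : d⁻¹ * p ∈ Q := QuotientGroup.eq.1 hdp
    have hdK : d ∈ centralizer (P : Set ↥(centralizer ({t} : Set G))) := ((commutator_le_self K) hd).2
    have hqc : p * (d⁻¹ * p) = d⁻¹ * p * p := by
      have h : Commute p d := mem_centralizer_iff.1 hdK p (mem_zpowers p)
      exact (h.inv_right.mul_right (Commute.refl p)).eq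
    rcases hfix _ hq hqc with h | h
    · rwa [← inv_mul_eq_one.1 h]
    · have hpd : p = d * z := eq_mul_of_inv_mul_eq h
      have hz2 : z ^ 4 = 1 := by
        rw [show (4 : ℕ) = 2 * 2 from rfl, pow_mul, pow_two z, S.zz, one_pow]
      have hd4 : p ^ 4 = d ^ 4 := by
        rw [hpd, (show Commute d z from Subgroup.mem_center_iff.1 hzc d).mul_pow, hz2, mul_one]
      rw [show p = p ^ 4 by rw [pow_succ, ← ho, pow_orderOf_eq_one, one_mul], hd4]
      exact pow_mem hd 4
  -- an element inverting `P`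
  obtain ⟨n, hn, hnc⟩ := frat c
  have hne : n * c ∉ centralizer (P : Set ↥(centralizer ({t} : Set G))) := by
    intro hcen
    apply hc
    have h : Commute p (n * c) := mem_centralizer_iff.1 hcen p (mem_zpowers p)
    have hnM := S.conj_mod hp (inv_mem (hNM hn))
    have e : c * p * c⁻¹ = n⁻¹ * p * n := by
      calc c * p * c⁻¹ = n⁻¹ * ((n * c) * p) * c⁻¹ := by group
        _ = n⁻¹ * (p * (n * c)) * c⁻¹ := by rw [h.eq]
        _ = n⁻¹ * p * n := by group
    rw [e]
    simpa using hnM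
  -- transfer to `G`
  have hcore : twoCoreOfCentralizer t = Q.map (centralizer ({t} : Set G)).subtype :=
    congrArg (fun K : Subgroup ↥(centralizer ({t} : Set G)) => K.map (centralizer ({t} : Set G)).subtype) S.pCore_eq
  have hcentmap : ∀ {g : G}, g ∈ (centralizer ({t} : Set G)) ⊓ centralizer ((P.map (centralizer ({t} : Set G)).subtype : Subgroup G) : Set G) ↔
      ∃ h : ↥(centralizer ({t} : Set G)), h ∈ centralizer (P : Set ↥(centralizer ({t} : Set G))) ∧ (h : G) = g := by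
    intro g
    constructor
    · rintro ⟨hg, hgc⟩
      exact ⟨⟨g, hg⟩, mem_centralizer_iff.2 fun x hx => Subtype.ext
        (mem_centralizer_iff.1 hgc x ⟨x, hx, rfl⟩), rfl⟩
    · rintro ⟨h, hh, rfl⟩
      refine mem_inf.2 ⟨h.2, mem_centralizer_iff.2 ?_⟩
      rintro _ ⟨x, hx, rfl⟩
      exact congrArg Subtype.val (mem_centralizer_iff.1 hh x hx)
  have hcent_eq : (centralizer ({t} : Set G)) ⊓ centralizer ((P.map (centralizer ({t} : Set G)).subtype : Subgroup G) : Set G) =
      (centralizer (P : Set ↥(centralizer ({t} : Set G)))).map (centralizer ({t} : Set G)).subtype := by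
    ext g
    rw [hcentmap]
    rfl
  have hinj := (centralizer ({t} : Set G)).subtype_injective
  refine ⟨⟨P.map (centralizer ({t} : Set G)).subtype, ht, ?_, ?_, ?_, ⟨N.map (centralizer ({t} : Set G)).subtype, ?_, map_subtype_le N, ?_, ?_, ?_,
    map_mono hPN⟩, ?_, ?_, ?_, ?_⟩, ?_⟩
  · rw [hcore]
    exact LargeExtra.extraspecial_congr (Q.equivMapOfInjective (centralizer ({t} : Set G)).subtype hinj) hQ
  · rw [hcore, card_map_of_injective hinj, hcard]
  · rintro g ⟨hg, hgc⟩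
    rw [hcore] at hgc ⊢
    refine ⟨⟨g, hg⟩, h2c (mem_centralizer_iff.2 fun x hx => Subtype.ext ?_), rfl⟩
    exact mem_centralizer_iff.1 hgc x ⟨x, hx, rfl⟩
  · rw [hcore]; exact map_mono hQN
  · intro g hg
    refine mem_normalizer_iff.2 fun x => ⟨?_, ?_⟩
    · rintro ⟨x, hx, rfl⟩
      exact ⟨⟨g, hg⟩ * x * ⟨g, hg⟩⁻¹, (inferInstance : N.Normal).conj_mem x hx _, rfl⟩
    · rintro ⟨y, hy, hye⟩
      refine ⟨⟨g, hg⟩⁻¹ * y * (⟨g, hg⟩⁻¹)⁻¹, (inferInstance : N.Normal).conj_mem y hy _, ?_⟩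
      show g⁻¹ * (y : G) * g⁻¹⁻¹ = x
      rw [show (y : G) = g * x * g⁻¹ from hye]
      group
  · rw [hcore, card_map_of_injective hinj, card_map_of_injective hinj, hN]
  · have e : (N.map (centralizer ({t} : Set G)).subtype).subgroupOf (centralizer ({t} : Set G)) = N := comap_map_eq_self_of_injective hinj N
    obtain ⟨ψ, hψk, hψs, -⟩ := S.exists_psi
    have hn : ((N.map (centralizer ({t} : Set G)).subtype).subgroupOf (centralizer ({t} : Set G))).Normal := by rw [e]; infer_instance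
    exact ⟨hn, ⟨(QuotientGroup.quotientMulEquivOfEq (e.trans hψk.symm)).trans
      (QuotientGroup.quotientKerEquivOfSurjective ψ hψs)⟩⟩
  · rw [card_map_of_injective hinj, hPcard]
  · rw [hcore]
    refine le_antisymm ?_ (zpowers_le.2 ?_)
    · rintro _ ⟨⟨x, hx, rfl⟩, hxc⟩
      have hcx : p * x = x * p := Subtype.ext
        (mem_centralizer_iff.1 hxc (p : G) ⟨p, mem_zpowers p, rfl⟩)
      rcases hfix x hx hcx with h | h <;> rw [h]
      · exact one_mem _
      · exact mem_zpowers t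
    · refine mem_inf.2 ⟨⟨z, S.z_mem, rfl⟩, mem_centralizer_iff.2 ?_⟩
      rintro _ ⟨x, -, rfl⟩
      exact mem_centralizer_singleton_iff.1 x.2
  · intro heq
    have hmem : ((n * c : ↥(centralizer ({t} : Set G))) : G) ∈ (centralizer ({t} : Set G)) ⊓ normalizer ((P.map (centralizer ({t} : Set G)).subtype : Subgroup G) : Set G) := by
      refine mem_inf.2 ⟨(n * c : ↥(centralizer ({t} : Set G))).2, mem_normalizer_iff.2 fun x => ⟨?_, ?_⟩⟩
      · rintro ⟨x, hx, rfl⟩
        exact ⟨n * c * x * (n * c)⁻¹, (mem_normalizer_iff.1 hnc x).1 hx, rfl⟩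
      · rintro ⟨y, hy, hye⟩
        refine ⟨(n * c)⁻¹ * y * (n * c), ?_, ?_⟩
        · exact (mem_normalizer_iff.1 hnc _).2 (by
            rwa [show n * c * ((n * c)⁻¹ * y * (n * c)) * (n * c)⁻¹ = y by group])
        · show ((n * c : ↥(centralizer ({t} : Set G))) : G)⁻¹ * (y : G) * ((n * c : ↥(centralizer ({t} : Set G))) : G) = x
          rw [show (y : G) = ((n * c : ↥(centralizer ({t} : Set G))) : G) * x * ((n * c : ↥(centralizer ({t} : Set G))) : G)⁻¹ from hye]
          group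
    rw [heq] at hmem
    obtain ⟨h, hh, he⟩ := hcentmap.1 hmem
    exact hne ((show h = n * c from Subtype.ext he) ▸ hh)
  · rw [hcent_eq, ← map_commutator]
    exact map_mono hPD
  · intro hcomm
    have hle : Nat.card ↥Q ≤ Nat.card ↥(center ↥Q) := by
      rw [show center ↥Q = ⊤ from eq_top_iff.2 fun a _ => Subgroup.mem_center_iff.2 fun b =>
        Subtype.ext (Subtype.ext (hcomm.is_comm.comm _ _)), Nat.card_congr topEquiv.toEquiv]
    rw [hQ.2, hcard] at hle
    norm_num at hle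

end Cfsg.Agent.J4Type.Order
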