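import Cfsg.Agent.J4Type.Rep.Cover

/-!
# The central element of a perfect triple cover of M22 acting on twelve dimensions is fixed point free
-/

set_option autoImplicit false

open Cfsg Subgroup
open scoped commutatorElement

namespace Cfsg.Agent.J4Type.Order

open Rep (mx mul_apply' one_apply')

section Cubes

variable {V : Type*} [AddCommGroup V] [Finite V]

/-- The vectors killed by `1 + S + S²`. -/
def moved (S : AddMonoid.End V) : AddSubgroup V where
  carrier := {v | v + S v + S (S v) = 0}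
  zero_mem' := by simp
  add_mem' {a b} ha hb := by
    simp only [Set.mem_setOf_eq, map_add] at *
    calc a + b + (S a + S b) + (S (S a) + S (S b)) = (a + S a + S (S a)) + (b + S b + S (S b)) := by abel
      _ = 0 := by rw [ha, hb, add_zero]
  neg_mem' {a} ha := by
    simp only [Set.mem_setOf_eq, map_neg] at *
    calc -a + -S a + -S (S a) = -(a + S a + S (S a)) := by abel
      _ = 0 := by rw [ha, neg_zero]

theorem mem_moved {S : AddMonoid.End V} {v : V} : v ∈ moved S ↔ v + S v + S (S v) = 0 := Iff.rfl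

/-- The fixed vectors of `U` in the moved space. -/
def fixIn (S U : AddMonoid.End V) : Set V := {v | v ∈ moved S ∧ U v = v}

theorem moved_map {S A : AddMonoid.End V} (h : A * S = S * A) {v : V} (hv : v ∈ moved S) :
    A v ∈ moved S := by
  have e : ∀ u, S (A u) = A (S u) := fun u => (DFunLike.congr_fun h u).symm
  rw [mem_moved, e, e, ← map_add, ← map_add, mem_moved.1 hv, map_zero]

/-- A space on which an extraspecial group of order 27 acts with fixed-point-free centre has cubic
order. -/
theorem card_moved_cube (h2 : ∀ v : V, v + v = 0) {S A B : AddMonoid.End V} (hS : S ^ 3 = 1)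
    (hA : A ^ 3 = 1) (hB : Function.Injective B) (hAS : A * S = S * A) (hBS : B * S = S * B)
    (hBA : B * A = A * S * B) : ∃ n, Nat.card ↥(moved S) = n ^ 3 := by
  classical
  have s3 : ∀ v, S (S (S v)) = v := fun v => by
    have := DFunLike.congr_fun hS v
    rwa [pow_succ, pow_two, mul_apply', mul_apply', one_apply'] at this
  have a3 : ∀ v, A (A (A v)) = v := fun v => by
    have := DFunLike.congr_fun hA v
    rwa [pow_succ, pow_two, mul_apply', mul_apply', one_apply'] at this
  have as' : ∀ v, A (S v) = S (A v) := fun v => DFunLike.congr_fun hAS v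
  have bs' : ∀ v, B (S v) = S (B v) := fun v => DFunLike.congr_fun hBS v
  have ba' : ∀ v, B (A v) = A (S (B v)) := fun v => by
    have := DFunLike.congr_fun hBA v
    rwa [mul_apply', mul_apply', mul_apply'] at this
  -- `B` moves the eigenspaces cyclically
  have hstep : ∀ U : AddMonoid.End V, B * U = S * U * B →
      (fixIn S U).ncard ≤ (fixIn S (S * U)).ncard := by
    intro U hU
    refine Set.ncard_le_ncard_of_injOn B ?_ ?_ (Set.toFinite _)
    · rintro v ⟨hv, hUv⟩
      refine ⟨moved_map hBS hv, ?_⟩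
      have := DFunLike.congr_fun hU v
      rw [mul_apply', mul_apply', hUv] at this
      exact this.symm
    · exact fun v _ w _ h => hB h
  have hcA : B * A = S * A * B := by rw [hBA, hAS]
  have hcS : ∀ U, B * U = S * U * B → B * (S * U) = S * (S * U) * B := fun U hU => by
    rw [← mul_assoc, hBS, mul_assoc, hU, ← mul_assoc, ← mul_assoc]
  have h01 := hstep A hcA
  have h12 := hstep (S * A) (hcS A hcA)
  have h20 := hstep (S * (S * A)) (hcS _ (hcS A hcA))
  rw [show S * (S * (S * A)) = A by rw [← mul_assoc, ← mul_assoc, show S * S * S = S ^ 3 by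
    rw [pow_succ, pow_two], hS, one_mul]] at h20
  -- the projections
  let e0 : V → V := fun v => v + A v + A (A v)
  let e1 : V → V := fun v => v + S (A v) + S (A (S (A v)))
  let e2 : V → V := fun v => v + S (S (A v)) + S (S (A (S (S (A v)))))
  have e0m : ∀ v ∈ moved S, e0 v ∈ fixIn S A := fun v hv => by
    refine ⟨(moved S).add_mem ((moved S).add_mem hv (moved_map hAS hv))
      (moved_map hAS (moved_map hAS hv)), ?_⟩
    show A (v + A v + A (A v)) = v + A v + A (A v)
    rw [map_add, map_add, a3]; abel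
  have sm : ∀ {v}, v ∈ moved S → S v ∈ moved S := fun hv => moved_map rfl hv
  have e1m : ∀ v ∈ moved S, e1 v ∈ fixIn S (S * A) := fun v hv => by
    refine ⟨(moved S).add_mem ((moved S).add_mem hv (sm (moved_map hAS hv)))
      (sm (moved_map hAS (sm (moved_map hAS hv)))), ?_⟩
    show S (A (v + S (A v) + S (A (S (A v))))) = _
    simp only [e1, map_add, as', s3, a3]; abel
  have e2m : ∀ v ∈ moved S, e2 v ∈ fixIn S (S * (S * A)) := fun v hv => by
    refine ⟨(moved S).add_mem ((moved S).add_mem hv (sm (sm (moved_map hAS hv))))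
      (sm (sm (moved_map hAS (sm (sm (moved_map hAS hv)))))), ?_⟩
    show S (S (A (v + S (S (A v)) + S (S (A (S (S (A v))))))) ) = _
    simp only [e2, map_add, as', s3, a3]; abel
  have three : ∀ v : V, v + v + v = v := fun v => by rw [h2, zero_add]
  have f0 : ∀ v ∈ fixIn S A, e0 v = v ∧ e1 v = 0 ∧ e2 v = 0 := by
    rintro v ⟨hv, ha⟩
    refine ⟨by simp only [e0, ha, three], ?_, ?_⟩
    · simp only [e1, as', ha]; exact mem_moved.1 hv
    · simp only [e2, as', ha, s3]; exact (by abel : _ = v + S v + S (S v)).trans (mem_moved.1 hv)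
  have f1 : ∀ v ∈ fixIn S (S * A), e0 v = 0 ∧ e1 v = v ∧ e2 v = 0 := by
    rintro v ⟨hv, ha⟩
    rw [mul_apply'] at ha
    have ha' : A v = S (S v) := by
      have := congrArg (fun u => S (S u)) ha
      rwa [s3] at this
    refine ⟨?_, by simp only [e1, ha, three], ?_⟩
    · simp only [e0, ha', as', s3]; exact (by abel : _ = v + S v + S (S v)).trans (mem_moved.1 hv)
    · simp only [e2, ha', as', s3]; exact mem_moved.1 hv
  have f2 : ∀ v ∈ fixIn S (S * (S * A)), e0 v = 0 ∧ e1 v = 0 ∧ e2 v = v := by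
    rintro v ⟨hv, ha⟩
    rw [mul_apply', mul_apply'] at ha
    have ha' : A v = S v := by
      have := congrArg S ha
      rwa [s3] at this
    refine ⟨?_, ?_, by simp only [e2, ha, three]⟩
    · simp only [e0, ha', as']; exact mem_moved.1 hv
    · simp only [e1, ha', as', s3]; exact (by abel : _ = v + S v + S (S v)).trans (mem_moved.1 hv)
  have e_add : ∀ u w, e0 (u + w) = e0 u + e0 w ∧ e1 (u + w) = e1 u + e1 w ∧ e2 (u + w) = e2 u + e2 w :=
    fun u w => ⟨by simp only [e0, map_add]; abel, by simp only [e1, map_add]; abel,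
      by simp only [e2, map_add]; abel⟩
  let Φ : ↥(moved S) ≃ ↥(fixIn S A) × ↥(fixIn S (S * A)) × ↥(fixIn S (S * (S * A))) :=
    { toFun := fun v => (⟨e0 v, e0m v v.2⟩, ⟨e1 v, e1m v v.2⟩, ⟨e2 v, e2m v v.2⟩)
      invFun := fun x => ⟨(x.1 : V) + x.2.1 + x.2.2,
        (moved S).add_mem ((moved S).add_mem x.1.2.1 x.2.1.2.1) x.2.2.2.1⟩
      left_inv := fun v => Subtype.ext (by
        show e0 v + e1 v + e2 v = (v : V)
        have ha := mem_moved.1 (moved_map hAS v.2)
        have ha2 := mem_moved.1 (moved_map hAS (moved_map hAS v.2))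
        simp only [e0, e1, e2, as', s3]
        calc _ = ((v : V) + v + v) + (A v + S (A v) + S (S (A v))) +
              (A (A v) + S (A (A v)) + S (S (A (A v)))) := by abel
          _ = v := by rw [three, ha, ha2, add_zero, add_zero])
      right_inv := fun x => by
        obtain ⟨⟨a, ha⟩, ⟨b, hb⟩, ⟨c, hc⟩⟩ := x
        obtain ⟨a0, a1, a2⟩ := f0 a ha
        obtain ⟨b0, b1, b2⟩ := f1 b hb
        obtain ⟨c0, c1, c2⟩ := f2 c hc
        refine Prod.ext (Subtype.ext ?_) (Prod.ext (Subtype.ext ?_) (Subtype.ext ?_))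
        · show e0 (a + b + c) = a
          rw [(e_add _ _).1, (e_add _ _).1, a0, b0, c0, add_zero, add_zero]
        · show e1 (a + b + c) = b
          rw [(e_add _ _).2.1, (e_add _ _).2.1, a1, b1, c1, zero_add, add_zero]
        · show e2 (a + b + c) = c
          rw [(e_add _ _).2.2, (e_add _ _).2.2, a2, b2, c2, zero_add, zero_add] }
  refine ⟨(fixIn S A).ncard, ?_⟩
  rw [Nat.card_congr Φ, Nat.card_prod, Nat.card_prod, Nat.card_coe_set_eq, Nat.card_coe_set_eq,
    Nat.card_coe_set_eq, pow_succ, pow_two, show (fixIn S (S * A)).ncard = (fixIn S A).ncard by omega,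
    show (fixIn S (S * (S * A))).ncard = (fixIn S A).ncard by omega, mul_assoc]

end Cubes

variable {K : Type*} [Group K] [Finite K] {V : Type*} [AddCommGroup V] [Finite V]

/-- In a perfect triple cover of M22 two elements of order three have commutator the central one. -/
theorem exists_pair {π : K →* ↥Spor.M22} (hπ : Function.Surjective π) {p : K}
    (hker : π.ker = zpowers p) (hp3 : orderOf p = 3) (hpc : p ∈ center K) (hperf : p ∈ commutator K)
    (hcard : Nat.card ↥Spor.M22 = 443520) :
    ∃ a b c : K, a ^ 3 = 1 ∧ (c = p ∨ c = p ^ 2) ∧ b * a = a * c * b := by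
  classical
  have : Fact (Nat.Prime 3) := ⟨by norm_num⟩
  have hpp : ∀ g, g * p = p * g := fun g => Subgroup.mem_center_iff.1 hpc g
  have hcardK : Nat.card K = 3 ^ 3 * 49280 := by
    rw [← π.ker.card_mul_index, index_ker, hker, Nat.card_zpowers, hp3,
      MonoidHom.range_eq_top.2 hπ, Nat.card_congr topEquiv.toEquiv, hcard]
    norm_num
  obtain ⟨S, hS⟩ := Sylow.exists_subgroup_card_pow_prime 3 (n := 3) (G := K) (hcardK ▸ dvd_mul_right _ _)
  -- we may assume that it contains `p`
  have hSp : p ∈ S := by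
    have hP : IsPGroup 3 ↥(zpowers p ⊔ S) := by
      have : (zpowers p).Normal := hker ▸ π.normal_ker
      exact IsPGroup.to_sup_of_normal_left (IsPGroup.of_card (n := 1) (by rw [Nat.card_zpowers, hp3]; rfl))
        (IsPGroup.of_card hS)
    obtain ⟨n, hn⟩ := IsPGroup.iff_card.1 hP
    have hd := card_dvd_of_le (le_sup_right : S ≤ zpowers p ⊔ S)
    have hd' := Subgroup.card_subgroup_dvd_card (zpowers p ⊔ S)
    rw [hn, hS] at hd
    rw [hn, hcardK] at hd'
    have h3 : 3 ≤ n := (Nat.pow_dvd_pow_iff_le_right (by norm_num : 1 < 3)).1 hd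
    have h4 : n ≤ 3 := by
      by_contra h
      have : 3 ^ 4 ∣ 3 ^ 3 * 49280 := (pow_dvd_pow 3 (by omega)).trans hd'
      omega
    have he : zpowers p ⊔ S = S := (eq_of_le_of_card_ge le_sup_right (by
      rw [hn, hS, show n = 3 by omega])).symm
    exact he ▸ mem_sup_left (mem_zpowers p)
  have hindex : S.index = 49280 := by
    have h := S.card_mul_index
    rw [hS, hcardK] at h
    omega
  -- it is not commutative
  obtain ⟨u, hu, v, hv, huv⟩ : ∃ u ∈ S, ∃ v ∈ S, u * v ≠ v * u := by
    by_contra hall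
    push Not at hall
    letI : CommGroup ↥S :=
      { (inferInstance : Group ↥S) with mul_comm := fun a b => Subtype.ext (hall a a.2 b b.2) }
    have key : ∀ (k : ℕ) (g : K), g⁻¹ * p ^ k * g ∈ S → g⁻¹ * p ^ k * g = p ^ k := fun k g _ => by
      rw [mul_assoc, ← ((show Commute g p from hpp g).pow_right k).eq, inv_mul_cancel_left]
    have hT := MonoidHom.transfer_eq_pow (MonoidHom.id ↥S) p key
    have h1 : MonoidHom.transfer (MonoidHom.id ↥S) p = 1 :=
      MonoidHom.mem_ker.1 (Abelianization.commutator_subset_ker _ hperf)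
    rw [h1] at hT
    have hd : orderOf p ∣ S.index := orderOf_dvd_of_pow_eq_one (congrArg Subtype.val hT).symm
    rw [hindex] at hd
    rw [hp3] at hd
    omega
  -- commutators in `⟨p⟩`
  have hcom : ∀ x ∈ S, ∀ y ∈ S, x * y * x⁻¹ * y⁻¹ ∈ zpowers p := by
    intro x hx y hy
    rw [← hker, MonoidHom.mem_ker]
    have himg : Nat.card ↥(S.map π) = 3 ^ 2 := by
      have h := (π.comp S.subtype).ker.card_mul_index
      have hk : (π.comp S.subtype).ker = (zpowers p).subgroupOf S := by
        rw [← hker]; rfl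
      rw [index_ker, hk, Nat.card_congr (subgroupOfEquivOfLe (zpowers_le.2 hSp)).toEquiv,
        Nat.card_zpowers, hp3, hS, MonoidHom.range_comp, range_subtype] at h
      omega
    have hab := (IsPGroup.isMulCommutative_of_card_eq_prime_sq (p := 3) himg).is_comm.comm
      ⟨π x, ⟨x, hx, rfl⟩⟩ ⟨π y, ⟨y, hy, rfl⟩⟩
    have hab' : π x * π y = π y * π x := congrArg Subtype.val hab
    rw [map_mul, map_mul, map_mul, map_inv, map_inv, hab']
    group
  have himg : Nat.card ↥(S.map π) = 9 := by
    have h := (π.comp S.subtype).ker.card_mul_index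
    have hk : (π.comp S.subtype).ker = (zpowers p).subgroupOf S := by
      rw [← hker]; rfl
    rw [index_ker, hk, Nat.card_congr (subgroupOfEquivOfLe (zpowers_le.2 hSp)).toEquiv,
      Nat.card_zpowers, hp3, hS, MonoidHom.range_comp, range_subtype] at h
    omega
  have hcube : ∀ x ∈ S, x ^ 3 ∈ zpowers p := by
    intro x hx
    rw [← hker, MonoidHom.mem_ker, map_pow]
    by_contra hne
    apply huv
    have hmem : π x ∈ S.map π := ⟨x, hx, rfl⟩
    have h9 : orderOf (π x) = 9 := by
      have hd : orderOf (π x) ∣ 3 ^ 2 := by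
        have := Subgroup.orderOf_dvd_natCard (S.map π) hmem
        rwa [himg] at this
      obtain ⟨k, hk, hko⟩ := (Nat.dvd_prime_pow Nat.prime_three).1 hd
      rcases Nat.lt_or_ge k 2 with hk2 | hk2
      · exact absurd (orderOf_dvd_iff_pow_eq_one.1 (hko ▸ (pow_dvd_pow 3 (show k ≤ 1 by omega)))) hne
      · rw [hko, show k = 2 by omega]; norm_num
    have hgen : S.map π = zpowers (π x) :=
      (eq_of_le_of_card_ge (zpowers_le.2 hmem) (by rw [himg, Nat.card_zpowers, h9])).symm
    have hdec : ∀ w ∈ S, ∃ (i : ℤ) (k : K), k ∈ zpowers p ∧ w = x ^ i * k := by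
      intro w hw
      obtain ⟨i, hi⟩ := mem_zpowers_iff.1 (show π w ∈ zpowers (π x) from hgen ▸ mem_map_of_mem π hw)
      refine ⟨i, (x ^ i)⁻¹ * w, ?_, by group⟩
      rw [← hker, MonoidHom.mem_ker, map_mul, map_inv, map_zpow, hi, inv_mul_cancel]
    obtain ⟨i, k, hk, rfl⟩ := hdec u hu
    obtain ⟨j, l, hl, rfl⟩ := hdec v hv
    have hc : ∀ {k}, k ∈ zpowers p → ∀ g, Commute g k := fun hk g => by
      obtain ⟨n, rfl⟩ := mem_zpowers_iff.1 hk
      exact (show Commute g p from hpp g).zpow_right n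
    exact (((Commute.refl x).zpow_zpow i j).mul_right (hc hl _)).mul_left ((hc hk _).symm)
  have hc : ∀ {k}, k ∈ zpowers p → ∀ g, Commute g k := fun hk g => by
    obtain ⟨n, rfl⟩ := mem_zpowers_iff.1 hk
    exact (show Commute g p from hpp g).zpow_right n
  have hk3 : ∀ {k}, k ∈ zpowers p → k ^ 3 = 1 := fun hk => by
    obtain ⟨n, rfl⟩ := mem_zpowers_iff.1 hk
    rw [← zpow_natCast, ← zpow_mul, mul_comm, zpow_mul, zpow_natCast, ← hp3, pow_orderOf_eq_one,
      one_zpow]
  obtain ⟨a, ha, b, hb, hab, ha3⟩ : ∃ a ∈ S, ∃ b ∈ S, a * b ≠ b * a ∧ a ^ 3 = 1 := by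
    by_cases h3 : u ^ 3 = 1
    · exact ⟨u, hu, v, hv, huv, h3⟩
    have hgen : zpowers (u ^ 3) = zpowers p := eq_of_le_of_card_ge (zpowers_le.2 (hcube u hu)) (by
      rw [Nat.card_zpowers, Nat.card_zpowers, hp3,
        orderOf_eq_prime (p := 3) (hk3 (hcube u hu)) h3])
    obtain ⟨m, hm⟩ := mem_zpowers_iff.1 (hgen ▸ hcube v hv : v ^ 3 ∈ zpowers (u ^ 3))
    obtain ⟨w, hw⟩ : ∃ w, w = u ^ (-m) := ⟨_, rfl⟩
    have hwS : w ∈ S := hw ▸ zpow_mem hu _
    refine ⟨v * w, mul_mem hv hwS, u, hu, fun h => huv ?_, ?_⟩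
    · have hwu : Commute w u := hw ▸ (Commute.refl u).zpow_left _
      have h' : v * u * w = u * v * w := by
        rw [mul_assoc v, ← hwu.eq, ← mul_assoc, h, mul_assoc]
      exact (mul_right_cancel h').symm
    · obtain ⟨c, hcd⟩ : ∃ c, c = w * v * w⁻¹ * v⁻¹ := ⟨_, rfl⟩
      have hcP : c ∈ zpowers p := hcd ▸ hcom w hwS v hv
      have hwv : w * v = c * (v * w) := by rw [hcd]; group
      calc (v * w) ^ 3 = v * (w * v) * w * (v * w) := by
            simp only [pow_succ, pow_zero, one_mul, mul_assoc]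
        _ = v * c * (v * w) * w * (v * w) := by rw [hwv]; simp only [mul_assoc]
        _ = c * (v * v * w * (w * v) * w) := by
            rw [(hc hcP v).eq]; simp only [mul_assoc]
        _ = c * (v * v * (w * c) * (v * w) * w) := by rw [hwv]; simp only [mul_assoc]
        _ = c * (v * v * (c * (w * v)) * w * w) := by
            rw [(hc hcP w).eq]; simp only [mul_assoc]
        _ = c * (v * v * (c * (c * (v * w))) * w * w) := by rw [hwv]
        _ = c * (c * (c * (v * v * (v * w) * w * w))) := by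
            rw [← mul_assoc c c, (hc (mul_mem hcP hcP) (v * v)).left_comm]
            simp only [mul_assoc]
        _ = (c ^ 3) * (v ^ 3 * w ^ 3) := by simp only [pow_succ, pow_zero, one_mul, mul_assoc]
        _ = 1 := by
            rw [hk3 hcP, one_mul, ← hm, hw, ← zpow_natCast (u ^ (-m)) 3, ← zpow_natCast u 3,
              ← zpow_mul, ← zpow_mul, ← zpow_add, show ((3 : ℕ) : ℤ) * m + -m * ((3 : ℕ) : ℤ) = 0 by ring,
              zpow_zero]
  refine ⟨a, b, a⁻¹ * (b * a * b⁻¹), ha3, ?_, by group⟩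
  have hcm : a⁻¹ * (b * a * b⁻¹) ∈ zpowers p := by
    have := hcom a⁻¹ (inv_mem ha) b hb
    rwa [show a⁻¹ * b * a⁻¹⁻¹ * b⁻¹ = a⁻¹ * (b * a * b⁻¹) by group] at this
  have hne : a⁻¹ * (b * a * b⁻¹) ≠ 1 := fun h => hab (by
    rw [inv_mul_eq_one] at h
    exact (eq_mul_inv_iff_mul_eq.1 h))
  obtain ⟨n, hn⟩ := mem_zpowers_iff.1 hcm
  rw [← hn] at hne ⊢
  rw [← zpow_mod_orderOf, hp3] at hne ⊢
  have h1 := Int.emod_nonneg n (show ((3 : ℕ) : ℤ) ≠ 0 by norm_num)
  have h2 := Int.emod_lt_of_pos n (show (0 : ℤ) < ((3 : ℕ) : ℤ) by norm_num)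
  obtain ⟨k, hk⟩ := Int.eq_ofNat_of_zero_le h1
  rw [hk, zpow_natCast] at hne ⊢
  have hk2 : k < 3 := by omega
  interval_cases k
  · exact absurd (pow_zero p) hne
  · exact Or.inl (pow_one p)
  · exact Or.inr rfl

theorem free_of_cover {π : K →* ↥Spor.M22} {p : K} {ρ : K →* AddMonoid.End V}
    (hπ : Function.Surjective π) (hker : π.ker = zpowers p) (hp3 : orderOf p = 3)
    (hpc : p ∈ center K) (hperf : p ∈ commutator K) (hsimple : IsSimpleGroup ↥Spor.M22)
    (hcard : Nat.card ↥Spor.M22 = 443520) (h2 : ∀ v : V, v + v = 0) (hV : Nat.card V = 4096)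
    (hfaith : ρ p ≠ 1) : ∀ v, ρ p v = v → v = 0 := by
  classical
  have hppow : p ^ 3 = 1 := by rw [← hp3]; exact pow_orderOf_eq_one p
  have hS : ρ p ^ 3 = 1 := by rw [← map_pow, hppow, map_one]
  have hcomm : ∀ g, ρ g * ρ p = ρ p * ρ g := fun g => by
    rw [← map_mul, ← map_mul, Subgroup.mem_center_iff.1 hpc g]
  obtain ⟨a, b, c, ha, hc, hba⟩ := exists_pair hπ hker hp3 hpc hperf hcard
  have hinj : ∀ g, Function.Injective (ρ g) := fun g u w h => by
    have h' := congrArg (ρ g⁻¹) h
    rwa [← mul_apply', ← mul_apply', ← map_mul, inv_mul_cancel, map_one, one_apply', one_apply'] at h'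
  have hmc : moved (ρ c) = moved (ρ p) := by
    rcases hc with rfl | rfl
    · rfl
    · ext v
      rw [mem_moved, mem_moved, pow_two, map_mul, mul_apply', mul_apply']
      have h3 : ρ p (ρ p (ρ p v)) = v := by
        have := DFunLike.congr_fun hS v
        rwa [pow_succ, pow_two, mul_apply', mul_apply', one_apply'] at this
      rw [h3, show v + ρ p (ρ p v) + ρ p v = v + ρ p v + ρ p (ρ p v) by abel]
  have hccomm : ∀ g, ρ g * ρ c = ρ c * ρ g := fun g => by
    rcases hc with rfl | rfl
    · exact hcomm g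
    · rw [map_pow]; exact (show Commute (ρ g) (ρ p) from hcomm g).pow_right 2
  have hc3 : ρ c ^ 3 = 1 := by
    rcases hc with rfl | rfl
    · exact hS
    · rw [map_pow, ← pow_mul, mul_comm, pow_mul, hS, one_pow]
  obtain ⟨n, hn⟩ := card_moved_cube h2 hc3 (A := ρ a) (B := ρ b) (by rw [← map_pow, ha, map_one])
    (hinj b) (hccomm a) (hccomm b) (by rw [← map_mul, ← map_mul, ← map_mul, hba])
  rw [hmc] at hn
  -- an element of order eleven acts faithfully on the moved space
  set W := moved (ρ p) with hW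
  let σ : K →* AddMonoid.End ↥W :=
    { toFun := fun g => AddMonoidHom.mk' (fun v => ⟨ρ g v, moved_map (hcomm g) v.2⟩)
        fun u w => Subtype.ext (map_add (ρ g) _ _)
      map_one' := DFunLike.ext _ _ fun v => Subtype.ext (by
        show ρ 1 (v : V) = v
        rw [map_one, one_apply'])
      map_mul' := fun g h => DFunLike.ext _ _ fun v => Subtype.ext (by
        show ρ (g * h) (v : V) = ρ g (ρ h v)
        rw [map_mul, mul_apply']) }
  have hpm : ∀ v, ρ p v + ρ p (ρ p v) ∈ W := fun v => by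
    rw [hW, mem_moved]
    have h3 : ρ p (ρ p (ρ p v)) = v := by
      have := DFunLike.congr_fun hS v
      rwa [pow_succ, pow_two, mul_apply', mul_apply', one_apply'] at this
    rw [map_add, map_add, h3]
    calc ρ p v + ρ p (ρ p v) + (ρ p (ρ p v) + v) + (v + ρ p v)
        = (ρ p v + ρ p v) + (ρ p (ρ p v) + ρ p (ρ p v)) + (v + v) := by abel
      _ = 0 := by simp only [h2, add_zero]
  have hfixW : ∀ v ∈ W, ρ p v = v → v = 0 := fun v hv h => by
    rw [hW, mem_moved, h, h, h2, zero_add] at hv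
    exact hv
  have hσp : σ p ≠ 1 := by
    intro h
    have hfix : ∀ v ∈ W, ρ p v = v := fun v hv => by
      show ((σ p ⟨v, hv⟩ : ↥W) : V) = v
      rw [h]; rfl
    refine hfaith (DFunLike.ext _ _ fun v => ?_)
    rw [one_apply']
    have e := hfixW _ (hpm v) (hfix _ (hpm v))
    have h3 : ρ p (ρ p (ρ p v)) = v := by
      have := DFunLike.congr_fun hS v
      rwa [pow_succ, pow_two, mul_apply', mul_apply', one_apply'] at this
    have e2 : ρ p v = ρ p (ρ p v) := by
      calc ρ p v = ρ p v + (ρ p (ρ p v) + ρ p (ρ p v)) := by rw [h2, add_zero]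
        _ = _ := by rw [← add_assoc, e, zero_add]
    exact (hinj p e2).symm
  obtain ⟨x, hx, x11⟩ := Rep.exists_lift hπ (fun q h => by
    have hq : q ∈ zpowers p := hker ▸ MonoidHom.mem_ker.2 h
    obtain ⟨i, rfl⟩ := mem_zpowers_iff.1 hq
    rw [← zpow_natCast, ← zpow_mul, mul_comm, zpow_mul, zpow_natCast, hppow, one_zpow])
    Rep.m22_rels.1 (k := 12) (by norm_num) (by norm_num)
  have hxne : σ x ≠ 1 := by
    intro h
    have hn' : (σ.ker.map π).Normal := Subgroup.Normal.map inferInstance π hπ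
    have := hsimple
    rcases hn'.eq_bot_or_eq_top with hb | ht
    · have hle : σ.ker ≤ zpowers p := hker ▸ fun g hg => MonoidHom.mem_ker.2 (by
        have : π g ∈ σ.ker.map π := ⟨g, hg, rfl⟩
        rwa [hb, mem_bot] at this)
      obtain ⟨i, hi⟩ := mem_zpowers_iff.1 (hle h)
      have h1 : mx = 1 := by
        have hp1 : π p = 1 := MonoidHom.mem_ker.1 (hker ▸ mem_zpowers p)
        rw [← hx, ← hi, map_zpow, hp1, one_zpow]
      have e1 := congrArg (fun u : ↥Spor.M22 => (u : Equiv.Perm GolayPt) (some 1)) h1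
      have hne : Compute.rep24.act Rep.gx 1 ≠ 1 := by decide +kernel
      have ok := (Rep.mem_m22 Rep.gx Rep.gens_mem.1).1
      refine hne (Compute.rep24.pt_inj _ _ (Compute.rep24.act_lt _ _ ok (by decide : 1 < 24))
        (by decide : 1 < 24) ?_)
      rw [← Compute.rep24.act_spec Rep.gx 1 ok (by decide : 1 < 24)]
      exact e1
    · have hdec : ∀ g : K, ∃ k ∈ σ.ker, ∃ w ∈ center K, g = k * w := by
        intro g
        obtain ⟨k, hk, hkg⟩ := (ht ▸ mem_top (π g) : π g ∈ σ.ker.map π)
        refine ⟨k, hk, k⁻¹ * g, ?_, by group⟩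
        refine zpowers_le.2 hpc (hker ▸ MonoidHom.mem_ker.2 ?_)
        rw [map_mul, map_inv, hkg, inv_mul_cancel]
      have hle : commutator K ≤ σ.ker := Subgroup.commutator_le.2 fun g _ g' _ => by
        obtain ⟨k, hk, w, hw, rfl⟩ := hdec g
        obtain ⟨k', hk', w', hw', rfl⟩ := hdec g'
        have e : ⁅k * w, k' * w'⁆ = ⁅k, k'⁆ := by
          have c1 := Subgroup.mem_center_iff.1 hw
          have c2 := Subgroup.mem_center_iff.1 hw'
          rw [commutatorElement_def, commutatorElement_def]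
          calc k * w * (k' * w') * (k * w)⁻¹ * (k' * w')⁻¹
              = k * (w * (k' * w')) * w⁻¹ * k⁻¹ * w'⁻¹ * k'⁻¹ := by group
            _ = k * k' * (w' * k⁻¹) * w'⁻¹ * k'⁻¹ := by rw [← c1 (k' * w')]; group
            _ = _ := by rw [← c2 k⁻¹]; group
        rw [e, commutatorElement_def]
        exact mul_mem (mul_mem (mul_mem hk hk') (inv_mem hk)) (inv_mem hk')
      exact hσp (MonoidHom.mem_ker.1 (hle hperf))
  have h2W : ∀ v : ↥W, v + v = 0 := fun v => Subtype.ext (h2 v)
  have hx11 : σ x ^ 11 = 1 := by rw [← map_pow, x11, map_one]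
  obtain ⟨v₁, hv1, hv0⟩ := Rep.exists_mem_kernel h2W hx11 hxne
  have hbig : 1024 ≤ Nat.card ↥W := by
    have hi : Function.Injective (fun r : Fin 1024 => Rep.lin (Rep.BK (σ x) v₁) r.1) := fun r s h =>
      Fin.ext (Rep.lin_BK_inj h2W (Rep.acts_BK h2W hv0) hv1 r.2 s.2 h)
    simpa using Nat.card_le_card_of_injective _ hi
  have hle : Nat.card ↥W ∣ 2 ^ 12 := by
    have := AddSubgroup.card_addSubgroup_dvd_card W
    rwa [hV] at this
  obtain ⟨k, hk12, hk⟩ := (Nat.dvd_prime_pow Nat.prime_two).1 hle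
  have hfull : Nat.card ↥W = Nat.card V := by
    rw [hV]
    rw [hk] at hbig hn ⊢
    have hk10 : 10 ≤ k := (Nat.pow_le_pow_iff_right (by norm_num : 1 < 2)).1 hbig
    interval_cases k
    · exfalso
      have h1 : 10 < n := by
        by_contra h
        have := Nat.pow_le_pow_left (show n ≤ 10 by omega) 3
        omega
      have h2 := Nat.pow_le_pow_left (show 11 ≤ n by omega) 3
      omega
    · exfalso
      have h1 : 12 < n := by
        by_contra h
        have := Nat.pow_le_pow_left (show n ≤ 12 by omega) 3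
        omega
      have h2 := Nat.pow_le_pow_left (show 13 ≤ n by omega) 3
      omega
    · norm_num
  have htop : ∀ v : V, v ∈ W := fun v => by
    rw [(AddSubgroup.card_eq_iff_eq_top W).1 hfull]; trivial
  exact fun v h => hfixW v (htop v) h

end Cfsg.Agent.J4Type.Order
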