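import Cfsg.Agent.J4Type.Order.BridgeFree
import Cfsg.Agent.J4Type.Rep.M22Out
import Cfsg.Agent.J4Type.DuadStab
import Cfsg.Agent.Core.PCore
import Cfsg.Prelude.Def_JankoFourType

/-!
# The Janko-four type conditions from the shape of a centraliser of an involution
-/

set_option autoImplicit false
set_option maxRecDepth 100000

open Cfsg Subgroup
open scoped commutatorElement

namespace Cfsg.Agent.J4Type.Order

open Rep (mx my mf mul_apply' one_apply' Acts)

/-- The product of the outer images of the generators. -/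
noncomputable def prod10 (r : ℕ) : ℕ := Rep.it Rep.Xm 10 (Rep.app Rep.Ym (Rep.app Rep.F0 r))

/-- Its fifth power. -/
noncomputable def five10 (r : ℕ) : ℕ := prod10 (prod10 (prod10 (prod10 (prod10 r))))

theorem five10_lt (_ : Unit) : five10 1 < 4096 := by decide +kernel

theorem five_lt (_ : Unit) : Rep.five Rep.F0 1 < 4096 := by decide +kernel

theorem five_ne : five10 1 ≠ Rep.five Rep.F0 1 := by decide +kernel

universe u

variable {C : Type u} [Group C]

/-- The hypotheses inside the centraliser. -/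
structure Shape (z : C) (Q N M : Subgroup C) : Prop where
  hz : orderOf z = 2
  zc : z ∈ center C
  nQ : Q.Normal
  nN : N.Normal
  nM : M.Normal
  QN : Q ≤ N
  NM : N ≤ M
  index : M.index = 2
  es : IsExtraspecial 2 ↥Q
  cardQ : Nat.card ↥Q = 2 ^ 13
  cardN : Nat.card ↥N = 3 * Nat.card ↥Q
  cent : ⁅M, N⁆ ≤ Q
  perf : M ≤ ⁅M, M⁆ ⊔ Q
  self : centralizer (Q : Set C) ≤ Q
  out : ∀ c : C, (∀ m ∈ M, c * m * c⁻¹ * m⁻¹ ∈ N) → c ∈ M
  iso : ∃ h : (N.subgroupOf M).Normal, Nonempty (↥M ⧸ N.subgroupOf M ≃* ↥Spor.M22)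

variable [Finite C] {z : C} {Q N M : Subgroup C}

namespace Shape

variable (S : Shape z Q N M)
include S

theorem z_mem : z ∈ Q := S.self (mem_centralizer_iff.2 fun q _ => Subgroup.mem_center_iff.1 S.zc q)

theorem center_Q : center ↥Q = zpowers (⟨z, S.z_mem⟩ : ↥Q) := by
  have hz : (⟨z, S.z_mem⟩ : ↥Q) ∈ center ↥Q :=
    Subgroup.mem_center_iff.2 fun g => Subtype.ext (Subgroup.mem_center_iff.1 S.zc g)
  refine (eq_of_le_of_card_ge (zpowers_le.2 hz) ?_).symm
  rw [S.es.2, Nat.card_zpowers, Subgroup.orderOf_mk, S.hz]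

theorem commutator_Q : commutator ↥Q = zpowers (⟨z, S.z_mem⟩ : ↥Q) := S.es.1.2.2.trans S.center_Q

theorem mem_zp {a : ↥Q} : a ∈ zpowers (⟨z, S.z_mem⟩ : ↥Q) ↔ (a : C) = 1 ∨ (a : C) = z := by
  constructor
  · rintro ⟨k, rfl⟩
    show z ^ k = 1 ∨ z ^ k = z
    rw [← zpow_mod_orderOf, S.hz]
    rcases Int.emod_two_eq_zero_or_one k with e | e
    · exact Or.inl (by norm_num [e])
    · exact Or.inr (by norm_num [e])
  · rintro (h | h)
    · rw [show a = 1 from Subtype.ext h]; exact one_mem _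
    · rw [show a = ⟨z, S.z_mem⟩ from Subtype.ext h]; exact mem_zpowers _

theorem zz : z * z = 1 := by rw [← pow_two, ← S.hz, pow_orderOf_eq_one]

theorem centre_cases {a : C} (ha : a ∈ Q) (h : ∀ b ∈ Q, a * b = b * a) : a = 1 ∨ a = z := by
  refine (S.mem_zp (a := ⟨a, ha⟩)).1 ?_
  rw [← S.center_Q]
  exact Subgroup.mem_center_iff.2 fun b => Subtype.ext (h b b.2).symm

theorem comm_cases {a b : C} (ha : a ∈ Q) (hb : b ∈ Q) :
    a * b * a⁻¹ * b⁻¹ = 1 ∨ a * b * a⁻¹ * b⁻¹ = z := by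
  have h : (⟨a, ha⟩ * ⟨b, hb⟩ * ⟨a, ha⟩⁻¹ * ⟨b, hb⟩⁻¹ : ↥Q) ∈ commutator ↥Q :=
    commutator_mem_commutator (mem_top _) (mem_top _)
  rw [S.commutator_Q] at h
  exact S.mem_zp.1 h

theorem sq_cases {a : C} (ha : a ∈ Q) : a * a = 1 ∨ a * a = z := by
  refine S.centre_cases (mul_mem ha ha) fun b hb => ?_
  have hzc := Subgroup.mem_center_iff.1 S.zc
  rcases S.comm_cases ha hb with h | h
  · have h' : Commute a b := mul_inv_eq_iff_eq_mul.1 (mul_inv_eq_one.1 h)
    exact (h'.mul_left h').eq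
  · have h' : a * b = z * (b * a) := by rw [← h]; group
    calc a * a * b = a * (z * (b * a)) := by rw [mul_assoc, h']
      _ = z * (a * b) * a := by rw [← mul_assoc, hzc a]; simp only [mul_assoc]
      _ = z * (z * (b * a)) * a := by rw [h']
      _ = b * (a * a) := by rw [← mul_assoc z z, S.zz, one_mul, mul_assoc]

theorem card_MN : M.index = 2 ∧ Nat.card ↥M = Nat.card ↥N * 443520 := by
  obtain ⟨hn, ⟨e⟩⟩ := S.iso
  refine ⟨S.index, ?_⟩
  rw [card_eq_card_quotient_mul_card_subgroup (N.subgroupOf M), Nat.card_congr e.toEquiv,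
    Nat.card_congr (subgroupOfEquivOfLe S.NM).toEquiv, Compute.card_m22, mul_comm]

/-- `Q` is the largest normal 2-subgroup. -/
theorem pCore_eq : pCore 2 C = Q := by
  have : Fact (Nat.Prime 2) := ⟨Nat.prime_two⟩
  have := S.nQ
  refine le_antisymm ?_ (Core.le_pCore (IsPGroup.of_card S.cardQ))
  obtain ⟨hn, ⟨e⟩⟩ := S.iso
  have hR : IsPGroup 2 ↥(pCore 2 C) := Core.pCore_isPGroup
  have : (pCore 2 C).Normal := pCore_normal 2 C
  -- the intersection with `M` lies in `Q`
  have hRM : pCore 2 C ⊓ M ≤ Q := by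
    have hinN : pCore 2 C ⊓ M ≤ N := by
      let f : ↥M →* ↥Spor.M22 := e.toMonoidHom.comp (QuotientGroup.mk' _)
      have hf : Function.Surjective f := e.surjective.comp (QuotientGroup.mk'_surjective _)
      have hsimple : IsSimpleGroup ↥Spor.M22 := Compute.isSimpleGroup_m22
      have hnormal : (((pCore 2 C).subgroupOf M).map f).Normal :=
        Subgroup.Normal.map inferInstance f hf
      rcases hnormal.eq_bot_or_eq_top with hb | ht
      · intro r hr
        have h : f ⟨r, hr.2⟩ ∈ ((pCore 2 C).subgroupOf M).map f := ⟨_, mem_subgroupOf.2 hr.1, rfl⟩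
        rw [hb, mem_bot] at h
        have h' : (QuotientGroup.mk' (N.subgroupOf M)) ⟨r, hr.2⟩ = 1 := e.injective (h.trans (map_one e).symm)
        exact mem_subgroupOf.1 ((QuotientGroup.eq_one_iff _).1 h')
      · exfalso
        have hp : IsPGroup 2 ↥((pCore 2 C).subgroupOf M) := hR.comap_subtype
        have hp' := hp.map f
        rw [ht] at hp'
        obtain ⟨k, hk⟩ := IsPGroup.iff_card.1 hp'
        rw [Nat.card_congr topEquiv.toEquiv, Compute.card_m22] at hk
        have h7 : 7 ∣ 2 ^ k := hk ▸ (by norm_num)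
        exact absurd (Nat.prime_dvd_prime_iff_eq (by norm_num) Nat.prime_two |>.1
          ((show Nat.Prime 7 by norm_num).dvd_of_dvd_pow h7)) (by norm_num)
    have hQle : Q ≤ pCore 2 C ⊓ M :=
      le_inf (Core.le_pCore (IsPGroup.of_card S.cardQ)) (S.QN.trans S.NM)
    obtain ⟨k, hk⟩ := IsPGroup.iff_card.1 (hR.to_le (inf_le_left : pCore 2 C ⊓ M ≤ pCore 2 C))
    have h1 := card_dvd_of_le hinN
    rw [hk, S.cardN, S.cardQ] at h1
    have h2 : 2 ^ k ∣ 2 ^ 13 :=
      (Nat.Coprime.pow_left k (by norm_num : Nat.Coprime 2 3)).dvd_of_dvd_mul_left h1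
    rw [← eq_of_le_of_card_ge hQle (by rw [hk, S.cardQ]; exact Nat.le_of_dvd (by norm_num) h2)]
  intro r hr
  have := S.nM
  refine hRM (mem_inf.2 ⟨hr, S.out r fun m hm => S.QN (hRM (mem_inf.2 ⟨?_, mul_mem (S.nM.conj_mem m hm r) (inv_mem hm)⟩))⟩)
  have e' : r * m * r⁻¹ * m⁻¹ = r * (m * r⁻¹ * m⁻¹) := by group
  rw [e']
  exact mul_mem hr ((pCore_normal 2 C).conj_mem _ (inv_mem hr) m)

/-- The quotient by `N` is the automorphism group of M22. -/
theorem exists_psi : ∃ ψ : C →* MulAut ↥Spor.M22, ψ.ker = N ∧ Function.Surjective ψ ∧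
    ∃ f : ↥M →* ↥Spor.M22, Function.Surjective f ∧ f.ker = N.subgroupOf M ∧
      ∀ (c : C) (m m' : ↥M), (m' : C) = c * m * c⁻¹ → f m' = ψ c (f m) := by
  classical
  obtain ⟨hn, ⟨e⟩⟩ := S.iso
  have := S.nM
  have := S.nN
  let f : ↥M →* ↥Spor.M22 := e.toMonoidHom.comp (QuotientGroup.mk' (N.subgroupOf M))
  have hf : Function.Surjective f := e.surjective.comp (QuotientGroup.mk'_surjective _)
  have hfk : f.ker = N.subgroupOf M := by
    ext m
    rw [MonoidHom.mem_ker]
    show e (QuotientGroup.mk m) = 1 ↔ _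
    rw [EmbeddingLike.map_eq_one_iff, QuotientGroup.eq_one_iff]
  have hkey : ∀ c : C, ∀ m : ↥M, f m = 1 → f (MulAut.conjNormal c m) = 1 := fun c m hm => by
    rw [← MonoidHom.mem_ker, hfk, mem_subgroupOf] at hm ⊢
    rw [MulAut.conjNormal_apply]
    exact S.nN.conj_mem _ hm c
  let g : C → (↥Spor.M22 →* ↥Spor.M22) := fun c => f.liftOfRightInverse (Function.surjInv hf)
    (Function.rightInverse_surjInv hf) ⟨f.comp (MulAut.conjNormal c : MulAut ↥M).toMonoidHom,
      fun m hm => MonoidHom.mem_ker.2 (hkey c m (MonoidHom.mem_ker.1 hm))⟩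
  have hg : ∀ c m, g c (f m) = f (MulAut.conjNormal c m) := fun c m =>
    MonoidHom.liftOfRightInverse_comp_apply f _ _ _ m
  have hgm : ∀ a b v, g (a * b) v = g a (g b v) := fun a b v => by
    obtain ⟨m, rfl⟩ := hf v
    rw [hg, hg, hg, map_mul]; rfl
  have hg1 : ∀ v, g 1 v = v := fun v => by
    obtain ⟨m, rfl⟩ := hf v
    rw [hg, map_one]; rfl
  let ψ : C →* MulAut ↥Spor.M22 :=
    { toFun := fun c =>
        { toFun := g c, invFun := g c⁻¹
          left_inv := fun v => by rw [← hgm, inv_mul_cancel, hg1]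
          right_inv := fun v => by rw [← hgm, mul_inv_cancel, hg1]
          map_mul' := map_mul (g c) }
      map_one' := MulEquiv.ext hg1
      map_mul' := fun a b => MulEquiv.ext (hgm a b) }
  have hψ : ∀ c m, ψ c (f m) = f (MulAut.conjNormal c m) := hg
  have hker : ψ.ker = N := by
    ext c
    rw [MonoidHom.mem_ker]
    constructor
    · intro hc
      have hall : ∀ m ∈ M, c * m * c⁻¹ * m⁻¹ ∈ N := by
        intro m hm
        have h := hψ c ⟨m, hm⟩
        rw [hc, MulAut.one_apply] at h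
        have h2 : MulAut.conjNormal c (⟨m, hm⟩ : ↥M) * (⟨m, hm⟩ : ↥M)⁻¹ ∈ f.ker := by
          rw [MonoidHom.mem_ker, map_mul, map_inv, ← h, mul_inv_cancel]
        rw [hfk, mem_subgroupOf, coe_mul, coe_inv, MulAut.conjNormal_apply] at h2
        exact h2
      have hcM := S.out c hall
      have hcen : f ⟨c, hcM⟩ ∈ center ↥Spor.M22 := by
        refine Subgroup.mem_center_iff.2 fun v => ?_
        obtain ⟨m, rfl⟩ := hf v
        have h := hψ c m
        rw [hc, MulAut.one_apply, show MulAut.conjNormal c m = ⟨c, hcM⟩ * m * (⟨c, hcM⟩ : ↥M)⁻¹ from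
          Subtype.ext (MulAut.conjNormal_apply c m), map_mul, map_mul, map_inv, eq_mul_inv_iff_mul_eq] at h
        exact h
      have hsimple : IsSimpleGroup ↥Spor.M22 := Compute.isSimpleGroup_m22
      rcases (inferInstance : (center ↥Spor.M22).Normal).eq_bot_or_eq_top with hb | ht
      · rw [hb, mem_bot, ← MonoidHom.mem_ker, hfk, mem_subgroupOf] at hcen
        exact hcen
      · exfalso
        let _ : CommGroup ↥Spor.M22 :=
          { mul_comm := fun a b => (Subgroup.mem_center_iff.1 (ht ▸ mem_top b) a) }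
        have := IsSimpleGroup.prime_card (α := ↥Spor.M22)
        rw [Compute.card_m22] at this
        norm_num at this
    · intro hc
      refine MulEquiv.ext fun v => ?_
      obtain ⟨m, rfl⟩ := hf v
      rw [hψ, MulAut.one_apply, ← mul_inv_eq_one, ← map_inv, ← map_mul, ← MonoidHom.mem_ker, hfk,
        mem_subgroupOf, coe_mul, coe_inv, MulAut.conjNormal_apply,
        show c * (m : C) * c⁻¹ * (m : C)⁻¹ = c * ((m : C) * c⁻¹ * (m : C)⁻¹) by group]
      exact mul_mem hc (S.nN.conj_mem _ (inv_mem hc) m)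
  refine ⟨ψ, hker, ?_, f, hf, hfk, fun c m m' h => ?_⟩
  · refine MonoidHom.range_eq_top.1 (eq_top_of_card_eq _ ?_)
    rw [card_mulAut_m22]
    have h1 := ψ.ker.card_mul_index
    rw [index_ker, hker, ← M.card_mul_index, S.index, S.card_MN.2, mul_assoc] at h1
    exact Nat.eq_of_mul_eq_mul_left Nat.card_pos h1
  · rw [hψ]
    exact congrArg f (Subtype.ext (by rw [MulAut.conjNormal_apply]; exact h))

theorem exists_three : ∃ p ∈ N, orderOf p = 3 ∧ ∀ x ∈ N, ∃ q ∈ Q, ∃ i : ℕ, i < 3 ∧ x = q * p ^ i := by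
  have : Fact (Nat.Prime 3) := ⟨by norm_num⟩
  obtain ⟨⟨p, hp⟩, ho⟩ := exists_prime_orderOf_dvd_card' (G := ↥N) 3 (by rw [S.cardN]; exact dvd_mul_right _ _)
  rw [Subgroup.orderOf_mk] at ho
  refine ⟨p, hp, ho, ?_⟩
  have hnot : ∀ i : ℕ, p ^ i ∈ Q → 3 ∣ i := by
    intro i hi
    have h1 : orderOf (p ^ i) ∣ 2 ^ 13 := by rw [← S.cardQ]; exact Subgroup.orderOf_dvd_natCard Q hi
    by_contra h3
    have h2 : orderOf (p ^ i) = 3 := by
      rw [Nat.Coprime.orderOf_pow (by rw [ho]; exact (Nat.prime_three.coprime_iff_not_dvd).2 h3), ho]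
    rw [h2] at h1
    norm_num at h1
  let φ : ↥Q × Fin 3 → ↥N := fun x => ⟨x.1 * p ^ (x.2 : ℕ), mul_mem (S.QN x.1.2) (pow_mem hp _)⟩
  have hinj : Function.Injective φ := by
    rintro ⟨a, i⟩ ⟨b, j⟩ h
    have h' : (a : C) * p ^ (i : ℕ) = b * p ^ (j : ℕ) := congrArg Subtype.val h
    have hij : (i : ℕ) = j := by
      rcases Nat.le_total (i : ℕ) j with hle | hle
      · have e : p ^ ((j : ℕ) - i) ∈ Q := by
          rw [pow_sub p hle, show p ^ (j : ℕ) = (b : C)⁻¹ * a * p ^ (i : ℕ) by rw [mul_assoc, h']; group,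
            mul_inv_cancel_right]
          exact mul_mem (inv_mem b.2) a.2
        have := hnot _ e
        omega
      · have e : p ^ ((i : ℕ) - j) ∈ Q := by
          rw [pow_sub p hle, show p ^ (i : ℕ) = (a : C)⁻¹ * b * p ^ (j : ℕ) by rw [mul_assoc, ← h']; group,
            mul_inv_cancel_right]
          exact mul_mem (inv_mem a.2) b.2
        have := hnot _ e
        omega
    rw [hij] at h'
    exact Prod.ext (Subtype.ext (mul_right_cancel h')) (Fin.ext hij)
  have hb : Function.Bijective φ :=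
    (Nat.bijective_iff_injective_and_card φ).2 ⟨hinj, by
      rw [Nat.card_prod, Nat.card_fin, S.cardN, mul_comm]⟩
  intro x hx
  obtain ⟨⟨a, i⟩, h⟩ := hb.2 ⟨x, hx⟩
  exact ⟨a, a.2, i, i.2, (congrArg Subtype.val h).symm⟩

theorem conj_mod {p : C} (hp : p ∈ N) {m : C} (hm : m ∈ M) : m * p * m⁻¹ * p⁻¹ ∈ Q := by
  have := S.cent (commutator_mem_commutator hm hp)
  rwa [commutatorElement_def] at this

theorem not_commute_all {p : C} (hp : orderOf p = 3) : ¬ ∀ b ∈ Q, p * b * p⁻¹ * b⁻¹ = 1 ∨ p * b * p⁻¹ * b⁻¹ = z := by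
  intro hall
  have h3 : p ^ 3 = 1 := by rw [← hp]; exact pow_orderOf_eq_one p
  have hcent : ∀ b ∈ Q, p * b = b * p := by
    intro b hb
    rcases hall b hb with h | h
    · exact mul_inv_eq_iff_eq_mul.1 (mul_inv_eq_one.1 h)
    · exfalso
      have e : p * b * p⁻¹ = z * b := mul_inv_eq_iff_eq_mul.1 h
      have hzc := Subgroup.mem_center_iff.1 S.zc
      have hzp : ∀ w, p * (z * w) * p⁻¹ = z * (p * w * p⁻¹) := fun w => by
        rw [← mul_assoc p z, hzc p]; group
      have e3 : p ^ 3 * b * (p ^ 3)⁻¹ = z * (z * (z * b)) := by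
        calc p ^ 3 * b * (p ^ 3)⁻¹ = p * (p * (p * b * p⁻¹) * p⁻¹) * p⁻¹ := by
              simp only [pow_succ, pow_zero, one_mul]; group
          _ = z * (z * (z * b)) := by rw [e, hzp, e, hzp, hzp, e]
      rw [h3, one_mul, inv_one, mul_one, ← mul_assoc z z, S.zz, one_mul, right_eq_mul] at e3
      have := S.hz
      rw [e3, orderOf_one] at this
      omega
  have hQ : p ∈ Q := S.self (mem_centralizer_iff.2 fun b hb => (hcent b hb).symm)
  have h1 : orderOf p ∣ 2 ^ 13 := by rw [← S.cardQ]; exact Subgroup.orderOf_dvd_natCard Q hQ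
  rw [hp] at h1
  norm_num at h1

/-- The representation of `M / Q` on `Q / ⟨z⟩`, and the two facts it gives. -/
theorem rep_facts {p : C} (hp : p ∈ N) (ho : orderOf p = 3)
    (hdec : ∀ x ∈ N, ∃ q ∈ Q, ∃ i : ℕ, i < 3 ∧ x = q * p ^ i) :
    (∀ x ∈ Q, p * x = x * p → x = 1 ∨ x = z) ∧ ∃ c : C, c * p * c⁻¹ * p⁻¹ ∉ Q := by
  classical
  have := S.nQ
  have := S.nM
  have hQM : Q ≤ M := S.QN.trans S.NM
  obtain ⟨ψ, -, hψs, f, hf, hfk, hψf⟩ := S.exists_psi
  set Qm := Q.subgroupOf M with hQm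
  have hQf : Qm ≤ f.ker := fun m hm => by
    rw [hfk, mem_subgroupOf]
    exact S.QN (mem_subgroupOf.1 hm)
  let π : ↥M ⧸ Qm →* ↥Spor.M22 := QuotientGroup.lift Qm f hQf
  have hπ : ∀ m, π (QuotientGroup.mk m) = f m := fun m => rfl
  have hπs : Function.Surjective π := fun v => by
    obtain ⟨m, rfl⟩ := hf v
    exact ⟨_, hπ m⟩
  set pb : ↥M ⧸ Qm := QuotientGroup.mk ⟨p, S.NM hp⟩ with hpb
  have hker : π.ker = zpowers pb := by
    ext v
    obtain ⟨m, rfl⟩ := QuotientGroup.mk_surjective v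
    rw [MonoidHom.mem_ker, hπ, ← MonoidHom.mem_ker, hfk, mem_subgroupOf]
    constructor
    · intro hm
      obtain ⟨q, hq, i, -, h⟩ := hdec _ hm
      refine mem_zpowers_iff.2 ⟨i, ?_⟩
      rw [zpow_natCast, hpb, ← QuotientGroup.mk_pow]
      refine QuotientGroup.eq.2 (mem_subgroupOf.2 ?_)
      show (p ^ i)⁻¹ * (m : C) ∈ Q
      rw [h, ← mul_assoc]
      simpa using S.nQ.conj_mem q hq (p ^ i)⁻¹
    · rintro ⟨k, hk⟩
      have h : ((⟨p, S.NM hp⟩ : ↥M) ^ k)⁻¹ * m ∈ Qm := by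
        rw [← QuotientGroup.eq]
        exact hk
      have h2 := S.QN (mem_subgroupOf.1 h)
      rw [coe_mul, coe_inv, SubgroupClass.coe_zpow] at h2
      have := mul_mem (zpow_mem hp k) h2
      rwa [mul_inv_cancel_left] at this
  have hpb3 : orderOf pb = 3 := by
    refine orderOf_eq_prime (hp := ⟨by norm_num⟩) ?_ ?_
    · rw [hpb, ← QuotientGroup.mk_pow]
      refine (QuotientGroup.eq_one_iff _).2 (mem_subgroupOf.2 ?_)
      rw [coe_pow, show ((⟨p, S.NM hp⟩ : ↥M) : C) = p from rfl, ← ho, pow_orderOf_eq_one]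
      exact one_mem _
    · intro h
      have hpQ : p ∈ Q := mem_subgroupOf.1 ((QuotientGroup.eq_one_iff _).1 h)
      have h1 : orderOf p ∣ 2 ^ 13 := by rw [← S.cardQ]; exact Subgroup.orderOf_dvd_natCard Q hpQ
      rw [ho] at h1
      norm_num at h1
  have hcen : pb ∈ center (↥M ⧸ Qm) := by
    refine Subgroup.mem_center_iff.2 fun v => ?_
    obtain ⟨m, rfl⟩ := QuotientGroup.mk_surjective v
    rw [hpb, ← QuotientGroup.mk_mul, ← QuotientGroup.mk_mul]
    refine (QuotientGroup.eq.2 (mem_subgroupOf.2 ?_)).symm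
    show (p * (m : C))⁻¹ * (m * p) ∈ Q
    have h := S.nQ.conj_mem _ (S.conj_mod hp m.2) (p * (m : C))⁻¹
    rwa [inv_inv, show (p * (m : C))⁻¹ * (m * p * (m : C)⁻¹ * p⁻¹) * (p * m) = (p * (m : C))⁻¹ * (m * p)
      by group] at h
  have hperf : commutator (↥M ⧸ Qm) = ⊤ := by
    refine eq_top_iff.2 fun v _ => ?_
    obtain ⟨m, rfl⟩ := QuotientGroup.mk_surjective v
    have hle : ⁅M, M⁆ ≤ M := commutator_le_self M
    obtain ⟨d, hd, q, hq, hdq⟩ := mem_sup_of_normal_right.1 (S.perf m.2)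
    have hd' : (⟨d, hle hd⟩ : ↥M) ∈ commutator ↥M := by
      have : d ∈ (commutator ↥M).map M.subtype := by rw [map_subtype_commutator]; exact hd
      obtain ⟨d', hd', e⟩ := this
      rwa [show (⟨d, hle hd⟩ : ↥M) = d' from Subtype.ext e.symm]
    have e : (QuotientGroup.mk m : ↥M ⧸ Qm) = QuotientGroup.mk ⟨d, hle hd⟩ := by
      refine QuotientGroup.eq.2 (mem_subgroupOf.2 ?_)
      show (m : C)⁻¹ * d ∈ Q
      rw [← hdq, mul_inv_rev, inv_mul_cancel_right]
      exact inv_mem hq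
    rw [e]
    have h3 : (commutator ↥M).map (QuotientGroup.mk' Qm) ≤ commutator (↥M ⧸ Qm) := by
      rw [_root_.commutator_def, _root_.commutator_def, map_commutator]
      exact commutator_mono le_top le_top
    exact h3 ⟨_, hd', rfl⟩
  -- the action on `Q / ⟨z⟩`
  let bar : ↥Q → Additive (Abelianization ↥Q) := fun e => Additive.ofMul (Abelianization.of e)
  have bar_surj : Function.Surjective bar := fun v => by
    obtain ⟨e, he⟩ := QuotientGroup.mk_surjective (Additive.toMul v)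
    exact ⟨e, congrArg Additive.ofMul he⟩
  have bar0 : ∀ a, bar a = 0 ↔ (a : C) = 1 ∨ (a : C) = z := fun a => by
    rw [← S.mem_zp, ← S.commutator_Q]
    exact QuotientGroup.eq_one_iff a
  have bar_mul : ∀ a b, bar (a * b) = bar a + bar b := fun a b => by simp [bar]
  let act : ↥M →* AddMonoid.End (Additive (Abelianization ↥Q)) :=
    { toFun := fun m => MonoidHom.toAdditive (Abelianization.map (MulAut.conjNormal (m : C)).toMonoidHom)
      map_one' := by
        refine AddMonoidHom.ext fun v => ?_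
        obtain ⟨e, rfl⟩ := bar_surj v
        exact congrArg bar (Subtype.ext (show ((1 : ↥M) : C) * e * ((1 : ↥M) : C)⁻¹ = (e : C) by simp))
      map_mul' := fun a b => by
        refine AddMonoidHom.ext fun v => ?_
        obtain ⟨e, rfl⟩ := bar_surj v
        exact congrArg bar (Subtype.ext (show ((a : C) * b) * e * ((a : C) * b)⁻¹ =
          (a : C) * ((b : C) * e * (b : C)⁻¹) * (a : C)⁻¹ by group)) }
  have act_bar : ∀ (m : ↥M) (e : ↥Q), act m (bar e) = bar ⟨(m : C) * e * (m : C)⁻¹, S.nQ.conj_mem e e.2 m⟩ :=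
    fun m e => congrArg bar (Subtype.ext (MulAut.conjNormal_apply (m : C) e))
  have two : ∀ v : Additive (Abelianization ↥Q), v + v = 0 := fun v => by
    obtain ⟨e, rfl⟩ := bar_surj v
    rw [← bar_mul, bar0]
    exact S.sq_cases e.2
  have hcardV : Nat.card (Additive (Abelianization ↥Q)) = 4096 := by
    have h := card_eq_card_quotient_mul_card_subgroup (commutator ↥Q)
    rw [S.cardQ, S.commutator_Q, Nat.card_zpowers, Subgroup.orderOf_mk, S.hz] at h
    show Nat.card (↥Q ⧸ commutator ↥Q) = 4096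
    rw [S.commutator_Q]
    omega
  have : Finite (Additive (Abelianization ↥Q)) :=
    Nat.finite_of_card_ne_zero (by rw [hcardV]; norm_num)
  let ρ : ↥M ⧸ Qm →* AddMonoid.End (Additive (Abelianization ↥Q)) := QuotientGroup.lift Qm act (by
    intro m hm
    rw [MonoidHom.mem_ker]
    refine DFunLike.ext _ _ fun v => ?_
    obtain ⟨e, rfl⟩ := bar_surj v
    rw [act_bar, one_apply']
    have hc := S.comm_cases (mem_subgroupOf.1 hm) e.2
    refine (eq_neg_of_add_eq_zero_left ?_).trans (neg_eq_of_add_eq_zero_left (two _))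
    rw [← bar_mul, bar0]
    have hee := S.sq_cases e.2
    show (m : C) * e * (m : C)⁻¹ * e = 1 ∨ (m : C) * e * (m : C)⁻¹ * e = z
    have k : (m : C) * e * (m : C)⁻¹ * e = ((m : C) * e * (m : C)⁻¹ * (e : C)⁻¹) * (e * e) := by group
    rw [k]
    rcases hc with h | h <;> rcases hee with h' | h' <;> rw [h, h'] <;> simp [S.zz])
  have hρ : ∀ m e, ρ (QuotientGroup.mk m) (bar e) =
      bar ⟨(m : C) * e * (m : C)⁻¹, S.nQ.conj_mem e e.2 m⟩ := act_bar
  have hfaith : ρ pb ≠ 1 := by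
    intro h
    refine S.not_commute_all ho fun b hb => ?_
    have hv := DFunLike.congr_fun h (bar ⟨b, hb⟩)
    rw [hpb, hρ, one_apply'] at hv
    have h0 : bar (⟨p * b * p⁻¹, S.nQ.conj_mem b hb p⟩ * (⟨b, hb⟩ : ↥Q)⁻¹) = 0 := by
      rw [bar_mul, hv, ← bar_mul, mul_inv_cancel]
      exact (bar0 1).2 (Or.inl rfl)
    exact (bar0 _).1 h0
  have hsimple : IsSimpleGroup ↥Spor.M22 := Compute.isSimpleGroup_m22
  have free := free_of_cover hπs hker hpb3 hcen (hperf ▸ mem_top pb) hsimple Compute.card_m22 two hcardV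
    hfaith
  constructor
  · intro x hx hpx
    refine (bar0 ⟨x, hx⟩).1 (free _ ?_)
    rw [hpb, hρ]
    exact congrArg bar (Subtype.ext (by show p * x * p⁻¹ = x; rw [hpx, mul_inv_cancel_right]))
  -- an outer element inverts the centre
  by_contra hall
  push Not at hall
  have Cv : Rep.CoverData π pb ρ := ⟨hπs, hker, hpb3, hcen, hperf ▸ mem_top pb, free, hsimple⟩
  obtain ⟨x, y, g, w, B, hx, hy, hg, x11, y5, g4, hw, -, hB, F, hF⟩ := Cv.normal_form two hcardV
  obtain ⟨α, -, αx, αy, αf⟩ := Rep.exists_outer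
  obtain ⟨c, hc⟩ := hψs α
  let θ : ↥M ⧸ Qm →* ↥M ⧸ Qm := QuotientGroup.map Qm Qm (MulAut.conjNormal c).toMonoidHom (by
    intro m hm
    rw [mem_comap, hQm, mem_subgroupOf] at *
    show ((MulAut.conjNormal c m : ↥M) : C) ∈ Q
    rw [MulAut.conjNormal_apply]
    exact S.nQ.conj_mem _ hm c)
  have hθπ : ∀ v, π (θ v) = α (π v) := fun v => by
    obtain ⟨m, rfl⟩ := QuotientGroup.mk_surjective v
    rw [hπ, ← hc]
    exact hψf c m _ (MulAut.conjNormal_apply c m)
  have hθp : θ pb = pb := by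
    rw [hpb]
    refine (QuotientGroup.eq.2 (mem_subgroupOf.2 ?_)).symm
    show p⁻¹ * ((MulAut.conjNormal c (⟨p, S.NM hp⟩ : ↥M) : ↥M) : C) ∈ Q
    rw [MulAut.conjNormal_apply]
    show p⁻¹ * (c * p * c⁻¹) ∈ Q
    have h := S.nQ.conj_mem _ (hall c) p⁻¹
    rwa [inv_inv, show p⁻¹ * (c * p * c⁻¹ * p⁻¹) * p = p⁻¹ * (c * p * c⁻¹) by group] at h
  have ex : θ x = x ^ 10 := Cv.eq_of_pow (n := 11) (by norm_num)
    (by rw [hθπ, map_pow, hx, αx]) (by rw [← map_pow, x11, map_one])
    (by rw [← pow_mul, mul_comm, pow_mul, x11, one_pow])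
  have ey : θ y = y := Cv.eq_of_pow (n := 5) (by norm_num) (by rw [hθπ, hy, αy])
    (by rw [← map_pow, y5, map_one]) y5
  have eg : θ g = g := Cv.eq_of_pow (n := 4) (by norm_num) (by rw [hθπ, hg, αf])
    (by rw [← map_pow, g4, map_one]) g4
  have hrel : π ((x * y * g) ^ 5) = 1 := by rw [map_pow, map_mul, map_mul, hx, hy, hg, Rep.m22_rels.2.2.2.2.2]
  have hfix : θ ((x * y * g) ^ 5) = (x * y * g) ^ 5 := by
    rcases Cv.mem_ker hrel with e | e | e <;> rw [e]
    · rw [map_one]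
    · exact hθp
    · rw [map_mul, hθp]
  rw [map_pow, map_mul, map_mul, ex, ey, eg] at hfix
  have h := DFunLike.congr_fun (congrArg ρ hfix) (Rep.lin B 1)
  simp only [map_pow, map_mul] at h
  have k5 : ∀ s, ((ρ x * ρ y * ρ g) ^ 5) (Rep.lin B s) = Rep.lin B (Rep.five Rep.F0 s) := by
    intro s
    have e : ∀ r, (ρ x * ρ y * ρ g) (Rep.lin B r) = Rep.lin B (Rep.prodXYF Rep.F0 r) := fun r => by
      rw [mul_apply', mul_apply', hF, F.y, F.x]; rfl
    rw [Rep.pow_succ_apply, Rep.pow_succ_apply, Rep.pow_succ_apply, Rep.pow_succ_apply, pow_one,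
      e, e, e, e, e]
    rfl
  have k10 : ∀ s, ((ρ x ^ 10 * ρ y * ρ g) ^ 5) (Rep.lin B s) = Rep.lin B (five10 s) := by
    intro s
    have e : ∀ r, (ρ x ^ 10 * ρ y * ρ g) (Rep.lin B r) = Rep.lin B (prod10 r) := fun r => by
      rw [mul_apply', mul_apply', hF, F.y, F.x.it]; rfl
    rw [Rep.pow_succ_apply, Rep.pow_succ_apply, Rep.pow_succ_apply, Rep.pow_succ_apply, pow_one,
      e, e, e, e, e]
    rfl
  rw [k5, k10] at h
  have := F.eq_code (five10_lt ()) (five_lt ()) h
  exact absurd this five_ne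

end Shape

end Cfsg.Agent.J4Type.Order
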