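import Cfsg.Agent.J4Type.Order.CountTDefs

/-!
# Checks for the count of pairs of involutions at a pair of points
-/

set_option autoImplicit false
set_option maxRecDepth 100000
set_option Elab.async false

namespace Cfsg.Agent.J4Type.Order

open Cfsg.Agent.Compute Cfsg.Agent.TenLocal

theorem invOK_0 : allBelow 718 (fun i => invOK i) = true := by decide +kernel
theorem invOK_1 : allBelow 718 (fun i => invOK (Nat.add 718 i)) = true := by decide +kernel
theorem invOK_2 : allBelow 718 (fun i => invOK (Nat.add 1436 i)) = true := by decide +kernel
theorem invOK_3 : allBelow 718 (fun i => invOK (Nat.add 2154 i)) = true := by decide +kernel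

theorem invC_sorted : allBelow 2871 (fun i => Nat.blt (invC i) (invC (Nat.add i 1))) = true := by decide +kernel

theorem tree_ok_0 : treeOKB 0 = true := by decide +kernel
theorem tree_ok_1 : treeOKB 1 = true := by decide +kernel
theorem tree_ok_2 : treeOKB 2 = true := by decide +kernel
theorem tree_ok_3 : treeOKB 3 = true := by decide +kernel

theorem row_ok : allBelow 4 rowB = true := by decide +kernel

theorem pairs_ok_0 : pairData0.all (pairB 0) = true := by decide +kernel
theorem pairs_ok_1 : pairData1.all (pairB 1) = true := by decide +kernel
theorem pairs_ok_2 : pairData2.all (pairB 2) = true := by decide +kernel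
theorem pairs_ok_3 : pairData3.all (pairB 3) = true := by decide +kernel

theorem total_ok : totalB = true := by decide +kernel

theorem cert_ok : allBelow 2 (fun j => allBelow 24 fun a => allBelow 24 fun b => certB j a b) = true := by
  decide +kernel

theorem pair_gens : (Nat.beq cfgPairGens.length 2 && cfgPairGens.all inM24B) = true := by decide +kernel

end Cfsg.Agent.J4Type.Order
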