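import Cfsg.Agent.J4Type.Order.CountTData
import Cfsg.Agent.TenLocal.Code
import Cfsg.Agent.Compute.Classes
import Cfsg.Agent.Compute.CfgPairData

/-!
# Computations for the count of pairs of involutions at a pair of points
-/

set_option autoImplicit false
set_option maxRecDepth 100000

namespace Cfsg.Agent.J4Type.Order

open Cfsg.Agent.Compute Cfsg.Agent.TenLocal

/-- The involution with the given number. -/
noncomputable def invC (i : ℕ) : ℕ :=
  getField 120 (invChunks.getD (Nat.shiftRight i 7) 0) (Nat.mod i 128)

/-- The number of the conjugate by a generator. -/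
noncomputable def invImg (g i : ℕ) : ℕ := getField 12 (invImgs.getD g 0) i

/-- The number of the conjugate by a word in the generators. -/
noncomputable def invAct (w : List ℕ) : ℕ → ℕ :=
  List.rec (motive := fun _ => ℕ → ℕ) (fun i => i) (fun g _ r i => r (invImg g i)) w

/-- One involution: a code in normal form squaring to the identity, and its two conjugates. -/
noncomputable def invOK (i : ℕ) : Bool :=
  rep24.okb (invC i) && Nat.beq (rep24.mul rep24.one (invC i)) (invC i) &&
    Nat.blt (invImg 0 i) 2872 && Nat.blt (invImg 1 i) 2872 &&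
    Nat.beq (rep24.mul (cfgPairGens.getD 0 0) (invC i))
      (rep24.mul (invC (invImg 0 i)) (cfgPairGens.getD 0 0)) &&
    Nat.beq (rep24.mul (cfgPairGens.getD 1 0) (invC i))
      (rep24.mul (invC (invImg 1 i)) (cfgPairGens.getD 1 0))

/-- The label in a tree. -/
noncomputable def labT (t j : ℕ) : ℕ := getField 8 (treeLabs.getD t 0) j

/-- The edge with the given number. -/
noncomputable def edgeT (t e : ℕ) : ℕ := getField 28 (treeEdges.getD t 0) e

/-- Running through the edges of a tree from a set of known numbers. -/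
noncomputable def treeRun (t : ℕ) : ℕ → ℕ → ℕ :=
  fun n known => Nat.rec (motive := fun _ => ℕ) known
    (fun e r =>
      let c := edgeT t e
      cond (Nat.blt (getField 12 c 0) 2872 && Nat.blt (getField 12 c 1) 2872 &&
          Nat.blt (getField 12 c 2) (treeWords.getD t []).length &&
          bitB r (getField 12 c 1) &&
          Nat.beq (invAct ((treeWords.getD t []).getD (getField 12 c 2) []) (getField 12 c 1)) (getField 12 c 0) &&
          Nat.beq (labT t (getField 12 c 0)) (labT t (getField 12 c 1)))
        (Nat.lor r (Nat.shiftLeft 1 (getField 12 c 0))) 0) n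

/-- The numbers of a list as bits. -/
noncomputable def seedBits (l : List ℕ) : ℕ :=
  List.rec (motive := fun _ => ℕ) 0 (fun a _ r => Nat.lor r (Nat.shiftLeft 1 a)) l

/-- A tree reaches everything. -/
noncomputable def treeOKB (t : ℕ) : Bool :=
  Nat.beq (treeRun t (treeLens.getD t 0) (seedBits (treeRoots.getD t [])))
      (Nat.sub (Nat.shiftLeft 1 2872) 1) &&
    allBelow (treeRoots.getD t []).length (fun o =>
      Nat.blt ((treeRoots.getD t []).getD o 0) 2872 && Nat.beq (labT t ((treeRoots.getD t []).getD o 0)) o) &&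
    (treeWords.getD t []).all (fun w => w.all fun g => Nat.blt g 2) &&
    (treeWords.getD t []).all (fun w =>
      Nat.beq (invAct w (repMats.getD t (0, [], 0)).1) (repMats.getD t (0, [], 0)).1)

/-- The vectors with their images under a matrix. -/
noncomputable def imgPairs (M : List ℕ) : List (ℕ × ℕ) :=
  List.rec (motive := fun _ => List (ℕ × ℕ)) [(0, 0)]
    (fun c _ r => r.flatMap fun p => [(Nat.mul 2 p.1, p.2), (Nat.add (Nat.mul 2 p.1) 1, Nat.xor c p.2)]) M

/-- The commutators as bits. -/
noncomputable def comBits (l : List (ℕ × ℕ)) : ℕ :=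
  List.rec (motive := fun _ => ℕ) 0 (fun p _ r => Nat.lor r (Nat.shiftLeft 1 (Nat.xor p.1 p.2))) l

/-- The vectors of lifts in the class of `z`. -/
noncomputable def zB (one : Bool) (m : ℕ) (p : ℕ × ℕ) : Bool :=
  Nat.beq p.1 p.2 &&
    cond one (!(Nat.beq p.1 0) && !(bitB LargeFischer.tmask p.1)) (bitB m p.1)

/-- The vectors of lifts in the other class. -/
noncomputable def tBit (one : Bool) (m : ℕ) (p : ℕ × ℕ) : Bool :=
  Nat.beq p.1 p.2 && cond one (bitB LargeFischer.tmask p.1) (!(bitB m p.1))

/-- The sum of the first iterates of the product of two matrices. -/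
noncomputable def sumIt (A B : List ℕ) (k : ℕ) : ℕ → ℕ :=
  Nat.rec (motive := fun _ => ℕ → ℕ) (fun _ => 0)
    (fun _ r v => Nat.xor v (r (mapp A (mapp B v)))) k

/-- The matrix of this sum. -/
noncomputable def sumMat (A B : List ℕ) (k : ℕ) : List ℕ :=
  (List.range 11).map fun i => sumIt A B k (Nat.pow 2 i)

/-- The histogram of the images of the first kind. -/
noncomputable def hist (one : Bool) (m : ℕ) (N : List ℕ) (l : List (ℕ × ℕ)) : ℕ :=
  List.rec (motive := fun _ => ℕ) 0
    (fun p _ r => cond (zB one m p) (Nat.add r (Nat.shiftLeft 1 (Nat.mul 11 (mapp N p.1)))) r) l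

/-- The count through a histogram. -/
noncomputable def countH (one : Bool) (m h : ℕ) (N A : List ℕ) (l : List (ℕ × ℕ)) : ℕ :=
  List.rec (motive := fun _ => ℕ) 0
    (fun p _ r => cond (tBit one m p) (Nat.add r (getField 11 h (Nat.xor 1 (mapp N (mapp A p.1))))) r) l

/-- The product of the two codes has the given order. -/
noncomputable def ordB (c k : ℕ) : Bool :=
  Nat.blt 0 k && idB (rep24.powCode c k) && allBelow k (fun i => Nat.beq i 0 || !(idB (rep24.powCode c i)))

/-- One representative pair. -/
noncomputable def pairB (t : ℕ) (d : ℕ × ℕ × List ℕ × ℕ × List ℕ × ℕ × ℕ) : Bool :=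
  let i := (repMats.getD t (0, [], 0)).1
  let A := (repMats.getD t (0, [], 0)).2.1
  let ma := (repMats.getD t (0, [], 0)).2.2
  let (j, k, B, mb, N, h, v) := d
  Nat.blt j 2872 && ordB (rep24.mul (invC i) (invC j)) k &&
    (matOf (invC j) == B) && Nat.beq (comBits (imgPairs B)) mb && (sumMat A B k == N) &&
    Nat.beq (hist (idB (invC i)) ma N (imgPairs A)) h &&
    Nat.beq (countH (idB (invC j)) mb h N A (imgPairs B)) v

/-- The data of the pairs. -/
noncomputable def pairData (t : ℕ) : List (ℕ × ℕ × List ℕ × ℕ × List ℕ × ℕ × ℕ) :=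
  [pairData0, pairData1, pairData2, pairData3].getD t []

/-- The count of the pair with the given label. -/
noncomputable def valT (t o : ℕ) : ℕ := ((pairData t).getD o (0, 0, [], 0, [], 0, 0)).2.2.2.2.2.2

/-- A sum over the first numbers. -/
noncomputable def sumB (f : ℕ → ℕ) (n : ℕ) : ℕ :=
  Nat.rec (motive := fun _ => ℕ) 0 (fun i r => Nat.add r (f i)) n

/-- A representative row. -/
noncomputable def rowB (t : ℕ) : Bool :=
  let i := (repMats.getD t (0, [], 0)).1
  Nat.blt i 2872 && (matOf (invC i) == (repMats.getD t (0, [], 0)).2.1) &&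
    Nat.beq (comBits (imgPairs (repMats.getD t (0, [], 0)).2.1)) (repMats.getD t (0, [], 0)).2.2 &&
    ((pairData t).map (fun d => d.1) == treeRoots.getD t []) &&
    Nat.beq (sumB (fun j => valT t (labT t j)) 2872) (rowSums.getD t 0)

/-- The roots of the first tree are the representatives, and the rows add up to the total. -/
noncomputable def totalB : Bool :=
  (repMats.map (fun r => r.1) == treeRoots.getD 0 []) &&
    Nat.beq (sumB (fun i => rowSums.getD (labT 0 i) 0) 2872) 1544188503 &&
    allBelow 4 (fun t => let i := (treeRoots.getD 0 []).getD t 0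
      inM24B (invC i) && idB (rep24.mul (invC i) (invC i)) &&
      ((Nat.beq (rep24.act (invC i) 0) 0 && Nat.beq (rep24.act (invC i) 23) 23) ||
        (Nat.beq (rep24.act (invC i) 0) 23 && Nat.beq (rep24.act (invC i) 23) 0)))

/-- The fixed pairs of the two kinds of involutions are carried to the standard pair, and the
involutions with them to the list. -/
noncomputable def certB (j a b : ℕ) : Bool :=
  let s := syl2Reps.getD j rep24.one
  !((Nat.beq (rep24.act s a) a && Nat.beq (rep24.act s b) b) ||
      (Nat.beq (rep24.act s a) b && Nat.beq (rep24.act s b) a)) || Nat.beq a b ||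
    transCerts.any fun c =>
      Nat.beq c.1 j && ((Nat.beq c.2.1 a && Nat.beq c.2.2.1 b) || (Nat.beq c.2.1 b && Nat.beq c.2.2.1 a)) &&
        inM24B c.2.2.2.1 && Nat.blt c.2.2.2.2 2872 &&
        ((Nat.beq (rep24.act c.2.2.2.1 a) 0 && Nat.beq (rep24.act c.2.2.2.1 b) 23) ||
          (Nat.beq (rep24.act c.2.2.2.1 a) 23 && Nat.beq (rep24.act c.2.2.2.1 b) 0)) &&
        Nat.beq (rep24.mul c.2.2.2.1 s) (rep24.mul (invC c.2.2.2.2) c.2.2.2.1)

end Cfsg.Agent.J4Type.Order
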