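import Cfsg.Agent.J4Type.Order.CountTCheck
import Cfsg.Agent.J4Type.Order.CountTLists
import Cfsg.Agent.J4Type.DuadStab
import Cfsg.Agent.TenLocal.Perms

/-!
# The list of involutions fixing a pair of points
-/

set_option autoImplicit false
set_option maxRecDepth 100000

namespace Cfsg.Agent.J4Type.Order

open Cfsg Cfsg.Agent.Compute
open Cfsg.Agent.TenLocal (den_pt)

/-- The first point. -/
noncomputable def pA : GolayPt := rep24.pt 0

/-- The second point. -/
noncomputable def pB : GolayPt := rep24.pt 23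

theorem pA_ne_pB : pA ≠ pB := fun h => by
  have := rep24.pt_inj _ _ (show (0 : ℕ) < 24 by norm_num) (show (23 : ℕ) < 24 by norm_num) h
  omega

theorem extra_ok : (idB (invC 2871) && Nat.beq ((repMats.getD 0 (0, [], 0)).1) 2871) = true := by decide +kernel

theorem invOK_all {i : ℕ} (hi : i < 2872) : invOK i = true := by
  rcases (show i < 718 ∨ (718 ≤ i ∧ i < 1436) ∨ (1436 ≤ i ∧ i < 2154) ∨ (2154 ≤ i ∧ i < 2872) by omega) with
    h | ⟨h, h'⟩ | ⟨h, h'⟩ | ⟨h, h'⟩
  · exact allBelow_eq_true.1 invOK_0 i h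
  · have := allBelow_eq_true.1 invOK_1 (i - 718) (by omega)
    rwa [show Nat.add 718 (i - 718) = i from Nat.add_sub_cancel' h] at this
  · have := allBelow_eq_true.1 invOK_2 (i - 1436) (by omega)
    rwa [show Nat.add 1436 (i - 1436) = i from Nat.add_sub_cancel' h] at this
  · have := allBelow_eq_true.1 invOK_3 (i - 2154) (by omega)
    rwa [show Nat.add 2154 (i - 2154) = i from Nat.add_sub_cancel' h] at this

/-- A generator. -/
noncomputable def gK (g : ℕ) : Equiv.Perm GolayPt := rep24.den (cfgPairGens.getD g 0)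

theorem gens_facts {g : ℕ} (hg : g < 2) :
    rep24.Ok (cfgPairGens.getD g 0) ∧ cfgPairGens.getD g 0 ∈ cfgPairGens := by
  have h := pair_gens
  simp only [Bool.and_eq_true, Nat.beq_eq, List.all_eq_true] at h
  have hm : cfgPairGens.getD g 0 ∈ cfgPairGens := by
    rw [List.getD_eq_getElem _ _ (by omega)]; exact List.getElem_mem _
  exact ⟨(mem_M24_of_check (h.2 _ hm)).1, hm⟩

theorem inv_facts {i : ℕ} (hi : i < 2872) : rep24.Ok (invC i) ∧ ∀ g < 2, invImg g i < 2872 ∧
    gK g * rep24.den (invC i) = rep24.den (invC (invImg g i)) * gK g := by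
  have key : ∀ j < 2872, rep24.Ok (invC j) := fun j hj => by
    have h := invOK_all hj
    simp only [invOK, Bool.and_eq_true] at h
    exact rep24.okb_sound _ h.1.1.1.1.1
  refine ⟨key i hi, fun g hg => ?_⟩
  have h := invOK_all hi
  simp only [invOK, Bool.and_eq_true, Nat.blt_eq, Nat.beq_eq] at h
  have aux : ∀ g, g < 2 → invImg g i < 2872 →
      rep24.mul (cfgPairGens.getD g 0) (invC i) = rep24.mul (invC (invImg g i)) (cfgPairGens.getD g 0) →
      gK g * rep24.den (invC i) = rep24.den (invC (invImg g i)) * gK g := fun g hg hlt e => by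
    rw [gK, ← rep24.den_mul _ _ (gens_facts hg).1 (key i hi), e, rep24.den_mul _ _ (key _ hlt) (gens_facts hg).1]
  rcases (show g = 0 ∨ g = 1 by omega) with rfl | rfl
  · exact ⟨h.1.1.1.2, aux 0 hg h.1.1.1.2 h.1.2⟩
  · exact ⟨h.1.1.2, aux 1 hg h.1.1.2 h.2⟩

theorem pack_congr (w : ℕ) : ∀ (n : ℕ) {f g : ℕ → ℕ}, (∀ i < n, f i = g i) → pack w n f = pack w n g
  | 0, _, _, _ => rfl
  | n + 1, f, g, h => by
    rw [pack_succ, pack_succ, pack_congr w n fun i hi => h i (by omega), h n (by omega)]

theorem invC_inj {a b : ℕ} (ha : a < 2872) (hb : b < 2872)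
    (h : rep24.den (invC a) = rep24.den (invC b)) : a = b := by
  have oka := (inv_facts ha).1
  have okb := (inv_facts hb).1
  have hact : ∀ i < 24, getField 5 (invC a) i = getField 5 (invC b) i := fun i hi => by
    have e := den_pt oka hi
    rw [h, den_pt okb hi] at e
    exact rep24.pt_inj _ _ (rep24.act_lt _ i oka hi) (rep24.act_lt _ i okb hi) e.symm
  have hn : ∀ j < 2872, rep24.mul rep24.one (invC j) = invC j := fun j hj => by
    have h := invOK_all hj
    simp only [invOK, Bool.and_eq_true, Nat.beq_eq] at h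
    exact h.1.1.1.1.2
  have hcode : invC a = invC b := by
    have hm : ∀ o c : ℕ, compCode 5 24 o c = pack 5 24 (fun i => getField 5 o (getField 5 c i)) :=
      fun o c => by with_reducible (delta compCode; rfl)
    have hmul : ∀ o c : ℕ, rep24.mul o c = compCode 5 24 o c := fun _ _ => by simp only [rep24, permRep]
    rw [← hn a ha, ← hn b hb, hmul, hmul, hm, hm]
    exact pack_congr 5 24 fun i hi => congrArg (getField 5 rep24.one) (hact i hi)
  have mono : ∀ j < 2872, ∀ i < j, invC i < invC j := by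
    intro j
    induction j with
    | zero => intro _ i hi; omega
    | succ j ih =>
      intro hj i hi
      have hs := allBelow_eq_true.1 invC_sorted j (by omega)
      rw [Nat.blt_eq] at hs
      rcases Nat.lt_succ_iff_lt_or_eq.1 hi with h' | h'
      · exact lt_trans (ih (by omega) i h') hs
      · exact h' ▸ hs
  rcases lt_trichotomy a b with h' | h' | h'
  · exact absurd hcode (ne_of_lt (mono b hb a h'))
  · exact h'
  · exact absurd hcode.symm (ne_of_lt (mono a ha b h'))

theorem invImg_inj {g a b : ℕ} (hg : g < 2) (ha : a < 2872) (hb : b < 2872)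
    (h : invImg g a = invImg g b) : a = b := by
  refine invC_inj ha hb (mul_left_cancel (a := gK g) ?_)
  rw [((inv_facts ha).2 g hg).2, ((inv_facts hb).2 g hg).2, h]

theorem invAct_cons (g : ℕ) (w : List ℕ) (i : ℕ) : invAct (g :: w) i = invAct w (invImg g i) := rfl

theorem invAct_ind {Pr : ℕ → Prop} (step : ∀ g < 2, ∀ i < 2872, Pr i → Pr (invImg g i)) :
    ∀ (w : List ℕ), (∀ g ∈ w, g < 2) → ∀ i < 2872, Pr i → Pr (invAct w i) ∧ invAct w i < 2872
  | [], _, i, hi, h => ⟨h, hi⟩
  | g :: w, hw, i, hi, h => by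
    have hg := hw g List.mem_cons_self
    rw [invAct_cons]
    exact invAct_ind step w (fun x hx => hw x (List.mem_cons_of_mem _ hx)) _ ((inv_facts hi).2 g hg).1
      (step g hg i hi h)

theorem bit_lor_shift {known n i : ℕ} :
    (Nat.lor known (Nat.shiftLeft 1 n)).testBit i = true ↔ known.testBit i = true ∨ i = n := by
  show (known ||| 1 <<< n).testBit i = true ↔ _
  rw [Nat.one_shiftLeft, Nat.testBit_or, Bool.or_eq_true, Nat.testBit_two_pow, decide_eq_true_iff]
  exact or_congr_right eq_comm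

theorem seedBits_iff : ∀ (l : List ℕ) (i : ℕ), (seedBits l).testBit i = true ↔ i ∈ l := by
  intro l i
  induction l with
  | nil => simp [seedBits]
  | cons a l ih =>
    rw [show seedBits (a :: l) = Nat.lor (seedBits l) (Nat.shiftLeft 1 a) from rfl, bit_lor_shift, ih,
      List.mem_cons, or_comm]

theorem tree_ok {t : ℕ} (ht : t < 4) : treeOKB t = true := by
  interval_cases t
  exacts [tree_ok_0, tree_ok_1, tree_ok_2, tree_ok_3]

theorem tree_words {t : ℕ} (ht : t < 4) : ∀ w ∈ treeWords.getD t [], (∀ g ∈ w, g < 2) ∧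
    invAct w (repMats.getD t (0, [], 0)).1 = (repMats.getD t (0, [], 0)).1 := by
  have h := tree_ok ht
  simp only [treeOKB, Bool.and_eq_true, List.all_eq_true, Nat.beq_eq, Nat.blt_eq] at h
  exact fun w hw => ⟨fun g hg => h.1.2 w hw g hg, h.2 w hw⟩

/-- Induction along a tree. -/
theorem tree_ind {t : ℕ} (ht : t < 4) {Pr : ℕ → Prop}
    (root : ∀ o < (treeRoots.getD t []).length, labT t ((treeRoots.getD t []).getD o 0) = o →
      Pr ((treeRoots.getD t []).getD o 0))
    (step : ∀ w ∈ treeWords.getD t [], ∀ p < 2872, invAct w p < 2872 →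
      labT t (invAct w p) = labT t p → Pr p → Pr (invAct w p)) :
    ∀ i < 2872, Pr i := by
  have h := tree_ok ht
  simp only [treeOKB, Bool.and_eq_true, allBelow_eq_true, Nat.beq_eq, Nat.blt_eq] at h
  obtain ⟨⟨⟨hrun, hroots⟩, -⟩, -⟩ := h
  have key : ∀ n known, (∀ i, known.testBit i = true → i < 2872 ∧ Pr i) →
      ∀ i, (treeRun t n known).testBit i = true → i < 2872 ∧ Pr i := by
    intro n known hk
    induction n with
    | zero => exact hk
    | succ e ih =>
      intro i hi
      have hs : treeRun t (e + 1) known =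
          cond (Nat.blt (getField 12 (edgeT t e) 0) 2872 && Nat.blt (getField 12 (edgeT t e) 1) 2872 &&
              Nat.blt (getField 12 (edgeT t e) 2) (treeWords.getD t []).length &&
              bitB (treeRun t e known) (getField 12 (edgeT t e) 1) &&
              Nat.beq (invAct ((treeWords.getD t []).getD (getField 12 (edgeT t e) 2) [])
                (getField 12 (edgeT t e) 1)) (getField 12 (edgeT t e) 0) &&
              Nat.beq (labT t (getField 12 (edgeT t e) 0)) (labT t (getField 12 (edgeT t e) 1)))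
            (Nat.lor (treeRun t e known) (Nat.shiftLeft 1 (getField 12 (edgeT t e) 0))) 0 := rfl
      rw [hs] at hi
      cases hc : (Nat.blt (getField 12 (edgeT t e) 0) 2872 && Nat.blt (getField 12 (edgeT t e) 1) 2872 &&
          Nat.blt (getField 12 (edgeT t e) 2) (treeWords.getD t []).length &&
          bitB (treeRun t e known) (getField 12 (edgeT t e) 1) &&
          Nat.beq (invAct ((treeWords.getD t []).getD (getField 12 (edgeT t e) 2) [])
            (getField 12 (edgeT t e) 1)) (getField 12 (edgeT t e) 0) &&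
          Nat.beq (labT t (getField 12 (edgeT t e) 0)) (labT t (getField 12 (edgeT t e) 1)))
      · rw [hc, cond_false, Nat.zero_testBit] at hi; exact Bool.noConfusion hi
      · rw [hc, cond_true] at hi
        simp only [Bool.and_eq_true, Nat.blt_eq, Nat.beq_eq, bitB_eq] at hc
        obtain ⟨⟨⟨⟨⟨hc0, hp⟩, hw⟩, hbit⟩, hact⟩, hlab⟩ := hc
        rcases bit_lor_shift.1 hi with hi | rfl
        · exact ih i hi
        · refine ⟨hc0, ?_⟩
          rw [← hact] at hc0 hlab ⊢
          refine step _ ?_ _ hp hc0 hlab (ih _ hbit).2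
          rw [List.getD_eq_getElem _ _ hw]; exact List.getElem_mem _
  intro i hi
  refine (key (treeLens.getD t 0) (seedBits (treeRoots.getD t [])) (fun j hj => ?_) i ?_).2
  · obtain ⟨o, ho, rfl⟩ := List.getElem_of_mem ((seedBits_iff _ _).1 hj)
    obtain ⟨h1, h2⟩ := hroots o ho
    rw [← List.getD_eq_getElem _ 0 ho]
    exact ⟨h1, root o ho h2⟩
  · rw [hrun, show Nat.sub (Nat.shiftLeft 1 2872) 1 = 1 <<< 2872 - 1 from rfl, Nat.one_shiftLeft,
      Nat.testBit_two_pow_sub_one]
    exact decide_eq_true hi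

theorem suppM_root : suppM cfgPairRoot = ({pA, pB} : Finset GolayPt) := by
  ext p
  obtain ⟨i, rfl⟩ := e24.surjective p
  rw [mem_suppM, ptIdx_e24, Finset.mem_insert, Finset.mem_singleton, pA, pB, rep24_pt (by norm_num),
    rep24_pt (by norm_num), e24.injective.eq_iff, e24.injective.eq_iff]
  revert i
  decide +kernel

theorem duad_eq_span : duadStab pA pB = rep24.span cfgPairGens := by
  rw [Rep.span_of_genB pairStab_spec.1 cfgPair_genCheck, ← pairStab_spec.2.1, suppM_root]
  rfl

theorem gK_mem {g : ℕ} (hg : g < 2) : gK g ∈ duadStab pA pB := by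
  rw [duad_eq_span]; exact rep24.den_mem_span (gens_facts hg).2

/-- Every listed code is an involution of the stabiliser of the pair, or the identity. -/
theorem inv_mem_stab : ∀ i < 2872, rep24.den (invC i) ∈ duadStab pA pB ∧
    rep24.den (invC i) * rep24.den (invC i) = 1 := by
  refine tree_ind (t := 0) (by norm_num) ?_ fun w hw p hp _ _ hPr => ?_
  · intro o ho _
    have ho' : o < 4 := by
      have : (treeRoots.getD 0 []).length = 4 := by decide +kernel
      omega
    have h := total_ok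
    simp only [totalB, Bool.and_eq_true, allBelow_eq_true, Bool.or_eq_true, Nat.beq_eq] at h
    obtain ⟨⟨hM, hsq⟩, hfix⟩ := h.2 o ho'
    obtain ⟨hok, hmem⟩ := mem_M24_of_check hM
    refine ⟨mem_duadStab.2 ⟨hmem, ?_⟩, ?_⟩
    · rw [pA, pB, den_pt hok (by norm_num), den_pt hok (by norm_num)]
      exact hfix.imp (fun e => ⟨by rw [e.1], by rw [e.2]⟩) (fun e => ⟨by rw [e.1], by rw [e.2]⟩)
    · rw [← rep24.den_mul _ _ hok hok]
      exact (idB_iff (rep24.ok_mul _ _ hok hok)).1 hsq
  · refine (invAct_ind (Pr := fun i => rep24.den (invC i) ∈ duadStab pA pB ∧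
      rep24.den (invC i) * rep24.den (invC i) = 1) (fun g hg i hi h => ?_) w ((tree_words (by norm_num) w hw).1)
      p hp hPr).1
    have e : rep24.den (invC (invImg g i)) = gK g * rep24.den (invC i) * (gK g)⁻¹ := by
      rw [((inv_facts hi).2 g hg).2, mul_inv_cancel_right]
    rw [e]
    refine ⟨mul_mem (mul_mem (gK_mem hg) h.1) (inv_mem (gK_mem hg)), ?_⟩
    rw [show gK g * rep24.den (invC i) * (gK g)⁻¹ * (gK g * rep24.den (invC i) * (gK g)⁻¹) =
      gK g * (rep24.den (invC i) * rep24.den (invC i)) * (gK g)⁻¹ by group, h.2]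
    group

/-- The listed involution. -/
noncomputable def sI (i : ℕ) : ↥M24 :=
  if h : rep24.den (invC i) ∈ M24 then ⟨_, h⟩ else 1

theorem sI_val {i : ℕ} (hi : i < 2872) : (sI i : Equiv.Perm GolayPt) = rep24.den (invC i) := by
  rw [sI, dif_pos (mem_duadStab.1 (inv_mem_stab i hi).1).1]

theorem sI_inj {a b : ℕ} (ha : a < 2872) (hb : b < 2872) (h : sI a = sI b) : a = b :=
  invC_inj ha hb (by rw [← sI_val ha, ← sI_val hb, h])

theorem sI_sq {i : ℕ} (hi : i < 2872) : sI i * sI i = 1 :=
  Subtype.ext (by rw [Subgroup.coe_mul, sI_val hi]; exact (inv_mem_stab i hi).2)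

/-- A permutation on the list. -/
def InList (σ : Equiv.Perm GolayPt) : Prop := ∃ i < 2872, rep24.den (invC i) = σ

theorem inList_conj {k : Equiv.Perm GolayPt} (hk : k ∈ duadStab pA pB) :
    ∀ {σ}, InList σ → InList (k * σ * k⁻¹) := by
  classical
  let H : Subgroup (Equiv.Perm GolayPt) := Subgroup.normalizer {σ | InList σ}
  suffices duadStab pA pB ≤ H from fun {σ} h => ((this hk) σ).1 h
  rw [duad_eq_span, Rep.span, Subgroup.closure_le]
  rintro _ ⟨c, hc, rfl⟩
  obtain ⟨g, hg, rfl⟩ := List.getElem_of_mem hc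
  have hg2 : g < 2 := by
    have h := pair_gens
    simp only [Bool.and_eq_true, Nat.beq_eq] at h
    omega
  refine Subgroup.mem_normalizer_fintype ?_
  rintro _ ⟨i, hi, rfl⟩
  refine ⟨invImg g i, ((inv_facts hi).2 g hg2).1, ?_⟩
  rw [← List.getD_eq_getElem _ 0 hg, show rep24.den (cfgPairGens.getD g 0) = gK g from rfl,
    ((inv_facts hi).2 g hg2).2, mul_inv_cancel_right]

/-- **The list is complete.** -/
theorem inList_of_sq {σ : Equiv.Perm GolayPt} (hσ : σ ∈ duadStab pA pB) (h2 : σ * σ = 1) : InList σ := by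
  have hx := extra_ok
  simp only [Bool.and_eq_true] at hx
  by_cases h1 : σ = 1
  · exact ⟨2871, by norm_num, by rw [h1]; exact (idB_iff (inv_facts (by norm_num)).1).1 hx.1⟩
  obtain ⟨hσM, hpair⟩ := mem_duadStab.1 hσ
  have hord : orderOf σ = 2 := orderOf_eq_prime (by rw [sq, h2]) h1
  obtain ⟨j, hj, k, hk, e⟩ := exists_conj_involution hσM hord
  set s := syl2Reps.getD j rep24.one
  have hsok : rep24.Ok s := by
    have hs : inM24B s = true := by
      have hl : allBelow 2 (fun j => inM24B (syl2Reps.getD j rep24.one)) = true := by decide +kernel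
      exact allBelow_eq_true.1 hl j hj
    exact (mem_M24_of_check hs).1
  have ha : ptIdx (k pA) < 24 := ptIdx_lt _
  have hb : ptIdx (k pB) < 24 := ptIdx_lt _
  have hspt : ∀ p, rep24.act s (ptIdx (k p)) = ptIdx (k (σ p)) := fun p => by
    rw [← ptIdx_den hsok, ← e, Equiv.Perm.mul_apply, Equiv.Perm.mul_apply, Equiv.Perm.inv_def,
      Equiv.symm_apply_apply]
  have hc := allBelow_eq_true.1 (allBelow_eq_true.1 (allBelow_eq_true.1 cert_ok j hj) _ ha) _ hb
  simp only [certB, Bool.or_eq_true, Bool.not_eq_true', List.any_eq_true, Bool.and_eq_true] at hc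
  have hfix : ¬ ((Nat.beq (rep24.act s (ptIdx (k pA))) (ptIdx (k pA)) &&
        Nat.beq (rep24.act s (ptIdx (k pB))) (ptIdx (k pB))) ||
      (Nat.beq (rep24.act s (ptIdx (k pA))) (ptIdx (k pB)) &&
        Nat.beq (rep24.act s (ptIdx (k pB))) (ptIdx (k pA)))) = false := by
    rw [hspt, hspt]
    rcases hpair with ⟨u1, u2⟩ | ⟨u1, u2⟩ <;> rw [u1, u2] <;> simp
  have hne : ¬ Nat.beq (ptIdx (k pA)) (ptIdx (k pB)) = true := by
    rw [Nat.beq_eq]
    exact fun h => pA_ne_pB (k.injective (ptIdx_injective h))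
  obtain ⟨c, -, ⟨⟨⟨⟨-, hab⟩, hM⟩, hi⟩, himg⟩, hmul⟩ := (hc.resolve_left fun h => h.elim hfix hne)
  obtain ⟨hok, hden⟩ := mem_M24_of_check hM
  rw [Nat.blt_eq] at hi
  simp only [Nat.beq_eq] at hab himg hmul
  have hpts : (rep24.den c.2.2.2.1 (k pA) = pA ∧ rep24.den c.2.2.2.1 (k pB) = pB) ∨
      (rep24.den c.2.2.2.1 (k pA) = pB ∧ rep24.den c.2.2.2.1 (k pB) = pA) := by
    have e1 : ∀ p, rep24.den c.2.2.2.1 (k p) = rep24.pt (rep24.act c.2.2.2.1 (ptIdx (k p))) := fun p => by
      conv_lhs => rw [← rep24_pt_ptIdx (k p)]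
      exact den_pt hok (ptIdx_lt _)
    rw [e1, e1]
    exact himg.imp (fun h => by rw [h.1, h.2]; exact ⟨rfl, rfl⟩) (fun h => by rw [h.1, h.2]; exact ⟨rfl, rfl⟩)
  have hcomm : rep24.den c.2.2.2.1 * rep24.den s = rep24.den (invC c.2.2.2.2) * rep24.den c.2.2.2.1 := by
    rw [← rep24.den_mul _ _ hok hsok, hmul, rep24.den_mul _ _ (inv_facts hi).1 hok]
  set h := rep24.den c.2.2.2.1
  have hm : h * k ∈ duadStab pA pB := mem_duadStab.2 ⟨mul_mem hden hk, hpts⟩
  have := inList_conj (inv_mem hm) (⟨_, hi, rfl⟩ : InList (rep24.den (invC c.2.2.2.2)))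
  have e' : (h * k)⁻¹ * rep24.den (invC c.2.2.2.2) * (h * k)⁻¹⁻¹ = σ := by
    calc (h * k)⁻¹ * rep24.den (invC c.2.2.2.2) * (h * k)⁻¹⁻¹
        = k⁻¹ * h⁻¹ * (rep24.den (invC c.2.2.2.2) * h) * k := by group
      _ = k⁻¹ * rep24.den s * k := by rw [← hcomm]; group
      _ = σ := by rw [← e]; group
  rwa [e'] at this

theorem exists_sI {σ : ↥M24} (hσ : (σ : Equiv.Perm GolayPt) ∈ duadStab pA pB) (h2 : σ * σ = 1) :
    ∃ i < 2872, sI i = σ := by
  obtain ⟨i, hi, e⟩ := inList_of_sq hσ (by rw [← Subgroup.coe_mul, h2]; rfl)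
  exact ⟨i, hi, Subtype.ext (by rw [sI_val hi, e])⟩

end Cfsg.Agent.J4Type.Order
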