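import Cfsg.Agent.J4Type.Order.CountTClass
import Cfsg.Agent.J4Type.Order.CountTIndex

/-!
# Pairs of involutions whose product has the involution of a pair of points as a power
-/

set_option autoImplicit false
set_option maxRecDepth 100000

open Cfsg Subgroup

namespace Cfsg.Agent.J4Type.Order

open LargeExtra (oc)
open LargeFischer (W11 pt IsDuad bv)
open J4Type (mSub)
open J4Type.V11
open TenLocal

variable {G : Type*} [Group G] [Finite G] {z : G} {P : Subgroup G} {V : Type*} [AddCommGroup V]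
  {π : ↥(oc z) →* Multiplicative V} {ρ : ↥(mSub z P) →* Equiv.Perm V} {q : V → ZMod 2} {B : List V}
  {S : Sys z P π ρ q B} (T : Sect S)

/-- The involution of the standard pair of points. -/
noncomputable def uD : G := wg T.F (bv 1)

theorem bv_one : bv 1 = pt pA + pt pB := by
  rw [pA, pB, ← pts_ok (show (0 : ℕ) < 24 by norm_num), ← pts_ok (show (23 : ℕ) < 24 by norm_num),
    show vpL.getD 0 0 = 1 from rfl, show vpL.getD 23 0 = 0 from rfl, LargeFischer.bv_zero, add_zero]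

theorem duad_one : IsDuad (bv 1) := ⟨pA, pB, pA_ne_pB, bv_one⟩

theorem uD_spec : uD T ≠ 1 ∧ ¬ IsConj z (uD T) := (duad_iff_sec T.F T.good _).1 duad_one

theorem uD_sq : uD T * uD T = 1 := T.F.grp_sq (wg_mem T.F _)

theorem isConj_uD {x : G} : IsConj (uD T) x ↔ x * x = 1 ∧ x ≠ 1 ∧ ¬ IsConj z x := by
  constructor
  · intro h
    obtain ⟨g, rfl⟩ := isConj_iff.1 h
    refine ⟨?_, fun e => (uD_spec T).1 (conj_eq_one_iff.1 e), ?_⟩
    · rw [show g * uD T * g⁻¹ * (g * uD T * g⁻¹) = g * (uD T * uD T) * g⁻¹ by group, uD_sq]; group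
    · rw [isConj_conj_iff]; exact (uD_spec T).2
  · rintro ⟨h1, h2, h3⟩
    exact classes_wg T.F T.good h1 h2 h3 duad_one

theorem act_one_iff (σ : ↥M24) :
    T.act σ (bv 1) = bv 1 ↔ (σ : Equiv.Perm GolayPt) ∈ duadStab pA pB := by
  rw [mem_duadStab, bv_one, T.acts σ]
  constructor
  · intro h
    exact ⟨σ.2, LargeFischer.pair_eq ((σ : Equiv.Perm GolayPt).injective.ne pA_ne_pB) pA_ne_pB h⟩
  · rintro ⟨-, ⟨h1, h2⟩ | ⟨h1, h2⟩⟩
    · rw [h1, h2]
    · rw [h1, h2, add_comm]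

/-- The lifts of an involution in the class of `z`. -/
def ZC (σ : ↥M24) (w : W11) : Prop :=
  σ * σ = 1 ∧ T.act σ w = w ∧ ((σ = 1 ∧ w ≠ 0 ∧ ¬ IsDuad w) ∨ (σ ≠ 1 ∧ IsCom T σ w))

/-- The lifts in the other class. -/
def TC (σ : ↥M24) (w : W11) : Prop :=
  σ * σ = 1 ∧ T.act σ w = w ∧ ((σ = 1 ∧ IsDuad w) ∨ (σ ≠ 1 ∧ ¬ IsCom T σ w))

theorem el_sq_iff (σ : ↥M24) (w : W11) :
    T.el w σ * T.el w σ = 1 ↔ σ * σ = 1 ∧ T.act σ w = w := by
  rw [T.el_mul, ← T.el_one]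
  constructor
  · intro h
    obtain ⟨h1, h2⟩ := T.el_inj h
    exact ⟨h2, (LargeFischer.eq_of_add11 h1).symm⟩
  · rintro ⟨h1, h2⟩
    rw [h1, h2, LargeFischer.self11]

theorem el_eq_one {σ : ↥M24} {w : W11} (h : T.el w σ = 1) : w = 0 ∧ σ = 1 :=
  T.el_inj (h.trans T.el_one.symm)

theorem wg_eq_one {w : W11} (h : wg T.F w = 1) : w = 0 := wg_inj T.F (h.trans (wg_zero T.F).symm)

variable {T}
variable (hT : ∀ σ : ↥M24, σ * σ = 1 → σ ≠ 1 → CritAt T σ)

theorem sq_of_isConj (T : Sect S) {x : G} (h : IsConj z x) : x * x = 1 := by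
  obtain ⟨g, rfl⟩ := isConj_iff.1 h
  rw [show g * z * g⁻¹ * (g * z * g⁻¹) = g * (z * z) * g⁻¹ by group, S.D.zz]; group


include hT in
theorem z_iff (σ : ↥M24) (w : W11) : IsConj z (T.el w σ) ↔ ZC T σ w := by
  constructor
  · intro h
    obtain ⟨h2, hw⟩ := (el_sq_iff T σ w).1 (sq_of_isConj T h)
    refine ⟨h2, hw, ?_⟩
    by_cases h1 : σ = 1
    · subst h1
      rw [← wg_eq] at h
      refine Or.inl ⟨rfl, fun e => ?_, fun hd => ((duad_iff_sec T.F T.good w).1 hd).2 h⟩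
      rw [e, wg_zero, isConj_one_left] at h
      exact S.D.z_ne h
    · exact Or.inr ⟨h1, (hT σ h2 h1 w hw).1 h⟩
  · rintro ⟨h2, hw, ⟨rfl, h0, hd⟩ | ⟨h1, hc⟩⟩
    · rw [← wg_eq]
      by_contra hz
      exact hd ((duad_iff_sec T.F T.good w).2 ⟨fun e => h0 (wg_eq_one T e), hz⟩)
    · exact (hT σ h2 h1 w hw).2 hc

include hT in
theorem t_iff (σ : ↥M24) (w : W11) : IsConj (uD T) (T.el w σ) ↔ TC T σ w := by
  rw [isConj_uD]
  constructor
  · rintro ⟨hsq, hne, hz⟩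
    obtain ⟨h2, hw⟩ := (el_sq_iff T σ w).1 hsq
    refine ⟨h2, hw, ?_⟩
    by_cases h1 : σ = 1
    · subst h1
      rw [← wg_eq] at hne hz
      exact Or.inl ⟨rfl, (duad_iff_sec T.F T.good w).2 ⟨hne, hz⟩⟩
    · exact Or.inr ⟨h1, fun hc => hz ((hT σ h2 h1 w hw).2 hc)⟩
  · rintro ⟨h2, hw, ⟨rfl, hd⟩ | ⟨h1, hc⟩⟩
    · obtain ⟨e1, e2⟩ := (duad_iff_sec T.F T.good w).1 hd
      refine ⟨(el_sq_iff T _ w).2 ⟨h2, hw⟩, ?_, ?_⟩ <;> rwa [← wg_eq]
    · exact ⟨(el_sq_iff T σ w).2 ⟨h2, hw⟩, fun e => h1 (el_eq_one T e).2,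
        fun hz => hc ((hT σ h2 h1 w hw).1 hz)⟩

variable (T)

/-- The pairs of lifts of two listed involutions. -/
def PairCond (i j : ℕ) (p : W11 × W11) : Prop :=
  IsConj z (T.el p.1 (sI i)) ∧ IsConj (uD T) (T.el p.2 (sI j)) ∧
    uD T ∈ zpowers (T.el p.1 (sI i) * T.el p.2 (sI j))

/-- Their number. -/
noncomputable def nPair (i j : ℕ) : ℕ := Nat.card {p : W11 × W11 // PairCond T i j p}

/-- The pairs in the group. -/
def GPair : Type _ := {p : G × G // IsConj z p.1 ∧ IsConj (uD T) p.2 ∧ uD T ∈ zpowers (p.1 * p.2)}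

theorem fix_of_zpowers {x y u : G} (hx : x * x = 1) (hy : y * y = 1) (hu : u * u = 1)
    (h : u ∈ zpowers (x * y)) : x * u = u * x ∧ y * u = u * y := by
  obtain ⟨n, rfl⟩ := mem_zpowers_iff.1 h
  have hinv : ((x * y) ^ n)⁻¹ = (x * y) ^ n := inv_eq_of_mul_eq_one_right hu
  have hxi : x⁻¹ = x := inv_eq_of_mul_eq_one_right hx
  have hyi : y⁻¹ = y := inv_eq_of_mul_eq_one_right hy
  have key : x * (x * y) ^ n * x⁻¹ = (x * y) ^ n := by
    rw [← conj_zpow, show x * (x * y) * x⁻¹ = (x * y)⁻¹ by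
      rw [mul_inv_rev, hxi, hyi, ← mul_assoc, hx, one_mul], inv_zpow, hinv]
  have key' : y * (x * y) ^ n * y⁻¹ = (x * y) ^ n := by
    rw [← conj_zpow, show y * (x * y) * y⁻¹ = (x * y)⁻¹ by
      rw [mul_inv_rev, hxi, hyi, mul_assoc y (x * y), mul_assoc x, hy, mul_one], inv_zpow, hinv]
  exact ⟨mul_inv_eq_iff_eq_mul.1 key, mul_inv_eq_iff_eq_mul.1 key'⟩

theorem exists_index {x : G} (hx : x * x = 1) (hu : x * uD T = uD T * x) :
    ∃ i < 2872, ∃ a, x = T.el a (sI i) := by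
  have hn : x ∈ T.F.nrm := cent_duad T.F T.good duad_one (mem_centralizer_singleton_iff.2 hu)
  obtain ⟨a, ha⟩ := T.exists_el hn
  set σ := T.F.theta T.good ⟨x, hn⟩
  rw [ha] at hx hu
  obtain ⟨h2, -⟩ := (el_sq_iff T σ a).1 hx
  rw [uD, wg_eq, T.el_mul, T.el_mul, T.act_one] at hu
  have h1 := (T.el_inj hu).1
  rw [add_comm (bv 1) a] at h1
  obtain ⟨i, hi, e⟩ := exists_sI ((act_one_iff T σ).1 (add_left_cancel h1)) h2
  exact ⟨i, hi, a, e ▸ ha⟩

/-- **The count splits over the pairs of images.** -/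
theorem card_gPair : Nat.card (GPair T) =
    ∑ i ∈ Finset.range 2872, ∑ j ∈ Finset.range 2872, nPair T i j := by
  let f : (Σ ij : Fin 2872 × Fin 2872, {p : W11 × W11 // PairCond T ij.1 ij.2 p}) → GPair T :=
    fun s => ⟨(T.el s.2.1.1 (sI s.1.1), T.el s.2.1.2 (sI s.1.2)), s.2.2.1, s.2.2.2.1, s.2.2.2.2⟩
  have hf : Function.Bijective f := by
    refine ⟨fun s t e => ?_, fun p => ?_⟩
    · obtain ⟨⟨i, j⟩, ⟨⟨a, b⟩, hs⟩⟩ := s
      obtain ⟨⟨i', j'⟩, ⟨⟨a', b'⟩, ht⟩⟩ := t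
      obtain ⟨e1, e2⟩ := Prod.mk.inj (congrArg Subtype.val e)
      obtain ⟨rfl, hi⟩ := T.el_inj e1
      obtain ⟨rfl, hj⟩ := T.el_inj e2
      obtain rfl := Fin.ext (sI_inj i.2 i'.2 hi)
      obtain rfl := Fin.ext (sI_inj j.2 j'.2 hj)
      rfl
    · obtain ⟨⟨x, y⟩, hx, hy, hu⟩ := p
      have hx2 := sq_of_isConj T hx
      have hy2 := ((isConj_uD T).1 hy).1
      obtain ⟨c1, c2⟩ := fix_of_zpowers hx2 hy2 (uD_sq T) hu
      obtain ⟨i, hi, a, rfl⟩ := exists_index T hx2 c1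
      obtain ⟨j, hj, b, rfl⟩ := exists_index T hy2 c2
      exact ⟨⟨(⟨i, hi⟩, ⟨j, hj⟩), ⟨(a, b), hx, hy, hu⟩⟩, rfl⟩
  rw [← Nat.card_eq_of_bijective f hf, Nat.card_sigma, Fintype.sum_prod_type,
    Finset.sum_range (fun i => ∑ j ∈ Finset.range 2872, nPair T i j)]
  exact Finset.sum_congr rfl fun i _ => (Finset.sum_range (fun j => nPair T i j)).symm

theorem act_bij (γ : ↥M24) : Function.Bijective (T.act γ) := by
  refine ⟨T.F.tau_inj _, fun w => ⟨T.act γ⁻¹ w, act_inv_act T γ w⟩⟩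

/-- **Invariance under the generators.** -/
theorem nPair_img {g i j : ℕ} (hg : g < 2) (hi : i < 2872) (hj : j < 2872) :
    nPair T (invImg g i) (invImg g j) = nPair T i j := by
  obtain ⟨hgok, -⟩ := gens_facts hg
  set γ : ↥M24 := ⟨gK g, (mem_duadStab.1 (gK_mem hg)).1⟩
  have hconj : ∀ {k : ℕ}, k < 2872 → sI (invImg g k) = γ * sI k * γ⁻¹ := fun {k} hk => by
    refine Subtype.ext ?_
    rw [sI_val ((inv_facts hk).2 g hg).1, Subgroup.coe_mul, Subgroup.coe_mul, Subgroup.coe_inv, sI_val hk]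
    exact eq_mul_inv_of_mul_eq ((inv_facts hk).2 g hg).2.symm
  set h := T.el 0 γ
  have hel : ∀ (a : W11) {k : ℕ}, k < 2872 →
      T.el (T.act γ a) (sI (invImg g k)) = h * T.el a (sI k) * h⁻¹ := fun a k hk => by
    rw [T.el_conj, map_zero, zero_add, add_zero, hconj hk]
  have hu : h * uD T * h⁻¹ = uD T := by
    rw [uD, wg_eq, T.el_conj, map_zero, zero_add, add_zero, mul_one, mul_inv_cancel,
      (act_one_iff T γ).2 (gK_mem hg)]
  refine (Nat.card_congr ((Equiv.ofBijective _ ((act_bij T γ).prodMap (act_bij T γ))).subtypeEquiv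
    fun p => ?_)).symm
  obtain ⟨a, b⟩ := p
  show PairCond T i j (a, b) ↔ PairCond T (invImg g i) (invImg g j) (T.act γ a, T.act γ b)
  simp only [PairCond]
  rw [hel a hi, hel b hj, isConj_conj_iff, isConj_conj_iff,
    show h * T.el a (sI i) * h⁻¹ * (h * T.el b (sI j) * h⁻¹) = h * (T.el a (sI i) * T.el b (sI j)) * h⁻¹ by group]
  refine and_congr Iff.rfl (and_congr Iff.rfl ?_)
  rw [mem_zpowers_iff, mem_zpowers_iff]
  refine exists_congr fun n => ?_
  rw [conj_zpow]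
  constructor
  · intro e; rw [e, hu]
  · intro e
    have := e.trans hu.symm
    exact mul_left_cancel (mul_right_cancel this)

theorem nPair_act (w : List ℕ) (hw : ∀ g ∈ w, g < 2) : ∀ {i j : ℕ}, i < 2872 → j < 2872 →
    nPair T (invAct w i) (invAct w j) = nPair T i j := by
  induction w with
  | nil => intro i j _ _; rfl
  | cons g w ih =>
    intro i j hi hj
    have hg := hw g List.mem_cons_self
    rw [invAct_cons, invAct_cons, ih (fun x hx => hw x (List.mem_cons_of_mem _ hx))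
      ((inv_facts hi).2 g hg).1 ((inv_facts hj).2 g hg).1, nPair_img T hg hi hj]

/-- A sum along a row does not change when the list is permuted by a generator. -/
theorem sum_img {g : ℕ} (hg : g < 2) (f : ℕ → ℕ) :
    ∑ j ∈ Finset.range 2872, f (invImg g j) = ∑ j ∈ Finset.range 2872, f j := by
  classical
  have hinj : Set.InjOn (invImg g) ↑(Finset.range 2872) := fun a ha b hb e =>
    invImg_inj hg (Finset.mem_range.1 (Finset.mem_coe.1 ha)) (Finset.mem_range.1 (Finset.mem_coe.1 hb)) e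
  conv_rhs => rw [← Finset.eq_of_subset_of_card_le (s := (Finset.range 2872).image (invImg g))
    (t := Finset.range 2872) (fun x hx => by
      obtain ⟨a, ha, rfl⟩ := Finset.mem_image.1 hx
      exact Finset.mem_range.2 ((inv_facts (Finset.mem_range.1 ha)).2 g hg).1)
    (by rw [Finset.card_image_of_injOn hinj])]
  rw [Finset.sum_image hinj]

theorem row_img {g i : ℕ} (hg : g < 2) (hi : i < 2872) :
    ∑ j ∈ Finset.range 2872, nPair T (invImg g i) j = ∑ j ∈ Finset.range 2872, nPair T i j := by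
  rw [← sum_img hg fun j => nPair T (invImg g i) j]
  exact Finset.sum_congr rfl fun j hj => nPair_img T hg hi (Finset.mem_range.1 hj)

end Cfsg.Agent.J4Type.Order
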