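import Cfsg.Agent.Invol.Pair

/-!
# Thompson's order formula for two classes of involutions
-/

set_option autoImplicit false

open Subgroup

namespace Cfsg.Agent.J4Type.Order

variable {G : Type*} [Group G]

/-- The pairs counted at `u`. -/
def Pairs (z t u : G) : Type _ := {p : G × G // IsConj z p.1 ∧ IsConj t p.2 ∧ u ∈ zpowers (p.1 * p.2)}

theorem eq_half [Finite G] {g w : G} (hw : orderOf w = 2) (h : w ∈ zpowers g) :
    w = g ^ (orderOf g / 2) ∧ Even (orderOf g) := by
  obtain ⟨k, hk, rfl⟩ : ∃ k < orderOf g, g ^ k = w := by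
    obtain ⟨k, rfl⟩ := mem_powers_iff_mem_zpowers.2 h
    exact ⟨k % orderOf g, Nat.mod_lt _ (orderOf_pos g), pow_mod_orderOf g k⟩
  obtain ⟨h1, h2⟩ := Invol.orderOf_eq_two_iff.1 hw
  rw [← pow_add] at h2
  obtain ⟨c, hc⟩ := orderOf_dvd_of_pow_eq_one h2
  have hk0 : k ≠ 0 := fun h0 => h1 (by rw [h0, pow_zero])
  have hc1 : c = 1 := by
    rcases c with _ | _ | c
    · omega
    · rfl
    · nlinarith
  subst hc1
  refine ⟨?_, ⟨k, by omega⟩⟩
  congr 1
  omega

theorem card_isConj_mul [Finite G] (z : G) :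
    Nat.card {u : G // IsConj z u} * Nat.card (centralizer ({z} : Set G)) = Nat.card G := by
  classical
  have h : (centralizer ({z} : Set G)).index = (MulAction.stabilizer (ConjAct G) z).index :=
    (congrArg Subgroup.index (centralizer_eq_comap_stabilizer z)).trans
      (index_comap_of_surjective _ (f := (ConjAct.toConjAct (G := G)).toMonoidHom)
        (ConjAct.toConjAct (G := G)).surjective)
  have e : Nat.card {u : G // IsConj z u} = (centralizer ({z} : Set G)).index := by
    rw [h, MulAction.index_stabilizer, ← Nat.card_coe_set_eq]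
    refine Nat.card_congr (Equiv.subtypeEquivRight fun u => ?_)
    rw [ConjAct.mem_orbit_conjAct]
    exact isConj_comm
  rw [e, mul_comm]
  exact (centralizer ({z} : Set G)).card_mul_index

/-- Conjugation moves the pairs. -/
noncomputable def pairsEquiv (z t u g : G) : Pairs z t u ≃ Pairs z t (g * u * g⁻¹) :=
  Equiv.subtypeEquiv (Equiv.prodCongr (MulAut.conj g).toEquiv (MulAut.conj g).toEquiv) fun p => by
    show _ ↔ IsConj z (g * p.1 * g⁻¹) ∧ IsConj t (g * p.2 * g⁻¹) ∧
      g * u * g⁻¹ ∈ zpowers (g * p.1 * g⁻¹ * (g * p.2 * g⁻¹))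
    have h1 : ∀ a b : G, IsConj a b ↔ IsConj a (g * b * g⁻¹) := fun a b =>
      ⟨fun h => h.trans (isConj_iff.2 ⟨g, rfl⟩), fun h => h.trans (isConj_iff.2 ⟨g, rfl⟩).symm⟩
    rw [← h1, ← h1, show g * p.1 * g⁻¹ * (g * p.2 * g⁻¹) = g * (p.1 * p.2) * g⁻¹ by group]
    refine and_congr_right fun _ => and_congr_right fun _ => ?_
    simp only [mem_zpowers_iff]
    refine exists_congr fun k => ?_
    rw [conj_zpow, mul_left_inj, mul_right_inj]

/-- Thompson's order formula. -/
theorem order_formula [Finite G] {z t : G} (hz : orderOf z = 2) (ht : orderOf t = 2)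
    (hne : ¬ IsConj z t) (hall : ∀ x : G, orderOf x = 2 → IsConj z x ∨ IsConj t x) :
    Nat.card G = Nat.card (Pairs z t z) * Nat.card (centralizer ({t} : Set G)) +
      Nat.card (Pairs z t t) * Nat.card (centralizer ({z} : Set G)) := by
  classical
  have hex : ∀ p : {a : G // IsConj z a} × {b : G // IsConj t b},
      ∃ w : G, orderOf w = 2 ∧ w ∈ zpowers ((p.1 : G) * p.2) := by
    rintro ⟨⟨a, ha⟩, ⟨b, hb⟩⟩
    have ha2 := Invol.orderOf_eq_two_of_isConj ha hz
    have hb2 := Invol.orderOf_eq_two_of_isConj hb ht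
    obtain ⟨m, hm⟩ : Even (orderOf (a * b)) := by
      by_contra hodd
      exact hne (ha.trans ((Invol.isConj_of_odd ha2 hb2 (Nat.not_even_iff_odd.1 hodd)).trans hb.symm))
    have hpos := orderOf_pos (a * b)
    refine ⟨(a * b) ^ m, ?_, pow_mem (mem_zpowers _) m⟩
    rw [orderOf_pow_of_dvd (by omega) ⟨2, by omega⟩, hm, ← two_mul,
      Nat.mul_div_cancel _ (by omega : 0 < m)]
  let R : Type _ := (u : {u : G // IsConj z u}) × Pairs z t (u : G)
  let R' : Type _ := (u : {u : G // IsConj t u}) × Pairs z t (u : G)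
  let fwd : R ⊕ R' → {a : G // IsConj z a} × {b : G // IsConj t b} :=
    Sum.elim (fun r => (⟨r.2.1.1, r.2.2.1⟩, ⟨r.2.1.2, r.2.2.2.1⟩))
      (fun r => (⟨r.2.1.1, r.2.2.1⟩, ⟨r.2.1.2, r.2.2.2.1⟩))
  have huniq : ∀ {g w w' : G}, orderOf w = 2 → orderOf w' = 2 → w ∈ zpowers g → w' ∈ zpowers g →
      w = w' := fun h h' m m' => (eq_half h m).1.trans (eq_half h' m').1.symm
  have hbij : Function.Bijective fwd := by
    constructor
    · rintro (⟨⟨u, hu⟩, ⟨⟨a, b⟩, h⟩⟩ | ⟨⟨u, hu⟩, ⟨⟨a, b⟩, h⟩⟩)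
        (⟨⟨u', hu'⟩, ⟨⟨a', b'⟩, h'⟩⟩ | ⟨⟨u', hu'⟩, ⟨⟨a', b'⟩, h'⟩⟩) e
      all_goals
        simp only [fwd, Sum.elim_inl, Sum.elim_inr, Prod.mk.injEq, Subtype.mk.injEq] at e
        obtain ⟨e1, e2⟩ := e
        subst e1 e2
      · obtain rfl := huniq (Invol.orderOf_eq_two_of_isConj hu hz)
          (Invol.orderOf_eq_two_of_isConj hu' hz) h.2.2 h'.2.2
        rfl
      · obtain rfl := huniq (Invol.orderOf_eq_two_of_isConj hu hz)
          (Invol.orderOf_eq_two_of_isConj hu' ht) h.2.2 h'.2.2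
        exact absurd (hu.trans hu'.symm) hne
      · obtain rfl := huniq (Invol.orderOf_eq_two_of_isConj hu ht)
          (Invol.orderOf_eq_two_of_isConj hu' hz) h.2.2 h'.2.2
        exact absurd (hu'.trans hu.symm) hne
      · obtain rfl := huniq (Invol.orderOf_eq_two_of_isConj hu ht)
          (Invol.orderOf_eq_two_of_isConj hu' ht) h.2.2 h'.2.2
        rfl
    · intro p
      obtain ⟨w, hw, hm⟩ := hex p
      rcases hall w hw with h | h
      · exact ⟨Sum.inl ⟨⟨w, h⟩, ⟨(p.1, p.2), p.1.2, p.2.2, hm⟩⟩, rfl⟩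
      · exact ⟨Sum.inr ⟨⟨w, h⟩, ⟨(p.1, p.2), p.1.2, p.2.2, hm⟩⟩, rfl⟩
  have hconst : ∀ v : G, Nat.card ((u : {u : G // IsConj v u}) × Pairs z t (u : G))
      = Nat.card {u : G // IsConj v u} * Nat.card (Pairs z t v) := by
    intro v
    rw [← Nat.card_prod]
    refine Nat.card_congr ((Equiv.sigmaCongrRight fun u => ?_).trans (Equiv.sigmaEquivProd _ _))
    have hg := (isConj_iff.1 u.2).choose_spec
    exact ((pairsEquiv z t v (isConj_iff.1 u.2).choose).trans (Equiv.cast (by rw [hg]))).symm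
  have : ∀ u : G, Finite (Pairs z t u) := fun u =>
    inferInstanceAs (Finite {p : G × G // _})
  have hcount := Nat.card_congr (Equiv.ofBijective fwd hbij)
  rw [Nat.card_sum, hconst z, hconst t, Nat.card_prod] at hcount
  have cz := card_isConj_mul z
  have ct := card_isConj_mul t
  refine Nat.eq_of_mul_eq_mul_left (Nat.card_pos : 0 < Nat.card G) ?_
  calc Nat.card G * Nat.card G
      = (Nat.card {u : G // IsConj z u} * Nat.card (centralizer ({z} : Set G))) *
        (Nat.card {u : G // IsConj t u} * Nat.card (centralizer ({t} : Set G))) := by rw [cz, ct]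
    _ = (Nat.card {u : G // IsConj z u} * Nat.card {u : G // IsConj t u}) *
        (Nat.card (centralizer ({z} : Set G)) * Nat.card (centralizer ({t} : Set G))) := by ring
    _ = (Nat.card {u : G // IsConj z u} * Nat.card (Pairs z t z) +
          Nat.card {u : G // IsConj t u} * Nat.card (Pairs z t t)) *
        (Nat.card (centralizer ({z} : Set G)) * Nat.card (centralizer ({t} : Set G))) := by rw [hcount]
    _ = (Nat.card {u : G // IsConj z u} * Nat.card (centralizer ({z} : Set G))) *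
          (Nat.card (Pairs z t z) * Nat.card (centralizer ({t} : Set G))) +
        (Nat.card {u : G // IsConj t u} * Nat.card (centralizer ({t} : Set G))) *
          (Nat.card (Pairs z t t) * Nat.card (centralizer ({z} : Set G))) := by ring
    _ = _ := by rw [cz, ct, ← mul_add]

end Cfsg.Agent.J4Type.Order
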