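import Mathlib

/-!
# Elements of large prime order

Elementary facts on a finite group in which an element of prime order `q` has little room to act:
`q - 1` is coprime to the group order and no prime power dividing the order is congruent to `1` modulo `q`.
-/

set_option autoImplicit false

open Subgroup

namespace Cfsg.Agent.J4Type.LargePrime

variable {K : Type*} [Group K] [Finite K]

omit [Finite K] in
/-- Conjugation by the normalizer of `S` as an action of a subgroup of it. -/
theorem mem_normalizer_conj {S : Subgroup K} {g s : K} (hg : g ∈ normalizer (S : Set K)) (hs : s ∈ S) :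
    g * s * g⁻¹ ∈ S :=
  (mem_normalizer_iff.1 hg s).1 hs

/-- An element of prime order centralises a normalised subgroup whose order leaves no room to move. -/
theorem commute_of_normalizes {q : ℕ} [Fact q.Prime] {y : K} (hy : orderOf y = q) (S : Subgroup K)
    (hS : y ∈ normalizer (S : Set K))
    (hd : ∀ d, d ∣ Nat.card ↥S → d % q = 1 → d = 1) (hq : ¬ q ∣ Nat.card ↥S) : ∀ s ∈ S, Commute y s := by
  have hle : zpowers y ≤ (normalizer (S : Set K) : Subgroup K) := zpowers_le.2 hS
  let φ : ↥(zpowers y) →* MulAut ↥S := S.normalizerMonoidHom.comp (inclusion hle)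
  letI : MulAction ↥(zpowers y) ↥S := MulAction.compHom ↥S φ
  have hsmul : ∀ (g : ↥(zpowers y)) (s : ↥S), ((g • s : ↥S) : K) = (g : K) * s * (g : K)⁻¹ := fun g s => rfl
  have hp : IsPGroup q ↥(zpowers y) := IsPGroup.of_card (n := 1) (by rw [Nat.card_zpowers, hy, pow_one])
  have hmod := hp.card_modEq_card_fixedPoints ↥S
  have hset : ∀ s : ↥S, s ∈ MulAction.fixedPoints ↥(zpowers y) ↥S ↔ Commute y s := by
    intro s
    refine ⟨fun h => ?_, fun h g => Subtype.ext ?_⟩
    · have h1 := congrArg Subtype.val (h ⟨y, mem_zpowers y⟩)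
      rw [hsmul] at h1
      exact mul_inv_eq_iff_eq_mul.1 h1
    · obtain ⟨g, k, rfl⟩ := g
      rw [hsmul]
      exact mul_inv_eq_iff_eq_mul.2 (h.zpow_left k).eq
  let F : Subgroup ↥S :=
    (centralizer ({y} : Set K)).subgroupOf S
  have hF : ∀ s : ↥S, s ∈ F ↔ Commute y s := fun s => by
    rw [mem_subgroupOf, mem_centralizer_singleton_iff]
    exact ⟨fun h => h.symm, fun h => h.symm⟩
  have hcard : Nat.card (MulAction.fixedPoints ↥(zpowers y) ↥S) = Nat.card ↥F :=
    Nat.card_congr (Equiv.subtypeEquivRight fun s => (hset s).trans (hF s).symm)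
  rw [hcard] at hmod
  have hmul := F.index_mul_card
  have hi : F.index = 1 := by
    refine hd _ F.index_dvd_card ?_
    have hcop : Nat.Coprime (Nat.card ↥F) q :=
      ((Fact.out : q.Prime).coprime_iff_not_dvd.2 fun h => hq (h.trans F.card_subgroup_dvd_card)).symm
    rw [← hmul] at hmod
    have h1 : F.index * Nat.card ↥F ≡ 1 * Nat.card ↥F [MOD q] := by rwa [one_mul]
    have h2 := Nat.ModEq.cancel_right_of_coprime (Nat.coprime_comm.1 hcop) h1
    exact Eq.trans h2 (Nat.mod_eq_of_lt (Fact.out : q.Prime).one_lt)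
  intro s hs
  exact (hF ⟨s, hs⟩).1 ((index_eq_one.1 hi).symm ▸ mem_top _)

/-- An element of order `q` is central when `q` divides the order once and leaves no room to act. -/
theorem commute_all {q : ℕ} [hq : Fact q.Prime] {x : K} (hx : orderOf x = q)
    (hsq : ¬ q * q ∣ Nat.card K) (hco : Nat.Coprime (q - 1) (Nat.card K))
    (hd : ∀ s j, Nat.Prime s → s ^ j ∣ Nat.card K → s ^ j % q = 1 → j = 0) (k : K) : Commute x k := by
  have hqK : q ∣ Nat.card K := hx ▸ orderOf_dvd_natCard x
  have hfac : (Nat.card K).factorization q = 1 := by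
    have hne : Nat.card K ≠ 0 := Nat.card_pos.ne'
    have h1 := (hq.out.pow_dvd_iff_le_factorization hne (k := 1)).1 (by rwa [pow_one])
    have h2 := mt (hq.out.pow_dvd_iff_le_factorization hne (k := 2)).2 (by rwa [pow_two])
    omega
  have hQc : Nat.card ↥(zpowers x) = q := by rw [Nat.card_zpowers, hx]
  let Q : Sylow q K := Sylow.ofCard (zpowers x) (by rw [hQc, hfac, pow_one])
  have hQ : (Q : Subgroup K) = zpowers x := rfl
  have hNC : normalizer ((Q : Subgroup K) : Set K) ≤ centralizer ((Q : Subgroup K) : Set K) := by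
    intro g hg
    rw [hQ] at hg ⊢
    let φ := (zpowers x).normalizerMonoidHom
    have h1 : orderOf (φ ⟨g, hg⟩) ∣ Nat.card K :=
      ((orderOf_map_dvd φ _).trans (Subgroup.orderOf_mk g hg).dvd).trans (orderOf_dvd_natCard g)
    have h2 : orderOf (φ ⟨g, hg⟩) ∣ q - 1 := by
      have h := orderOf_dvd_natCard (φ ⟨g, hg⟩)
      rwa [IsCyclic.card_mulAut, hQc, Nat.totient_prime hq.out] at h
    have h3 : (⟨g, hg⟩ : ↥(normalizer (zpowers x : Set K))) ∈ φ.ker := by
      rw [MonoidHom.mem_ker, ← orderOf_eq_one_iff]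
      exact Nat.eq_one_of_dvd_coprimes hco h2 h1
    rw [normalizerMonoidHom_ker, mem_subgroupOf] at h3
    exact h3
  have hcompl := MonoidHom.ker_transferSylow_isComplement' Q hNC
  set R := (MonoidHom.transferSylow Q hNC).ker with hR
  have hRidx : R.index = q := by rw [hcompl.symm.index_eq_card, hQ, hQc]
  have hRq : ¬ q ∣ Nat.card ↥R := fun h => hsq (by
    rw [← R.card_mul_index, hRidx]; exact Nat.mul_dvd_mul_right h q)
  have hRne : Nat.card ↥R ≠ 0 := Nat.card_pos.ne'
  have hdvd : Nat.card ↥R ∣ Nat.card ↥(R ⊓ centralizer ({x} : Set K)) := by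
    rw [← Nat.factorization_le_iff_dvd hRne Nat.card_pos.ne', Finsupp.le_def]
    intro s
    by_cases hs : s.Prime
    swap
    · rw [Nat.factorization_eq_zero_of_not_prime _ hs]; exact Nat.zero_le _
    have := Fact.mk hs
    rw [← hs.pow_dvd_iff_le_factorization Nat.card_pos.ne']
    let S : Sylow s ↥R := default
    have hSc := S.card_eq_multiplicity
    set S' : Subgroup K := (S : Subgroup ↥R).map R.subtype with hS'
    have hS'c : Nat.card ↥S' = s ^ (Nat.card ↥R).factorization s := by
      rw [hS', card_map_of_injective R.subtype_injective]; exact hSc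
    have hS'R : S' ≤ R := map_subtype_le _
    have hfr := Sylow.normalizer_sup_eq_top S
    have hqN : q ∣ Nat.card ↥(normalizer (S' : Set K)) := by
      have h1 : R.relIndex (normalizer (S' : Set K)) = R.index := by
        rw [← relIndex_top_right, ← hfr, relIndex_sup_right]
      have h2 := R.relIndex_dvd_card (normalizer (S' : Set K))
      rwa [h1, hRidx] at h2
    obtain ⟨⟨y, hy⟩, hyo⟩ := exists_prime_orderOf_dvd_card' q hqN
    rw [Subgroup.orderOf_mk] at hyo
    have hSq : ¬ q ∣ Nat.card ↥S' := fun h => hRq (h.trans (card_dvd_of_le hS'R))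
    have hcomm := commute_of_normalizes hyo S' hy (fun d hdd hdq => by
      rw [hS'c, Nat.dvd_prime_pow hs] at hdd
      obtain ⟨j, hj, rfl⟩ := hdd
      have hj2 : s ^ j ∣ Nat.card K :=
        ((pow_dvd_pow s hj).trans (hS'c ▸ card_dvd_of_le hS'R)).trans R.card_subgroup_dvd_card
      rw [hd s j hs hj2 hdq, pow_zero]) hSq
    -- move the conjugate of `x` onto `x`
    let Q' : Sylow q K := Sylow.ofCard (zpowers y) (by rw [Nat.card_zpowers, hyo, hfac, pow_one])
    obtain ⟨g, hg⟩ := MulAction.exists_smul_eq K Q' Q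
    have hxm : x ∈ (Q : Subgroup K) := mem_zpowers x
    rw [← hg, Sylow.smul_def, Sylow.pointwise_smul_def, Subgroup.mem_pointwise_smul_iff_inv_smul_mem] at hxm
    obtain ⟨i, hi⟩ := mem_zpowers_iff.1 (show _ ∈ zpowers y from hxm)
    have hx' : x = g * y ^ i * g⁻¹ := by
      rw [hi, MulAut.smul_def, ← map_inv, MulAut.conj_apply]; group
    have hle : S'.map (MulAut.conj g).toMonoidHom ≤ R ⊓ centralizer ({x} : Set K) := by
      rintro - ⟨t, ht, rfl⟩
      have hnorm : R.Normal := by rw [hR]; infer_instance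
      refine ⟨hnorm.conj_mem t (hS'R ht) g, mem_centralizer_singleton_iff.2 ?_⟩
      rw [hx']
      exact (((hcomm t ht).zpow_left i).symm.map (MulAut.conj g).toMonoidHom).eq
    have := card_dvd_of_le hle
    rwa [card_map_of_injective (MulAut.conj g).injective, hS'c] at this
  have hRC : R ≤ centralizer ({x} : Set K) := by
    have : R ⊓ centralizer ({x} : Set K) = R :=
      eq_of_le_of_card_ge inf_le_left (Nat.le_of_dvd Nat.card_pos hdvd)
    exact this ▸ inf_le_right
  have hQC : (Q : Subgroup K) ≤ centralizer ({x} : Set K) := by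
    rw [hQ]; exact zpowers_le.2 (mem_centralizer_singleton_iff.2 rfl)
  have hk : k ∈ centralizer ({x} : Set K) := by
    obtain ⟨⟨r, t⟩, hrt⟩ := hcompl.2 k
    rw [← hrt]
    exact mul_mem (hRC r.2) (hQC t.2)
  exact (mem_centralizer_singleton_iff.1 hk).symm

end Cfsg.Agent.J4Type.LargePrime
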