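import Mathlib

/-!
# Arithmetic of the large primes of a group of order `|J₄|`

The Sylow congruences for `23, 29, 31, 37, 43`, granted that commuting elements of these orders have the
same normalizer.
-/

set_option autoImplicit false

namespace Cfsg.Agent.J4Type.LargePrime

/-- The order of the sporadic group of Janko. -/
def ordJ : ℕ := 86775571046077562880

/-- The part of the order prime to `2 · 3 · 5 · 7`. -/
def oddPart : ℕ := 11 ^ 3 * (23 * 29 * 31 * 37 * 43)

/-- The five large primes. -/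
def bigList : List ℕ := [23, 29, 31, 37, 43]

/-- The divisors of a product of prime powers. -/
def prodDivisors : List (ℕ × ℕ) → List ℕ
  | [] => [1]
  | (p, k) :: l => (List.range (k + 1)).flatMap fun i => (prodDivisors l).map fun d => p ^ i * d

/-- The product of prime powers. -/
def prodPow : List (ℕ × ℕ) → ℕ
  | [] => 1
  | (p, k) :: l => p ^ k * prodPow l

theorem mem_prodDivisors : ∀ (l : List (ℕ × ℕ)), (∀ a ∈ l, Nat.Prime a.1) → ∀ d, d ∣ prodPow l →
    d ∈ prodDivisors l
  | [], _, d, h => by simpa [prodDivisors, prodPow] using h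
  | (p, k) :: l, hl, d, h => by
    obtain ⟨a, b, ha, hb, rfl⟩ := Nat.dvd_mul.1 h
    obtain ⟨i, hi, rfl⟩ := (Nat.dvd_prime_pow (hl (p, k) (List.mem_cons_self ..))).1 ha
    exact List.mem_flatMap.2 ⟨i, List.mem_range.2 (Nat.lt_succ_of_le hi), List.mem_map.2
      ⟨b, mem_prodDivisors l (fun a h' => hl a (List.mem_cons_of_mem _ h')) b hb, rfl⟩⟩

/-- The divisors of `oddPart`. -/
def oddDivisors : List ℕ := prodDivisors [(11, 3), (23, 1), (29, 1), (31, 1), (37, 1), (43, 1)]

theorem mem_oddDivisors {d : ℕ} (h : d ∣ oddPart) : d ∈ oddDivisors :=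
  mem_prodDivisors _ (by simp only [List.forall_mem_cons, List.not_mem_nil]; norm_num) d
    (by simpa [prodPow, oddPart] using h)

/-- The divisors of `p - 1` below 43. -/
def idxList (p : ℕ) : List ℕ := (List.range 43).filter fun e => 0 < e ∧ (p - 1) % e = 0

theorem mem_idxList {p e : ℕ} (hp : p ∈ bigList) (h : e ∣ p - 1) : e ∈ idxList p := by
  have hp' : 0 < p - 1 ∧ p - 1 < 43 := by fin_cases hp <;> norm_num
  have he := Nat.le_of_dvd hp'.1 h
  simp only [idxList, List.mem_filter, List.mem_range, decide_eq_true_eq]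
  exact ⟨by omega, Nat.pos_of_dvd_of_pos h hp'.1, Nat.mod_eq_zero_of_dvd h⟩

/-- The orders of centraliser and normalizer allowed by the congruence at `p`. -/
def options (p : ℕ) : List (ℕ × ℕ) :=
  oddDivisors.flatMap fun C => ((idxList p).map fun e => (C, C * e)).filter fun a =>
    a.1 % p = 0 ∧ ordJ % a.2 = 0 ∧ (ordJ / a.2) % p = 1

theorem mem_options {p C N : ℕ} (hp : p ∈ bigList) (hC : C ∣ oddPart) (hpC : p ∣ C) {e : ℕ} (he : e ∣ p - 1)
    (hN : N = C * e) (hNJ : N ∣ ordJ) (hcong : (ordJ / N) % p = 1) : (C, N) ∈ options p := by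
  subst hN
  refine List.mem_flatMap.2 ⟨C, mem_oddDivisors hC, List.mem_filter.2 ⟨List.mem_map.2
    ⟨e, mem_idxList hp he, rfl⟩, ?_⟩⟩
  simp only [decide_eq_true_eq]
  exact ⟨Nat.mod_eq_zero_of_dvd hpC, Nat.mod_eq_zero_of_dvd hNJ, hcong⟩

/-- What is left after comparing the normalizers of commuting elements. -/
def finalList : List (ℕ × ℕ × ℕ) :=
  [(23, 23, 506), (23, 253, 506), (29, 29, 812), (31, 31, 310), (31, 341, 5115), (31, 1333, 7998),
    (37, 37, 444), (43, 43, 602), (43, 1333, 7998)]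

theorem options_final : ∀ p ∈ bigList, ∀ a ∈ options p,
    (∀ q ∈ bigList, a.1 % q = 0 → ∃ b ∈ options q, b.2 = a.2 ∧ b.1 % p = 0) →
      (p, a.1, a.2) ∈ finalList := by
  decide +kernel

/-- Prime powers dividing `oddPart` are not congruent to `1` modulo a large prime. -/
theorem ppow_mod {q : ℕ} (hq : q ∈ bigList) (s j : ℕ) (hs : s.Prime) (h : s ^ j ∣ oddPart)
    (hm : s ^ j % q = 1) : j = 0 := by
  have hmem := mem_oddDivisors h
  have key : ∀ q ∈ bigList, ∀ d ∈ oddDivisors, d % q = 1 → d = 1 ∨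
      ∃ a ∈ [11, 23, 29, 31, 37, 43], ∃ b ∈ [11, 23, 29, 31, 37, 43], a ≠ b ∧ d % a = 0 ∧ d % b = 0 := by
    decide +kernel
  rcases key q hq _ hmem hm with h1 | ⟨a, ha, b, hb, hab, had, hbd⟩
  · exact (Nat.pow_eq_one.1 h1).resolve_left hs.one_lt.ne'
  · have hprime : ∀ r ∈ [11, 23, 29, 31, 37, 43], r.Prime := by
      simp only [List.forall_mem_cons, List.not_mem_nil]; norm_num
    have heq : ∀ r ∈ [11, 23, 29, 31, 37, 43], s ^ j % r = 0 → r = s := fun r hr h0 =>
      (Nat.prime_dvd_prime_iff_eq (hprime r hr) hs).1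
        ((hprime r hr).dvd_of_dvd_pow (Nat.dvd_of_mod_eq_zero h0))
    exact absurd ((heq a ha had).trans (heq b hb hbd).symm) hab

end Cfsg.Agent.J4Type.LargePrime
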