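import Cfsg.Agent.J4Type.Order.LargeAbstract
import Cfsg.Agent.J4Type.Order.LargeArith

/-!
# Centralisers and normalizers of elements of large prime order

`Facts G` collects what is used about a simple group of Janko-four type: its order, the orders of the
centralisers of elements of order 2, 3, 5 and 7 and the Sylow 3-subgroups.
-/

set_option autoImplicit false

open Subgroup

namespace Cfsg.Agent.J4Type.LargePrime

/-- The local facts from which the large primes are determined. -/
structure Facts (G : Type*) [Group G] : Prop where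
  card : Nat.card G = ordJ
  invol : ∀ y : G, orderOf y = 2 → Nat.card ↥(centralizer ({y} : Set G)) = 2 ^ 21 * 3 ^ 3 * 5 * 7 * 11 ∨
    Nat.card ↥(centralizer ({y} : Set G)) = 2 ^ 11 * 887040
  three : ∀ x : G, orderOf x = 3 → Nat.card ↥(centralizer ({x} : Set G)) ∣ 2 ^ 21 * 3 ^ 3 * 5 * 7 * 11
  five : ∀ x : G, orderOf x = 5 → Nat.card ↥(centralizer ({x} : Set G)) ∣ 26880
  seven : ∀ x : G, orderOf x = 7 → Nat.card ↥(centralizer ({x} : Set G)) = 840 ∧
    Nat.card ↥(normalizer (zpowers x : Set G)) = 2520
  sylow : ∀ T : Sylow 3 G, Nat.card ↥(T : Subgroup G) = 27 ∧ Nat.card ↥(center ↥(T : Subgroup G)) = 3 ∧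
    Nat.card ↥(normalizer ((T : Subgroup G) : Set G)) = 864

variable {G : Type*} [Group G] [Finite G]

theorem orderOf_dvd_centralizer {x y : G} (h : Commute x y) :
    orderOf y ∣ Nat.card ↥(centralizer ({x} : Set G)) := by
  have hy : y ∈ centralizer ({x} : Set G) := mem_centralizer_singleton_iff.2 h.symm.eq
  have := orderOf_dvd_natCard (⟨y, hy⟩ : ↥(centralizer ({x} : Set G)))
  rwa [Subgroup.orderOf_mk] at this

theorem prime_of_big {p : ℕ} (hp : p ∈ bigList) : p.Prime := by
  fin_cases hp <;> norm_num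

theorem oddPart_big {p : ℕ} (hp : p ∈ bigList) : p ∣ oddPart ∧ ¬ p * p ∣ oddPart := by
  revert p; decide +kernel

/-- An element of large prime order commutes with no element of order 2, 3, 5 or 7. -/
theorem Facts.not_commute_small (F : Facts G) {p : ℕ} (hp : p ∈ bigList) {x y : G} (hx : orderOf x = p)
    (hy : orderOf y = 2 ∨ orderOf y = 3 ∨ orderOf y = 5 ∨ orderOf y = 7) : ¬ Commute x y := by
  intro h
  have hd := orderOf_dvd_centralizer h.symm
  rw [hx] at hd
  rcases hy with hy | hy | hy | hy
  · rcases F.invol y hy with hc | hc <;> rw [hc] at hd <;> fin_cases hp <;> norm_num at hd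
  · have := hd.trans (F.three y hy)
    fin_cases hp <;> norm_num at this
  · have := hd.trans (F.five y hy)
    fin_cases hp <;> norm_num at this
  · rw [(F.seven y hy).1] at hd
    fin_cases hp <;> norm_num at hd

theorem Facts.centralizer_dvd (F : Facts G) {p : ℕ} (hp : p ∈ bigList) {x : G} (hx : orderOf x = p) :
    Nat.card ↥(centralizer ({x} : Set G)) ∣ oddPart := by
  have h : Nat.card ↥(centralizer ({x} : Set G)) ∣ (2 ^ 21 * 3 ^ 3 * 5 * 7) * oddPart := by
    have := card_subgroup_dvd_card (centralizer ({x} : Set G))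
    rw [F.card] at this
    exact this.trans (dvd_of_eq (by norm_num [ordJ, oddPart]))
  have key : ∀ s : ℕ, s.Prime → (s = 2 ∨ s = 3 ∨ s = 5 ∨ s = 7) →
      Nat.Coprime (Nat.card ↥(centralizer ({x} : Set G))) s := by
    intro s hs hs'
    refine (hs.coprime_iff_not_dvd.2 fun hd => ?_).symm
    have := Fact.mk hs
    obtain ⟨⟨y, hy⟩, hyo⟩ := exists_prime_orderOf_dvd_card' s hd
    rw [Subgroup.orderOf_mk] at hyo
    exact F.not_commute_small hp hx (by rwa [hyo]) (mem_centralizer_singleton_iff.1 hy).symm
  refine Nat.Coprime.dvd_of_dvd_mul_left ?_ h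
  exact ((((key 2 Nat.prime_two (by simp)).pow_right 21).mul_right
    ((key 3 Nat.prime_three (by simp)).pow_right 3)).mul_right (key 5 (by norm_num) (by simp))).mul_right
    (key 7 (by norm_num) (by simp))

/-- In a subgroup of order dividing `oddPart`, elements of order 29, 31, 37, 43 are central. -/
theorem central_of_ne (K : Subgroup G) (hK : Nat.card ↥K ∣ oddPart) {q : ℕ} (hq : q ∈ bigList)
    (hq23 : q ≠ 23) {x : G} (hxK : x ∈ K) (hx : orderOf x = q) {k : G} (hk : k ∈ K) : Commute x k := by
  have := Fact.mk (prime_of_big hq)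
  have h := commute_all (x := (⟨x, hxK⟩ : ↥K)) (by rw [Subgroup.orderOf_mk, hx])
    (fun h => (oddPart_big hq).2 (h.trans hK)) (Nat.Coprime.coprime_dvd_right hK ?_)
    (fun s j hs hsj => ppow_mod hq s j hs (hsj.trans hK)) (⟨k, hk⟩ : ↥K)
  · exact h.map K.subtype
  · revert hq23 hq; clear hx this; revert q; decide +kernel

/-- In a subgroup of order dividing `oddPart`, the subgroups of large prime order are normal. -/
theorem conj_mem_zpowers (K : Subgroup G) (hK : Nat.card ↥K ∣ oddPart) {q : ℕ} (hq : q ∈ bigList)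
    {x : G} (hxK : x ∈ K) (hx : orderOf x = q) {k : G} (hk : k ∈ K) : k * x * k⁻¹ ∈ zpowers x := by
  by_cases hq23 : q = 23
  swap
  · rw [← (central_of_ne K hK hq hq23 hxK hx hk).eq, mul_inv_cancel_right]
    exact mem_zpowers x
  subst hq23
  have := Fact.mk (show Nat.Prime 23 by norm_num)
  set x' : ↥K := ⟨x, hxK⟩
  have hx' : orderOf x' = 23 := by rw [Subgroup.orderOf_mk, hx]
  have hfac : (Nat.card ↥K).factorization 23 = 1 := by
    have hne : Nat.card ↥K ≠ 0 := Nat.card_pos.ne'
    have hp : Nat.Prime 23 := by norm_num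
    have h1 := (hp.pow_dvd_iff_le_factorization hne (k := 1)).1 (by
      rw [pow_one]; exact hx' ▸ orderOf_dvd_natCard x')
    have h2 : ¬ 2 ≤ (Nat.card ↥K).factorization 23 := fun h => (oddPart_big hq).2
      ((by rw [← pow_two]; exact (hp.pow_dvd_iff_le_factorization hne).2 h : 23 * 23 ∣ _).trans hK)
    omega
  let X : Sylow 23 ↥K := Sylow.ofCard (zpowers x') (by rw [Nat.card_zpowers, hx', hfac, pow_one])
  have hX : (X : Subgroup ↥K) = zpowers x' := rfl
  set N : Subgroup ↥K := normalizer ((X : Subgroup ↥K) : Set ↥K) with hN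
  have hn : Nat.card (Sylow 23 ↥K) = N.index := Sylow.card_eq_index_normalizer X
  have hmod := card_sylow_modEq_one 23 ↥K
  rw [hn] at hmod
  have hNdvd : N.index ∣ oddPart := N.index_dvd_card.trans hK
  have hprime : ∀ s ∈ bigList, ¬ s ∣ N.index := by
    intro s hs hd
    have hsK : s ∣ Nat.card ↥K := hd.trans N.index_dvd_card
    have := Fact.mk (prime_of_big hs)
    obtain ⟨y, hy⟩ := exists_prime_orderOf_dvd_card' s hsK
    have hyN : y ∈ N := by
      by_cases h23 : s = 23
      · subst h23
        exfalso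
        rw [Nat.ModEq, Nat.mod_eq_zero_of_dvd hd] at hmod
        norm_num at hmod
      · refine Subgroup.centralizer_le_normalizer _ ?_
        rw [hX, mem_centralizer_iff]
        intro w hw
        obtain ⟨i, rfl⟩ := mem_zpowers_iff.1 hw
        have hc : Commute y x' := Subtype.ext
          (central_of_ne K hK hs h23 y.2 (by rw [Subgroup.orderOf_coe, hy]) hxK).eq
        exact (hc.zpow_right i).symm.eq
    have h1 : s ∣ Nat.card ↥N := by
      have := orderOf_dvd_natCard (⟨y, hyN⟩ : ↥N)
      rwa [Subgroup.orderOf_mk, hy] at this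
    refine (oddPart_big hs).2 (Dvd.dvd.trans ?_ hK)
    rw [← N.card_mul_index]
    exact Nat.mul_dvd_mul h1 hd
  have hidx : N.index = 1 := by
    have hmem := mem_oddDivisors hNdvd
    have key : ∀ d ∈ oddDivisors, (∀ s ∈ bigList, d % s ≠ 0) → d % 23 = 1 → d = 1 := by decide +kernel
    exact key _ hmem (fun s hs h => hprime s hs (Nat.dvd_of_mod_eq_zero h)) hmod
  have hmem : (⟨k, hk⟩ : ↥K) ∈ N := (index_eq_one.1 hidx).symm ▸ mem_top _
  obtain ⟨i, hi⟩ := mem_zpowers_iff.1 (mem_normalizer_conj hmem (mem_zpowers x'))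
  exact ⟨i, congrArg Subtype.val hi⟩

/-- An element of `C(x)` of large prime order `q` spans the only subgroup of that order there. -/
theorem unique_in_centralizer (F : Facts G) {p q : ℕ} (hp : p ∈ bigList) (hq : q ∈ bigList) {x y w : G}
    (hx : orderOf x = p) (hy : orderOf y = q) (hw : orderOf w = q) (hxy : Commute x y) (hxw : Commute x w) :
    w ∈ zpowers y := by
  set K := centralizer ({x} : Set G) with hKdef
  have hK := F.centralizer_dvd hp hx
  have hyK : y ∈ K := mem_centralizer_singleton_iff.2 hxy.symm.eq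
  have hwK : w ∈ K := mem_centralizer_singleton_iff.2 hxw.symm.eq
  have := Fact.mk (prime_of_big hq)
  have hfac : (Nat.card ↥K).factorization q = 1 := by
    have hne : Nat.card ↥K ≠ 0 := Nat.card_pos.ne'
    have h1 := ((prime_of_big hq).pow_dvd_iff_le_factorization hne (k := 1)).1 (by
      rw [pow_one, ← hy, ← Subgroup.orderOf_mk y hyK]; exact orderOf_dvd_natCard _)
    have h2 : ¬ 2 ≤ (Nat.card ↥K).factorization q := fun h => (oddPart_big hq).2
      ((by rw [← pow_two]; exact ((prime_of_big hq).pow_dvd_iff_le_factorization hne).2 h : q * q ∣ _).trans hK)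
    omega
  let Y : Sylow q ↥K := Sylow.ofCard (zpowers ⟨y, hyK⟩)
    (by rw [Nat.card_zpowers, Subgroup.orderOf_mk, hy, hfac, pow_one])
  let W : Sylow q ↥K := Sylow.ofCard (zpowers ⟨w, hwK⟩)
    (by rw [Nat.card_zpowers, Subgroup.orderOf_mk, hw, hfac, pow_one])
  obtain ⟨g, hg⟩ := MulAction.exists_smul_eq ↥K Y W
  have hm : (⟨w, hwK⟩ : ↥K) ∈ (W : Subgroup ↥K) := mem_zpowers _
  rw [← hg, Sylow.smul_def, Sylow.pointwise_smul_def, Subgroup.mem_pointwise_smul_iff_inv_smul_mem] at hm
  obtain ⟨i, hi⟩ := mem_zpowers_iff.1 (show _ ∈ zpowers (⟨y, hyK⟩ : ↥K) from hm)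
  have hw' : w = (g : G) * y ^ i * (g : G)⁻¹ := by
    have h1 : (⟨w, hwK⟩ : ↥K) = g * (⟨y, hyK⟩ : ↥K) ^ i * g⁻¹ := by
      rw [hi, MulAut.smul_def, ← map_inv, MulAut.conj_apply]; group
    simpa using congrArg Subtype.val h1
  rw [hw', ← conj_zpow]
  exact zpow_mem (conj_mem_zpowers K hK hq hyK hy g.2) i

theorem normalizer_le_of_commute (F : Facts G) {p q : ℕ} (hp : p ∈ bigList) (hq : q ∈ bigList) {x y : G}
    (hx : orderOf x = p) (hy : orderOf y = q) (h : Commute x y) :
    normalizer (zpowers x : Set G) ≤ normalizer (zpowers y : Set G) := by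
  intro g hg
  obtain ⟨i, hi⟩ := mem_zpowers_iff.1 (mem_normalizer_conj hg (mem_zpowers x))
  have key : g * y * g⁻¹ ∈ zpowers y := by
    refine unique_in_centralizer F hp hq hx hy (by rw [← hy]; exact orderOf_injective (MulAut.conj g).toMonoidHom (MulAut.conj g).injective y) h ?_
    obtain ⟨j, hj⟩ := mem_zpowers_iff.1 (mem_normalizer_conj (inv_mem hg) (mem_zpowers x))
    have hx' : x = (g * x * g⁻¹) ^ j := by
      rw [conj_zpow, hj]; group
    rw [hx']
    exact (h.map (MulAut.conj g).toMonoidHom).zpow_left j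
  refine mem_normalizer_fintype (S := (zpowers y : Set G)) fun n hn => ?_
  obtain ⟨j, rfl⟩ := mem_zpowers_iff.1 hn
  rw [← conj_zpow]
  exact zpow_mem key j

/-- Commuting elements of large prime order have the same normalizer. -/
theorem normalizer_eq_of_commute (F : Facts G) {p q : ℕ} (hp : p ∈ bigList) (hq : q ∈ bigList) {x y : G}
    (hx : orderOf x = p) (hy : orderOf y = q) (h : Commute x y) :
    normalizer (zpowers x : Set G) = normalizer (zpowers y : Set G) :=
  le_antisymm (normalizer_le_of_commute F hp hq hx hy h) (normalizer_le_of_commute F hq hp hy hx h.symm)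

/-- The congruence options at an element of large prime order. -/
theorem options_mem (F : Facts G) {p : ℕ} (hp : p ∈ bigList) {x : G} (hx : orderOf x = p) :
    (Nat.card ↥(centralizer ({x} : Set G)), Nat.card ↥(normalizer (zpowers x : Set G))) ∈ options p := by
  have hpp := prime_of_big hp
  have := Fact.mk hpp
  have hcx : centralizer (zpowers x : Set G) = centralizer ({x} : Set G) := by
    rw [zpowers_eq_closure, centralizer_closure]
  have hle : centralizer (zpowers x : Set G) ≤ normalizer (zpowers x : Set G) :=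
    Subgroup.centralizer_le_normalizer _
  set φ := (zpowers x).normalizerMonoidHom with hφ
  have hker : Nat.card ↥φ.ker = Nat.card ↥(centralizer ({x} : Set G)) := by
    rw [hφ, normalizerMonoidHom_ker, ← hcx]
    exact Nat.card_congr (subgroupOfEquivOfLe hle).toEquiv
  have hidx : φ.ker.index ∣ p - 1 := by
    rw [index_ker]
    have h := φ.range.card_subgroup_dvd_card
    rwa [IsCyclic.card_mulAut, Nat.card_zpowers, hx, Nat.totient_prime hpp] at h
  have hN : Nat.card ↥(normalizer (zpowers x : Set G)) =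
      Nat.card ↥(centralizer ({x} : Set G)) * φ.ker.index := by
    rw [← hker, card_mul_index]
  refine mem_options hp (F.centralizer_dvd hp hx) (hx ▸ orderOf_dvd_centralizer (Commute.refl x)) hidx hN
    (F.card ▸ card_subgroup_dvd_card _) ?_
  have hfac : (Nat.card G).factorization p = 1 := by
    have hd : p ∣ ordJ ∧ ¬ p ^ 2 ∣ ordJ := by clear * - hp; revert p; decide +kernel
    have hne : ordJ ≠ 0 := by norm_num [ordJ]
    have h1 := (hpp.pow_dvd_iff_le_factorization hne (k := 1)).1 (by rw [pow_one]; exact hd.1)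
    have h2 := mt (hpp.pow_dvd_iff_le_factorization hne (k := 2)).2 hd.2
    rw [F.card]; omega
  let U : Sylow p G := Sylow.ofCard (zpowers x) (by rw [Nat.card_zpowers, hx, hfac, pow_one])
  have h := card_sylow_modEq_one p G
  rw [Sylow.card_eq_index_normalizer U] at h
  have hidx' : (normalizer (zpowers x : Set G) : Subgroup G).index =
      ordJ / Nat.card ↥(normalizer (zpowers x : Set G)) := by
    rw [← F.card, ← card_mul_index (normalizer (zpowers x : Set G) : Subgroup G),
      Nat.mul_div_cancel_left _ Nat.card_pos]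
  rw [← hidx']
  exact Eq.trans h (Nat.mod_eq_of_lt hpp.one_lt)

/-- The possible pairs of orders at an element of large prime order. -/
theorem final_mem (F : Facts G) {p : ℕ} (hp : p ∈ bigList) {x : G} (hx : orderOf x = p) :
    (p, Nat.card ↥(centralizer ({x} : Set G)), Nat.card ↥(normalizer (zpowers x : Set G))) ∈ finalList := by
  refine options_final p hp _ (options_mem F hp hx) fun q hq hd => ?_
  have := Fact.mk (prime_of_big hq)
  obtain ⟨⟨y, hy⟩, hyo⟩ := exists_prime_orderOf_dvd_card' q (Nat.dvd_of_mod_eq_zero hd)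
  rw [Subgroup.orderOf_mk] at hyo
  have hc : Commute x y := (mem_centralizer_singleton_iff.1 hy).symm
  refine ⟨_, options_mem F hq hyo, ?_, ?_⟩
  · exact congrArg (fun S : Subgroup G => Nat.card ↥S) (normalizer_eq_of_commute F hp hq hx hyo hc).symm
  · exact Nat.mod_eq_zero_of_dvd (hx ▸ orderOf_dvd_centralizer hc.symm)

end Cfsg.Agent.J4Type.LargePrime
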