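import Cfsg.Agent.J4Type.Order.ZDefs
import Cfsg.Agent.J4Type.Order.ZData

/-!
# What is checked about the data
-/

set_option autoImplicit false
set_option maxRecDepth 100000

namespace Cfsg.Agent.J4Type.V11.AZ

open Cfsg.Agent.J4Type.Rep Cfsg.Agent.J4Type.Orbits

/-- The representative of a class. -/
noncomputable def sigOf (i : ℕ) : ℕ := sigP.getD i 0

/-- The involution with the given number; `6303` stands for the identity. -/
noncomputable def tauOf (r : ℕ) : ℕ := cond (Nat.beq r 6303) idP (get3 tabL r)

/-- An orbit of a centraliser is coherent and has the claimed count. -/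
noncomputable def orbOK (cp : List ℕ) (j : ℕ) (o : Orb) : Bool :=
  Nat.blt o.cls 4 && Nat.blt o.rep 6304 &&
    Nat.beq (mulP (wordP gensP o.word) (sigOf o.cls)) (mulP (tauOf o.rep) (wordP gensP o.word)) &&
    expOK (mulP (sigOf j) (tauOf o.rep)) o.k &&
    listsOK (sigOf j) (tauOf o.rep) (wordP gensP o.word) o (zTwo.getD j []) (zOne.getD j [])
      (tTwo.getD o.cls []) (tOne.getD o.cls []) &&
    treeK tabL cp o.edges (Nat.shiftLeft 1 o.rep) &&
    Nat.beq (pairSum qBits (oddB o.k) (innerB wP (mulP (sigOf j) (tauOf o.rep)) o.k) o.tA o.tB) o.val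

/-- The union of the points of orbits other than the identity. -/
noncomputable def orbUnion (os : List Orb) : ℕ :=
  List.rec (motive := fun _ => ℕ) 0
    (fun o _ r => cond (Nat.beq o.rep 6303) r (Nat.lor (reachL o.edges (Nat.shiftLeft 1 o.rep)) r)) os

/-- The number of points of orbits other than the identity. -/
noncomputable def orbPoints (os : List Orb) : ℕ :=
  List.rec (motive := fun _ => ℕ) 0
    (fun o _ r => cond (Nat.beq o.rep 6303) r (Nat.add (Nat.add 1 o.edges.length) r)) os

/-- The weighted total over all orbits. -/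
noncomputable def orbTotal (os : List Orb) : ℕ :=
  List.rec (motive := fun _ => ℕ) 0
    (fun o _ r => Nat.add (Nat.mul (Nat.add 1 o.edges.length) o.val) r) os

/-- Whether a code is among the listed ones. -/
noncomputable def memB (a : ℕ) (l : List ℕ) : Bool := l.any (Nat.beq a)

/-- The two weights of a class of a fibre. -/
noncomputable def wOf (B2 B1 a : ℕ) : ℕ := cond (bit B2 a) 2 (cond (bit B1 a) 1 0)

/-- The weight of the conjugates of `z` on a fibre. -/
noncomputable def zW (j a : ℕ) : ℕ := wOf (zTwoB.getD j 0) (zOneB.getD j 0) a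

/-- The weight of the other involutions on a fibre. -/
noncomputable def tW (j a : ℕ) : ℕ := wOf (tTwoB.getD j 0) (tOneB.getD j 0) a

/-- The weight lists are the bit sets. -/
noncomputable def wListsOK (j : ℕ) : Bool :=
  eqM (zTwo.getD j []) ((List.range 4096).filter (bit (zTwoB.getD j 0))) &&
    eqM (zOne.getD j []) ((List.range 4096).filter (bit (zOneB.getD j 0))) &&
    eqM (tTwo.getD j []) ((List.range 4096).filter (bit (tTwoB.getD j 0))) &&
    eqM (tOne.getD j []) ((List.range 4096).filter (bit (tOneB.getD j 0))) &&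
    ((List.range 4096).all fun a =>
      !(bit (zTwoB.getD j 0) a && bit (zOneB.getD j 0) a) && !(bit (tTwoB.getD j 0) a && bit (tOneB.getD j 0) a))

end Cfsg.Agent.J4Type.V11.AZ
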