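import Cfsg.Agent.J4Type.Order.ZPack
import Cfsg.Agent.J4Type.Order.ZCheckDefs
import Cfsg.Agent.J4Type.V11.Frame

/-!
# Fibres of `C(z) → V : Γ` in packed coordinates
-/

set_option autoImplicit false

open Cfsg Subgroup

namespace Cfsg.Agent.J4Type.V11.AZ

open LargeExtra (oc oc_le)
open Cfsg.Agent.J4Type.Rep Cfsg.Agent.J4Type.Orbits

variable {G : Type*} [Group G] [Finite G] {z : G} {P : Subgroup G} {V : Type*} [AddCommGroup V]
  {π : ↥(oc z) →* Multiplicative V} {ρ : ↥(mSub z P) →* Equiv.Perm V} {q : V → ZMod 2} {B : List V}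

/-- A map of the space has the packed code. -/
def Pk (B : List V) (γ : Equiv.Perm V) (x : ℕ) : Prop :=
  ∃ M, goodM M = true ∧ enc M = x ∧ PActs B γ M

/-- The element lies over the given linear and translation parts. -/
def Fib (z : G) (P : Subgroup G) (π : ↥(oc z) →* Multiplicative V) (ρ : ↥(mSub z P) →* Equiv.Perm V)
    (B : List V) (x a : ℕ) (h : G) : Prop :=
  h ∈ centralizer ({z} : Set G) ∧ Pk B (J4Type.lin ρ h) x ∧ trans π P h = Rep.lin B a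

/-- The number of elements of a fibre in a class. -/
noncomputable def fibNum (z : G) (P : Subgroup G) (π : ↥(oc z) →* Multiplicative V)
    (ρ : ↥(mSub z P) →* Equiv.Perm V) (B : List V) (u : G) (x a : ℕ) : ℕ :=
  Nat.card {h : G // Fib z P π ρ B x a h ∧ IsConj u h}

theorem Pk.lt {γ : Equiv.Perm V} {x : ℕ} (h : Pk B γ x) {r : ℕ} (hr : r < 4096) : mulP x r < 4096 := by
  obtain ⟨M, hM, rfl, -⟩ := h
  rw [mulP_app hM hr]
  exact app_lt_of_good hM r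

theorem Pk.apply {γ : Equiv.Perm V} {x : ℕ} (h : Pk B γ x) {r : ℕ} (hr : r < 4096) :
    γ (Rep.lin B r) = Rep.lin B (mulP x r) := by
  obtain ⟨M, hM, rfl, hact⟩ := h
  rw [mulP_app hM hr]
  exact hact r

theorem Pk.mul {γ δ : Equiv.Perm V} {x y : ℕ} (h : Pk B γ x) (k : Pk B δ y) :
    Pk B (γ * δ) (mulP x y) := by
  obtain ⟨M, hM, rfl, hM'⟩ := h
  obtain ⟨N, hN, rfl, hN'⟩ := k
  exact ⟨comp M N, good_comp hM hN, (mulP_comp hM hN).symm, hM'.mul hN'⟩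

section Sys

variable (S : Sys z P π ρ q B)
include S

/-- Every element of the linear group has a code. -/
theorem exists_pk {γ : Equiv.Perm V} (h : γ ∈ ρ.range) : ∃ x, Pk B γ x := by
  rw [S.M.gen] at h
  have h' := S.M.mem_closure_gens h
  clear h
  suffices ∃ M, goodM M = true ∧ PActs B γ M by
    obtain ⟨M, hM, hact⟩ := this
    exact ⟨enc M, M, hM, rfl, hact⟩
  induction h' using Submonoid.closure_induction with
  | mem x hx =>
    obtain ⟨M, hm, k⟩ := hx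
    have hg := gens_good
    simp only [Bool.and_eq_true] at hg
    simp only [allGens, List.mem_cons, List.not_mem_nil, or_false] at hm
    rcases hm with rfl | rfl | rfl | rfl
    exacts [⟨_, hg.1.1.1.1.1, k⟩, ⟨_, hg.1.1.1.1.2, k⟩, ⟨_, hg.1.1.1.2, k⟩, ⟨_, hg.1.1.2, k⟩]
  | one => exact ⟨idM, good_idM, S.M.acts_idM⟩
  | mul x y _ _ hx hy =>
    obtain ⟨M, hM, hx⟩ := hx
    obtain ⟨N, hN, hy⟩ := hy
    exact ⟨comp M N, good_comp hM hN, hx.mul hy⟩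

theorem pk_one : Pk B 1 idP :=
  ⟨idM, good_idM, by decide +kernel, S.M.acts_idM⟩

theorem Pk.unique {γ : Equiv.Perm V} {x y : ℕ} (h : Pk B γ x) (k : Pk B γ y) : x = y := by
  obtain ⟨M, hM, rfl, hM'⟩ := h
  obtain ⟨N, hN, rfl, hN'⟩ := k
  rw [S.M.code_unique hM' hN' hM hN]

theorem Pk.inj {γ δ : Equiv.Perm V} {x : ℕ} (h : Pk B γ x) (k : Pk B δ x) : γ = δ := by
  obtain ⟨M, hM, rfl, hM'⟩ := h
  obtain ⟨N, hN, e, hN'⟩ := k
  rw [enc_inj hN hM e] at hN'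
  exact S.M.acts_eq hM' hN'

theorem fib_mul {x y a b : ℕ} {g h : G} (hg : Fib z P π ρ B x a g) (hh : Fib z P π ρ B y b h)
    (hb : b < 4096) : Fib z P π ρ B (mulP x y) (a ^^^ mulP x b) (g * h) := by
  obtain ⟨hl, ht⟩ := S.D.lin_mul hg.1 hh.1
  refine ⟨mul_mem hg.1 hh.1, hl ▸ hg.2.1.mul hh.2.1, ?_⟩
  rw [ht, hg.2.2, hh.2.2, hg.2.1.apply hb, S.M.lin_add]

theorem fib_inj_code {x y a b : ℕ} {h : G} (hg : Fib z P π ρ B x a h) (hh : Fib z P π ρ B y b h)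
    (ha : a < 4096) (hb : b < 4096) : x = y ∧ a = b :=
  ⟨Pk.unique S hg.2.1 hh.2.1, S.lin_lt_inj ha hb (hg.2.2.symm.trans hh.2.2)⟩

/-- Every element of `C(z)` has a linear code and a translation code. -/
theorem exists_code_of_mem {h : G} (hh : h ∈ centralizer ({z} : Set G)) :
    ∃ x a, a < 4096 ∧ Fib z P π ρ B x a h ∧ J4Type.lin ρ h ∈ ρ.range := by
  obtain ⟨a, ha, ea⟩ := S.M.code_cases (trans π P h)
  have hl := S.D.lin_mem hh
  obtain ⟨x, hx⟩ := exists_pk S hl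
  exact ⟨x, a, ha, ⟨hh, hx, ea.symm⟩, hl⟩

/-- An element over a map of the group and any vector. -/
theorem exists_fib {γ : Equiv.Perm V} (hγ : γ ∈ ρ.range) {x : ℕ} (hx : Pk B γ x) (a : ℕ) :
    ∃ h, Fib z P π ρ B x a h := by
  obtain ⟨n, hn, rfl⟩ := S.lift hγ
  obtain ⟨e, he, hev⟩ := S.exists_code a
  obtain ⟨h1, h2⟩ := S.D.parts he hn
  exact ⟨e * n, mul_mem (oc_le z he) hn.1, h1 ▸ hx, h2.trans hev⟩

/-- A fibre has two elements. -/
theorem fib_pair {x a : ℕ} {g h : G} (hg : Fib z P π ρ B x a g) (hh : Fib z P π ρ B x a h) :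
    h = g ∨ h = g * z := by
  have hgi := (centralizer ({z} : Set G)).inv_mem hg.1
  have hl : J4Type.lin ρ (g⁻¹ * h) = 1 := by
    rw [(S.D.lin_mul hgi hh.1).1, S.D.lin_inv hg.1, Pk.inj S hg.2.1 hh.2.1, inv_mul_cancel]
  have hk : g⁻¹ * h ∈ oc z := (S.D.lin_eq_one (mul_mem hgi hh.1)).1 hl
  obtain ⟨h1, h2⟩ := S.D.lin_oc hk
  have h3 := (S.D.lin_mul hg.1 (oc_le z hk)).2
  rw [mul_inv_cancel_left, hh.2.2, hg.2.2, h2, left_eq_add] at h3
  have h4 : vec π (g⁻¹ * h) = 0 := by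
    refine (J4Type.lin ρ g).injective (h3.trans ?_)
    have h0 := S.D.lin_add hg.1 0 0
    rw [add_zero, left_eq_add] at h0
    exact h0.symm
  rcases (S.D.vec_eq_zero hk).1 h4 with e | e
  · exact Or.inl (inv_mul_eq_one.1 e).symm
  · exact Or.inr (inv_mul_eq_iff_eq_mul.1 e)

theorem fib_mul_z {x a : ℕ} {g : G} (hg : Fib z P π ρ B x a g) : Fib z P π ρ B x a (g * z) := by
  obtain ⟨h1, h2⟩ := S.D.lin_oc S.D.z_mem
  obtain ⟨h3, h4⟩ := S.D.lin_mul hg.1 (oc_le z S.D.z_mem)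
  refine ⟨mul_mem hg.1 (oc_le z S.D.z_mem), by rw [h3, h1, mul_one]; exact hg.2.1, ?_⟩
  rw [h4, hg.2.2, h2, S.D.vec_z]
  have h0 := S.D.lin_add hg.1 0 0
  rw [add_zero, left_eq_add] at h0
  rw [h0, add_zero]

/-- Conjugation carries fibres to fibres. -/
theorem fib_conj {c x x' a v : ℕ} {n h : G} (hn : Fib z P π ρ B c v n) (hh : Fib z P π ρ B x a h)
    (ha : a < 4096) (hv : v < 4096) (hcx : mulP c x = mulP x' c) (hx' : ∃ δ, Pk B δ x') :
    Fib z P π ρ B x' (mulP c a ^^^ v ^^^ mulP x' v) (n * h * n⁻¹) := by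
  obtain ⟨δ, hδ⟩ := hx'
  have hni := (centralizer ({z} : Set G)).inv_mem hn.1
  have hm := mul_mem hn.1 hh.1
  obtain ⟨h1, h2⟩ := S.D.lin_mul hn.1 hh.1
  obtain ⟨h3, h4⟩ := S.D.lin_mul hm hni
  have e1 : J4Type.lin ρ n * J4Type.lin ρ h = δ * J4Type.lin ρ n :=
    Pk.inj S (hn.2.1.mul hh.2.1) (hcx ▸ hδ.mul hn.2.1)
  have e2 : J4Type.lin ρ (n * h * n⁻¹) = δ := by
    rw [h3, h1, S.D.lin_inv hn.1, e1, mul_inv_cancel_right]
  refine ⟨mul_mem hm hni, e2 ▸ hδ, ?_⟩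
  have e3 : J4Type.lin ρ (n * h) (trans π P n⁻¹) = δ (Rep.lin B v) := by
    have h5 := (S.D.lin_mul hn.1 hni).2
    rw [mul_inv_cancel, (S.D.lin_oc (one_mem _)).2, vec_one] at h5
    have h6 : J4Type.lin ρ n (trans π P n⁻¹) = Rep.lin B v := by
      calc _ = trans π P n + (trans π P n + J4Type.lin ρ n (trans π P n⁻¹)) := by
            rw [← add_assoc, S.D.two, zero_add]
        _ = Rep.lin B v := by rw [← h5, add_zero, hn.2.2]
    rw [h1, e1, Equiv.Perm.mul_apply, h6]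
  rw [h4, e3, h2, hn.2.2, hh.2.2, hn.2.1.apply ha, hδ.apply hv, S.M.lin_add, S.M.lin_add,
    Nat.xor_comm v (mulP c a)]

/-- Conjugate fibres have the same numbers in every class. -/
theorem fibNum_conj {c x x' a v : ℕ} {n : G} (hn : Fib z P π ρ B c v n) (ha : a < 4096) (hv : v < 4096)
    (hcx : mulP c x = mulP x' c) (hx' : ∃ δ, Pk B δ x') (hx : ∃ δ ∈ ρ.range, Pk B δ x) (u : G) :
    fibNum z P π ρ B u x' (mulP c a ^^^ v ^^^ mulP x' v) = fibNum z P π ρ B u x a := by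
  obtain ⟨γ, hγ, hx⟩ := hx
  obtain ⟨h₀, hh₀⟩ := exists_fib S hγ hx a
  symm
  refine Nat.card_congr (Equiv.ofBijective
    (fun h => ⟨n * h.1 * n⁻¹, fib_conj S hn h.2.1 ha hv hcx hx', h.2.2.trans (isConj_iff.2 ⟨n, rfl⟩)⟩)
    ⟨fun h k e => Subtype.ext (mul_left_cancel (mul_right_cancel (congrArg Subtype.val e))), ?_⟩)
  rintro ⟨k, hk, hku⟩
  have hz : n * z * n⁻¹ = z := mul_inv_eq_iff_eq_mul.2 (S.D.comm_z hn.1).eq
  refine ⟨⟨n⁻¹ * k * n, ?_, hku.trans (isConj_iff.2 ⟨n⁻¹, by rw [inv_inv]⟩)⟩, Subtype.ext (by group)⟩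
  rcases fib_pair S (fib_conj S hn hh₀ ha hv hcx hx') hk with e | e
  · rw [e, show n⁻¹ * (n * h₀ * n⁻¹) * n = h₀ by group]; exact hh₀
  · rw [e, show n⁻¹ * (n * h₀ * n⁻¹ * z) * n = h₀ * (n⁻¹ * (n * z * n⁻¹) * n) by rw [hz]; group,
      show h₀ * (n⁻¹ * (n * z * n⁻¹) * n) = h₀ * z by group]
    exact fib_mul_z S hh₀

end Sys

end Cfsg.Agent.J4Type.V11.AZ
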