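import Cfsg.Agent.J4Type.Order.ZFibreDefs
import Cfsg.Agent.J4Type.Order.ZOrb2
import Cfsg.Agent.J4Type.Orbits.Checks

/-!
# The involutions of the linear group, the weights and the base orbits
-/

set_option autoImplicit false
set_option maxRecDepth 100000
set_option Elab.async false

namespace Cfsg.Agent.J4Type.V11.AZ

open Cfsg.Agent.J4Type.Rep Cfsg.Agent.J4Type.Orbits

theorem gens_eq : eqM gensP (allGens.map enc) = true := by decide +kernel

theorem wP_eq : Nat.beq wP (enc Wm) = true := by decide +kernel

theorem sig_eq : eqM sigP [enc (ql 5), enc (qList.getD 16 []), enc (qList.getD 17 []), enc idM] = true := by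
  decide +kernel

theorem idP_eq : Nat.beq idP (enc idM) = true := by decide +kernel

theorem qBits_ok : ((List.range 4096).all fun r => bit qBits r == Orbits.qb r) = true := by decide +kernel

theorem cent0_ok : (eqM centP0 (centW0.map (wordP gensP)) &&
    centP0.all fun c => Nat.beq (mulP c (sigOf 0)) (mulP (sigOf 0) c)) = true := by decide +kernel

theorem cent1_ok : (eqM centP1 (centW1.map (wordP gensP)) &&
    centP1.all fun c => Nat.beq (mulP c (sigOf 1)) (mulP (sigOf 1) c)) = true := by decide +kernel

theorem tab_incr : ((List.range 6302).all fun i => Nat.blt (get3 tabL i) (get3 tabL (i + 1))) = true := by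
  decide +kernel

theorem tab_enc : ((List.range 6303).all fun i => Nat.beq (enc (dec 12 (get3 tabL i))) (get3 tabL i)) = true := by
  decide +kernel

theorem class_seeds : ((List.range 3).all fun i =>
    Nat.blt (classEdges.getD i (0, [])).1 6303 &&
      Nat.beq (get3 tabL (classEdges.getD i (0, [])).1) (sigOf i)) = true := by decide +kernel

theorem class_trees : (classEdges.all fun e => treeK tabL gensP e.2 (Nat.shiftLeft 1 e.1)) = true := by
  decide +kernel

theorem class_union : Nat.beq (classEdges.foldl (fun r e => Nat.lor r (reachL e.2 (Nat.shiftLeft 1 e.1))) 0)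
    (Nat.shiftLeft 1 6303 - 1) = true := by decide +kernel

theorem class_sizes : eqM (classEdges.map fun e => e.2.length + 1) [1155, 990, 4158] = true := by decide +kernel

theorem short_fix : (Nat.beq (shortFix 0) 69 && Nat.beq (shortFix 1) 35 && Nat.beq (shortFix 2) 11) = true := by
  decide +kernel

theorem stab_invol : Nat.beq (693 * involCount (stabIn ++ stabOut)) (1155 * 69 + 990 * 35 + 4158 * 11) = true := by
  decide +kernel

theorem wLists_ok : ((List.range 4).all wListsOK) = true := by decide +kernel

theorem orbs2_ok : orbs2.all (orbOK [] 3) = true := by decide +kernel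

theorem orbs2_shape : (orbs2.all fun o => o.edges.isEmpty && (Nat.beq o.cls 3 && Nat.beq o.rep 6303 ||
    Nat.blt o.cls 3 && Nat.beq o.rep (classEdges.getD o.cls (0, [])).1)) = true := by decide +kernel

end Cfsg.Agent.J4Type.V11.AZ
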