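import Cfsg.Agent.J4Type.Order.ZFibreDefs
import Cfsg.Agent.J4Type.Order.ZOrb0
import Cfsg.Agent.J4Type.Order.ZOrb1
import Cfsg.Agent.J4Type.Order.ZOrb2

/-!
# Small checks for the count
-/

set_option autoImplicit false
set_option maxRecDepth 100000
set_option Elab.async false

namespace Cfsg.Agent.J4Type.V11.AZ

open Cfsg.Agent.J4Type.Rep Cfsg.Agent.J4Type.Orbits

/-- Fixed fibres carry involutions except over the vectors of value one of the inner class. -/
noncomputable def weightRule (j a : ℕ) : Bool :=
  !fixB j a || (noW j a == (Nat.beq j 0 && bit qBits a))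

/-- The commutation with the scalar marks the inner class. -/
noncomputable def innerRule (j i : ℕ) : Bool :=
  Nat.beq (mulP (get3 tabL i) wP) (mulP wP (get3 tabL i)) == Nat.beq j 0

theorem weight_rule : ((List.range 3).all fun j => (List.range 4096).all (weightRule j)) = true := by
  decide +kernel

theorem no_z_two : ((List.range 4096).all fun a => Nat.beq (zW 2 a) 0) = true := by decide +kernel

theorem inner_rule : ((List.range 3).all fun j => (innerRule j (classEdges.getD j (0, [])).1 &&
    (classEdges.getD j (0, [])).2.all fun e => innerRule j e.1)) = true := by decide +kernel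

theorem one_last : ((orbs0.filter fun o => Nat.beq o.rep 6303).map (·.edges.length) == [0] &&
    (orbs1.filter fun o => Nat.beq o.rep 6303).map (·.edges.length) == [0]) = true := by decide +kernel

theorem orb_words : ((orbs0 ++ orbs1 ++ orbs2).all fun o => o.word.all fun k => Nat.blt k 4) = true := by
  decide +kernel

theorem orbs2_vals : eqM (orbs2.map Orb.val) [12288, 0, 81920, 1951488] = true := by decide +kernel

theorem orbs2_cls : eqM (orbs2.map Orb.cls) [0, 1, 2, 3] = true := by decide +kernel

end Cfsg.Agent.J4Type.V11.AZ
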