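import Cfsg.Agent.J4Type.Order.ZFibreDefs
import Cfsg.Agent.J4Type.Orbits.Checks

/-!
# The tables for the classes over each involution of the linear group
-/

set_option autoImplicit false
set_option maxRecDepth 100000
set_option Elab.async false

namespace Cfsg.Agent.J4Type.V11.AZ

open Cfsg.Agent.J4Type.Rep Cfsg.Agent.J4Type.Orbits

theorem move_ok : moveRows.all moveOK = true := by decide +kernel

theorem move_comm : ((List.range moveW.length).all fun i =>
    Nat.beq (mulP (wordP centP0 (moveW.getD i [])) (sigOf 0)) (mulP (sigOf 0) (wordP centP0 (moveW.getD i [])))) =
      true := by decide +kernel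

theorem inner_cover : (List.range 4096).all innerCover = true := by decide +kernel

theorem inner_w : (List.range 64).all innerW = true := by decide +kernel

theorem inner_k : kList.all innerK = true := by decide +kernel

theorem inner_sum : Nat.beq innerSum 24 = true := by decide +kernel

theorem short_fixK : (Nat.beq (shortFixK 0) 17 && Nat.beq (shortFixK 1) 19 && Nat.beq (shortFixK 2) 11) = true := by
  decide +kernel

theorem vec_ok : (List.range 4096).all vecOK = true := by decide +kernel

theorem trans1_ok : (List.range 4096).all (transCover 1 transRows1) = true := by decide +kernel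

theorem trans2_ok : (List.range 4096).all (transCover 2 transRows2) = true := by decide +kernel

theorem core_ok : (List.range 4096).all coreW = true := by decide +kernel

theorem outer_base : (Nat.beq (zW 1 0) 1 && Nat.beq (tW 1 0) 1 && Nat.beq (zW 2 0) 0 && Nat.beq (tW 2 0) 2) =
    true := by decide +kernel

end Cfsg.Agent.J4Type.V11.AZ
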