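import Cfsg.Agent.J4Type.Order.ZCheckDefs
import Cfsg.Agent.J4Type.Order.ZOrb0

/-!
# The orbits of the centraliser of an inner involution
-/

set_option autoImplicit false
set_option maxRecDepth 100000
set_option Elab.async false

namespace Cfsg.Agent.J4Type.V11.AZ

theorem orbs0_ok : orbs0.all (orbOK centP0 0) = true := by decide +kernel

theorem orbs0_union : Nat.beq (orbUnion orbs0) (Nat.shiftLeft 1 6303 - 1) = true := by decide +kernel

theorem orbs0_points : orbPoints orbs0 = 6303 := by decide +kernel

theorem orbs0_total : orbTotal orbs0 = 24701968 := by decide +kernel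

end Cfsg.Agent.J4Type.V11.AZ
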