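import Cfsg.Agent.J4Type.Order.ZCheckDefs
import Cfsg.Agent.J4Type.V11.Defs

/-!
# Checkers for the classes of the involutions over each involution of the linear group
-/

set_option autoImplicit false
set_option maxRecDepth 100000

namespace Cfsg.Agent.J4Type.V11.AZ

open Cfsg.Agent.J4Type.Rep Cfsg.Agent.J4Type.Orbits

/-- The polar form from the table of the form. -/
noncomputable def bvB (a b : ℕ) : Bool :=
  Bool.xor (bit qBits (Nat.xor a b)) (Bool.xor (bit qBits a) (bit qBits b))

/-- Whether a vector is fixed by a representative. -/
noncomputable def fixB (j a : ℕ) : Bool := Nat.beq (mulP (sigOf j) a) a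

/-- No weight at all. -/
noncomputable def noW (j a : ℕ) : Bool := Nat.beq (zW j a) 0 && Nat.beq (tW j a) 0

/-- The weights agree. -/
noncomputable def sameW (j a b : ℕ) : Bool := Nat.beq (zW j a) (zW j b) && Nat.beq (tW j a) (tW j b)

/-- The number of conjugates of `z` among the two codes of the group over a vector of the fixed space. -/
noncomputable def wCount (k : ℕ) : ℕ :=
  Nat.add (cond (tB 370 (640 + k)) 0 1) (cond (tB 370 (704 + k)) 0 1)

/-- A moved fibre over the inner representative lands in a known one. -/
noncomputable def moveOK (e : ℕ × ℕ × ℕ) : Bool :=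
  Nat.blt e.1 4096 && Nat.blt e.2.1 moveW.length && Nat.blt e.2.2 4096 &&
    sameW 0 e.1 (Nat.xor (mulP (wordP centP0 (moveW.getD e.2.1 [])) e.1)
      (Nat.xor e.2.2 (mulP (sigOf 0) e.2.2))) &&
    (inW (Nat.xor (mulP (wordP centP0 (moveW.getD e.2.1 [])) e.1) (Nat.xor e.2.2 (mulP (sigOf 0) e.2.2))) ||
      memB (Nat.xor (mulP (wordP centP0 (moveW.getD e.2.1 [])) e.1) (Nat.xor e.2.2 (mulP (sigOf 0) e.2.2)))
        kList)

/-- The fibres over the inner representative are covered. -/
noncomputable def innerCover (a : ℕ) : Bool :=
  cond (bit qBits a || !fixB 0 a) (noW 0 a) (moveRows.any fun e => Nat.beq e.1 a)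

/-- The fibres over the inner representative in the fixed space of the hexad group. -/
noncomputable def innerW (k : ℕ) : Bool :=
  !fixB 0 (wv k) || bit qBits (wv k) ||
    (Nat.beq (zW 0 (wv k)) (wCount k) && Nat.beq (Nat.add (zW 0 (wv k)) (tW 0 (wv k))) 2)

/-- The fibres over the inner representative in the kernel set outside the fixed space. -/
noncomputable def innerK (r : ℕ) : Bool :=
  !fixB 0 r || inW r || (Nat.beq (zW 0 r) 0 && Nat.beq (tW 0 r) 2)

/-- The conjugates of `z` over the inner representative in the fixed space inside the kernel set. -/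
noncomputable def innerSum : ℕ :=
  List.rec (motive := fun _ => ℕ) 0
    (fun r _ s => cond (fixB 0 r && inW r) (Nat.add (wCount (wc r)) s) s) kList

/-- The points of the short orbit in the kernel set fixed by a representative. -/
noncomputable def shortFixK (j : ℕ) : ℕ :=
  (kList.filter fun r => bit Short.orbBits r && fixB j r).length

/-- The points of the short orbit in the kernel set orthogonal to a vector. -/
noncomputable def shortPerpK (v : ℕ) : ℕ :=
  (kList.filter fun r => bit Short.orbBits r && !bvB v r).length

/-- The points of the short orbit among the sums with the orthogonal part of the kernel set. -/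
noncomputable def shortSumK (v : ℕ) : ℕ :=
  (kList.filter fun r => !bvB v r && bit Short.orbBits (Nat.xor v r)).length

/-- The facts on a vector orthogonal to the base point, outside the kernel set. -/
noncomputable def vecOK (v : ℕ) : Bool :=
  bit qBits v || bvB Short.v0 v || memB v kList ||
    ((!Nat.beq (shortPerpK v) 11 || bit Long.orbBits v) &&
      (!Nat.beq (shortPerpK v) 19 ||
        Bool.xor (bit Short.orbBits v) (bit Short.orbBits (Nat.xor v Short.v0))) &&
      (!Nat.beq (shortPerpK v) 17 || !bit Long.orbBits v || Nat.beq (shortSumK v) 12))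

/-- The fibres over an outer representative are translates of the base one. -/
noncomputable def transCover (j : ℕ) (rows : List (ℕ × ℕ)) (a : ℕ) : Bool :=
  cond (fixB j a)
    (sameW j a 0 && rows.any fun e => Nat.beq e.1 a && Nat.blt e.2 4096 &&
      Nat.beq (Nat.xor e.2 (mulP (sigOf j) e.2)) a)
    (noW j a)

/-- The fibres inside the 2-core. -/
noncomputable def coreW (a : ℕ) : Bool :=
  cond (Nat.beq a 0) (Nat.beq (zW 3 a) 1 && Nat.beq (tW 3 a) 0)
    (cond (bit qBits a) (noW 3 a)
      (cond (bit Short.orbBits a) (Nat.beq (zW 3 a) 2 && Nat.beq (tW 3 a) 0)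
        (bit Long.orbBits a && Nat.beq (zW 3 a) 0 && Nat.beq (tW 3 a) 2)))

/-- The fixed points of a representative on the short orbit. -/
noncomputable def shortFix (j : ℕ) : ℕ :=
  ((List.range 4096).filter fun r => bit Short.orbBits r && fixB j r).length

/-- The involutions among the listed maps. -/
noncomputable def involCount (l : List (List ℕ)) : ℕ :=
  (l.filter fun M => !eqM M idM && Nat.beq (mulP (enc M) (enc M)) idP).length

end Cfsg.Agent.J4Type.V11.AZ
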