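import Cfsg.Agent.J4Type.Order.ZCheckDefs
import Mathlib.Algebra.BigOperators.Group.Finset.Basic

/-!
# Certified trees and partitions of the numbers below `6303`
-/

set_option autoImplicit false

namespace Cfsg.Agent.J4Type.V11.AZ

open Cfsg.Agent.J4Type.Rep Cfsg.Agent.J4Type.Orbits

/-- The points of a tree with the given seed. -/
def pts (r : ℕ) (es : List (ℕ × ℕ × ℕ)) : List ℕ := r :: es.map Prod.fst

theorem reachL_cons (e : ℕ × ℕ × ℕ) (es : List (ℕ × ℕ × ℕ)) (s : ℕ) :
    reachL (e :: es) s = reachL es (Nat.lor s (Nat.shiftLeft 1 e.1)) := rfl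

theorem bit_reach : ∀ {es : List (ℕ × ℕ × ℕ)} {seen i : ℕ}, bit (reachL es seen) i = true →
    bit seen i = true ∨ i ∈ es.map Prod.fst
  | [], _, _, h => Or.inl h
  | e :: es, seen, i, h => by
    rw [reachL_cons] at h
    rcases bit_reach h with h | h
    · rcases bit_insert.1 h with h | h
      · exact Or.inl h
      · exact Or.inr (by rw [h]; exact List.mem_cons_self)
    · exact Or.inr (List.mem_cons_of_mem _ h)

theorem bit_one {r i : ℕ} (h : bit (Nat.shiftLeft 1 r) i = true) : i = r := by
  have h' := bit_insert (n := 0) (r := r) (s := i)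
  rw [show Nat.lor 0 (Nat.shiftLeft 1 r) = Nat.shiftLeft 1 r from Nat.zero_or _] at h'
  exact (h'.1 h).resolve_left (by simp [bit_iff])

theorem bit_lor {a b i : ℕ} : bit (Nat.lor a b) i = true ↔ bit a i = true ∨ bit b i = true := by
  rw [bit_iff, bit_iff, bit_iff, show Nat.lor a b = a ||| b from rfl, Nat.testBit_or, Bool.or_eq_true]

theorem bit_all {i : ℕ} (hi : i < 6303) : bit (Nat.shiftLeft 1 6303 - 1) i = true := by
  rw [bit_iff, show Nat.shiftLeft 1 6303 = 2 ^ 6303 from Nat.one_shiftLeft 6303, Nat.testBit_two_pow_sub_one,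
    decide_eq_true hi]

theorem treeK_sound {gs : List ℕ} {Q : ℕ → Prop}
    (hQ : ∀ c p k, c < 6303 → k < gs.length →
      mulP (gs.getD k 0) (get3 tabL p) = mulP (get3 tabL c) (gs.getD k 0) → Q p → Q c) :
    ∀ {es : List (ℕ × ℕ × ℕ)} {seen : ℕ}, treeK tabL gs es seen = true →
      (∀ s, bit seen s = true → Q s) → ∀ s ∈ es.map Prod.fst, Q s
  | [], _, _, _, s, hs => absurd hs List.not_mem_nil
  | e :: es, seen, h, h0, s, hs => by
    have h' : (bit seen e.2.1 && edgeOK tabL gs e &&
        treeK tabL gs es (Nat.lor seen (Nat.shiftLeft 1 e.1))) = true := h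
    simp only [edgeOK, Bool.and_eq_true, Nat.blt_eq, decide_eq_true_eq] at h'
    obtain ⟨⟨hp, ⟨hc, hk⟩, he⟩, hr⟩ := h'
    have hq : Q e.1 := hQ _ _ _ hc hk (Nat.eq_of_beq_eq_true he) (h0 _ hp)
    rcases List.mem_cons.1 hs with rfl | hs
    · exact hq
    · refine treeK_sound hQ hr (fun t ht => ?_) s hs
      rcases bit_insert.1 ht with ht | rfl
      · exact h0 t ht
      · exact hq

/-- A list of the right length holding all numbers below the bound lists each of them once. -/
theorem sum_of_cover {l : List ℕ} (hlen : l.length = 6303) (hall : ∀ i < 6303, i ∈ l) (f : ℕ → ℕ) :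
    (l.map f).sum = ∑ i ∈ Finset.range 6303, f i := by
  have hsub : Finset.range 6303 ⊆ l.toFinset := fun i hi => List.mem_toFinset.2 (hall i (Finset.mem_range.1 hi))
  have heq : Finset.range 6303 = l.toFinset := Finset.eq_of_subset_of_card_le hsub
    (le_trans (List.toFinset_card_le l) (by rw [hlen, Finset.card_range]))
  have hnd : l.Nodup := by
    rw [← Multiset.coe_nodup, ← Multiset.toFinset_card_eq_card_iff_nodup, List.toFinset_coe, ← heq,
      Finset.card_range, Multiset.coe_card, hlen]
  rw [heq, List.sum_toFinset f hnd]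

theorem sum_map_const {α : Type*} {f : α → ℕ} {v : ℕ} : ∀ {l : List α}, (∀ x ∈ l, f x = v) →
    (l.map f).sum = l.length * v
  | [], _ => by simp
  | a :: l, h => by
    rw [List.map_cons, List.sum_cons, h a List.mem_cons_self,
      sum_map_const fun x hx => h x (List.mem_cons_of_mem a hx), List.length_cons]
    ring

/-- The points of the orbits other than the identity. -/
def opts : List Orb → List ℕ
  | [] => []
  | o :: os => if o.rep = 6303 then opts os else pts o.rep o.edges ++ opts os

theorem orbUnion_cons (o : Orb) (os : List Orb) : orbUnion (o :: os) =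
    cond (Nat.beq o.rep 6303) (orbUnion os)
      (Nat.lor (reachL o.edges (Nat.shiftLeft 1 o.rep)) (orbUnion os)) := rfl

theorem orbPoints_cons (o : Orb) (os : List Orb) : orbPoints (o :: os) =
    cond (Nat.beq o.rep 6303) (orbPoints os) (Nat.add (Nat.add 1 o.edges.length) (orbPoints os)) := rfl

theorem mem_opts : ∀ {os : List Orb} {i : ℕ}, bit (orbUnion os) i = true → i ∈ opts os
  | [], _, h => by simp [orbUnion, bit_iff] at h
  | o :: os, i, h => by
    rw [orbUnion_cons] at h
    rw [opts]
    by_cases e : o.rep = 6303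
    · rw [if_pos e]
      rw [show Nat.beq o.rep 6303 = true by rw [e]; rfl] at h
      exact mem_opts h
    · rw [if_neg e]
      cases hb : Nat.beq o.rep 6303
      · rw [hb] at h
        rcases bit_lor.1 h with h | h
        · refine List.mem_append_left _ ?_
          rcases bit_reach h with h | h
          · rw [bit_one h]; exact List.mem_cons_self
          · exact List.mem_cons_of_mem _ h
        · exact List.mem_append_right _ (mem_opts h)
      · exact absurd (Nat.eq_of_beq_eq_true hb) e

theorem length_opts : ∀ os : List Orb, (opts os).length = orbPoints os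
  | [] => rfl
  | o :: os => by
    rw [opts, orbPoints_cons]
    by_cases e : o.rep = 6303
    · rw [if_pos e, show Nat.beq o.rep 6303 = true by rw [e]; rfl, length_opts os]; rfl
    · rw [if_neg e, List.length_append, length_opts os]
      cases hb : Nat.beq o.rep 6303
      · show (pts o.rep o.edges).length + orbPoints os = 1 + o.edges.length + orbPoints os
        rw [pts, List.length_cons, List.length_map]; omega
      · exact absurd (Nat.eq_of_beq_eq_true hb) e

end Cfsg.Agent.J4Type.V11.AZ
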