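import Cfsg.Agent.J4Type.Order.ZPack
import Cfsg.Agent.J4Type.Order.ZTree
import Mathlib.Algebra.BigOperators.Group.Finset.Piecewise

/-!
# Sums over weighted lists and sums of powers of packed maps
-/

set_option autoImplicit false

namespace Cfsg.Agent.J4Type.V11.AZ

open Cfsg.Agent.J4Type.Rep Cfsg.Agent.J4Type.Orbits

theorem eqT_iff : ∀ {l m : List (ℕ × ℕ × ℕ)}, eqT l m = true → l = m
  | [], [], _ => rfl
  | [], b :: m, h => by simp [eqT] at h
  | a :: l, [], h => by simp [eqT] at h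
  | a :: l, b :: m, h => by
    simp only [eqT, Bool.and_eq_true] at h
    obtain ⟨⟨⟨h1, h2⟩, h3⟩, h4⟩ := h
    rw [eqT_iff h4, show a = b from Prod.ext (Nat.eq_of_beq_eq_true h1)
      (Prod.ext (Nat.eq_of_beq_eq_true h2) (Nat.eq_of_beq_eq_true h3))]

theorem rowSum_eq (qb : ℕ) (k i : Bool) (ta ha : ℕ) : ∀ TB : List (ℕ × ℕ × ℕ),
    rowSum qb k i ta ha TB = (TB.map fun e => if good qb k i ta ha e.1 e.2.1 then e.2.2 else 0).sum
  | [] => rfl
  | e :: TB => by
    show cond (good qb k i ta ha e.1 e.2.1) (Nat.add e.2.2 (rowSum qb k i ta ha TB)) (rowSum qb k i ta ha TB) = _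
    rw [List.map_cons, List.sum_cons, rowSum_eq qb k i ta ha TB]
    cases good qb k i ta ha e.1 e.2.1 <;> simp

theorem pairSum_eq (qb : ℕ) (k i : Bool) (TB : List (ℕ × ℕ × ℕ)) : ∀ TA : List (ℕ × ℕ × ℕ),
    pairSum qb k i TA TB = (TA.map fun e => e.2.2 * rowSum qb k i e.1 e.2.1 TB).sum
  | [] => rfl
  | e :: TA => by
    show Nat.add (Nat.mul e.2.2 (rowSum qb k i e.1 e.2.1 TB)) (pairSum qb k i TA TB) = _
    rw [List.map_cons, List.sum_cons, pairSum_eq qb k i TB TA]
    rfl

/-- A sum over the codes weighted by two bit sets. -/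
theorem sum_bits {L2 L1 : List ℕ} {B2 B1 : ℕ} (h2 : L2 = (List.range 4096).filter (bit B2))
    (h1 : L1 = (List.range 4096).filter (bit B1))
    (hd : ∀ a < 4096, ¬ (bit B2 a = true ∧ bit B1 a = true)) (F : ℕ → ℕ) :
    ∑ a ∈ Finset.range 4096, wOf B2 B1 a * F a =
      (L2.map fun a => 2 * F a).sum + (L1.map fun a => 1 * F a).sum := by
  have key : ∀ (L : List ℕ) (Bs : ℕ) (f : ℕ → ℕ), L = (List.range 4096).filter (bit Bs) →
      (L.map f).sum = ∑ a ∈ Finset.range 4096, if bit Bs a = true then f a else 0 := fun L Bs f hL => by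
    rw [← Finset.sum_filter, ← List.sum_toFinset f (hL ▸ List.nodup_range.filter _)]
    exact Finset.sum_congr (Finset.ext fun a => by simp [hL]) fun _ _ => rfl
  rw [key L2 B2 _ h2, key L1 B1 _ h1, ← Finset.sum_add_distrib]
  refine Finset.sum_congr rfl fun a ha => ?_
  have := hd a (Finset.mem_range.1 ha)
  unfold wOf
  cases hb : bit B2 a <;> cases hc : bit B1 a <;> simp_all

theorem enc_zip : ∀ {M N : List ℕ}, M.length = N.length → (∀ a ∈ M, a < 4096) → (∀ a ∈ N, a < 4096) →
    enc (List.zipWith (· ^^^ ·) M N) = enc M ^^^ enc N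
  | [], [], _, _, _ => by simp [enc_nil]
  | [], b :: N, h, _, _ => absurd h (by simp)
  | a :: M, [], h, _, _ => absurd h (by simp)
  | a :: M, b :: N, h, hM, hN => by
    have ha : a < 4096 := hM a List.mem_cons_self
    have hb : b < 4096 := hN b List.mem_cons_self
    rw [List.zipWith_cons_cons, enc_cons, enc_cons, enc_cons,
      enc_zip (by simpa using h) (fun x hx => hM x (List.mem_cons_of_mem a hx))
        (fun x hx => hN x (List.mem_cons_of_mem b hx))]
    refine Nat.eq_of_testBit_eq fun i => ?_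
    rw [Nat.testBit_xor, testBit_block ha, testBit_block hb, testBit_block (xor_lt ha hb)]
    split <;> simp [Nat.testBit_xor]

theorem app_zip : ∀ {M N : List ℕ}, M.length = N.length → ∀ r : ℕ,
    app (List.zipWith (· ^^^ ·) M N) r = app M r ^^^ app N r
  | [], [], _, r => by simp [app_nil]
  | [], b :: N, h, _ => absurd h (by simp)
  | a :: M, [], h, _ => absurd h (by simp)
  | a :: M, b :: N, h, r => by
    rw [List.zipWith_cons_cons, app_cons, app_cons, app_cons, app_zip (by simpa using h)]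
    split
    · rw [Nat.xor_assoc, Nat.xor_assoc, ← Nat.xor_assoc b, Nat.xor_comm b, Nat.xor_assoc (app M (r / 2))]
    · simp

/-- A packed linear map acting as the given function on the codes. -/
def Act (x : ℕ) (f : ℕ → ℕ) : Prop :=
  ∃ M, goodM M = true ∧ enc M = x ∧ ∀ r < 4096, app M r = f r

theorem Act.eval {x : ℕ} {f : ℕ → ℕ} (h : Act x f) {r : ℕ} (hr : r < 4096) :
    mulP x r = f r ∧ f r < 4096 := by
  obtain ⟨M, hM, rfl, hf⟩ := h
  rw [mulP_app hM hr, hf r hr]
  exact ⟨rfl, hf r hr ▸ app_lt_of_good hM r⟩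

theorem Act.linear {x : ℕ} {f : ℕ → ℕ} (h : Act x f) {r s : ℕ} (hr : r < 4096) (hs : s < 4096) :
    mulP x (r ^^^ s) = mulP x r ^^^ mulP x s := by
  obtain ⟨M, hM, rfl, -⟩ := h
  rw [mulP_app hM hr, mulP_app hM hs, mulP_app hM (xor_lt hr hs), app_xor]

theorem act_zero : Act 0 fun _ => 0 :=
  ⟨List.replicate 12 0, by decide +kernel, by decide +kernel, fun r _ => by simp [List.replicate, app_cons, app_nil]⟩

theorem sum_zero (R : ℕ) : sumP R 0 = 0 := rfl

theorem sum_succ (R k : ℕ) : sumP R (k + 1) = idP ^^^ mulP R (sumP R k) := rfl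

theorem powP_zero (R : ℕ) : powP R 0 = idP := rfl

theorem powP_succ (R k : ℕ) : powP R (k + 1) = mulP R (powP R k) := rfl

/-- The sums of powers act as such. -/
theorem act_sum {R : ℕ} {M : List ℕ} (hM : goodM M = true) (hR : enc M = R) :
    ∀ k, ∃ f, Act (sumP R k) f
  | 0 => ⟨_, act_zero⟩
  | k + 1 => by
    obtain ⟨f, N, hN, hNe, -⟩ := act_sum hM hR k
    have hc := good_comp hM hN
    obtain ⟨hl, hlt⟩ := good_data hc
    obtain ⟨hil, hilt⟩ := good_data good_idM
    refine ⟨_, List.zipWith (· ^^^ ·) idM (comp M N), ?_, ?_, fun r _ => rfl⟩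
    · rw [goodM_iff]
      refine ⟨by rw [List.length_zipWith, hil, hl]; rfl, fun a ha => ?_⟩
      obtain ⟨i, hi, rfl⟩ := List.getElem_of_mem ha
      rw [List.getElem_zipWith]
      exact xor_lt (hilt _ (List.getElem_mem _)) (hlt _ (List.getElem_mem _))
    · rw [enc_zip (by rw [hil, hl]) hilt hlt, sum_succ, ← hR, ← mulP_comp hM hN, hR, hNe]
      rfl

/-- The step of the sum. -/
theorem sum_step {R : ℕ} {M : List ℕ} (hM : goodM M = true) (hR : enc M = R) (k : ℕ) {r : ℕ} (hr : r < 4096) :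
    mulP (sumP R (k + 1)) r = r ^^^ mulP R (mulP (sumP R k) r) := by
  obtain ⟨f, N, hN, hNe, -⟩ := act_sum hM hR k
  have hc := good_comp hM hN
  obtain ⟨hl, hlt⟩ := good_data hc
  obtain ⟨hil, hilt⟩ := good_data good_idM
  have hz : goodM (List.zipWith (· ^^^ ·) idM (comp M N)) = true := by
    rw [goodM_iff]
    refine ⟨by rw [List.length_zipWith, hil, hl]; rfl, fun a ha => ?_⟩
    obtain ⟨i, hi, rfl⟩ := List.getElem_of_mem ha
    rw [List.getElem_zipWith]
    exact xor_lt (hilt _ (List.getElem_mem _)) (hlt _ (List.getElem_mem _))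
  have e : sumP R (k + 1) = enc (List.zipWith (· ^^^ ·) idM (comp M N)) := by
    rw [enc_zip (by rw [hil, hl]) hilt hlt, sum_succ, ← hR, ← mulP_comp hM hN, hR, hNe]
    rfl
  rw [e, mulP_app hz hr, app_zip (by rw [hil, hl]), app_idM r hr, ← hNe, ← hR, mulP_app hN hr,
    mulP_app hM (app_lt_of_good hN r)]
  exact congrArg (r ^^^ ·) (app_app M N r)

end Cfsg.Agent.J4Type.V11.AZ
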