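import Cfsg.Agent.J4Type.Order.ZModel
import Cfsg.Agent.J4Type.Order.ZSums
import Cfsg.Agent.J4Type.Order.ZFibreDefs
import Cfsg.Agent.J4Type.Order.ZChecksCount
import Cfsg.Agent.J4Type.Order.Glue

/-!
# When the product of two involutions has the central involution as a power
-/

set_option autoImplicit false

open Cfsg Subgroup

namespace Cfsg.Agent.J4Type.V11.AZ

open LargeExtra (oc oc_le)
open Cfsg.Agent.J4Type.Rep Cfsg.Agent.J4Type.Orbits

variable {G : Type*} [Group G] [Finite G] {z : G} {P : Subgroup G} {V : Type*} [AddCommGroup V]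
  {π : ↥(oc z) →* Multiplicative V} {ρ : ↥(mSub z P) →* Equiv.Perm V} {q : V → ZMod 2} {B : List V}

/-- The classes of the involutions over each representative. -/
structure ClassData (z : G) (P : Subgroup G) (π : ↥(oc z) →* Multiplicative V)
    (ρ : ↥(mSub z P) →* Equiv.Perm V) (B : List V) (t : G) : Prop where
  /-- the conjugates of `z` -/
  z_num : ∀ j < 4, ∀ a < 4096, fibNum z P π ρ B z (sigOf j) a = zW j a
  /-- the other involutions -/
  t_num : ∀ j < 4, ∀ a < 4096, fibNum z P π ρ B t (sigOf j) a = tW j a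

section Sys

variable (S : Sys z P π ρ q B)
include S

theorem Pk.assoc {γ δ : Equiv.Perm V} {x y r : ℕ} (hx : Pk B γ x) (hy : Pk B δ y) (hr : r < 4096) :
    mulP (mulP x y) r = mulP x (mulP y r) := by
  refine S.lin_lt_inj ((hx.mul hy).lt hr) (hx.lt (hy.lt hr)) ?_
  rw [← (hx.mul hy).apply hr, Equiv.Perm.mul_apply, hy.apply hr, hx.apply (hy.lt hr)]

theorem Pk.zero {γ : Equiv.Perm V} {x : ℕ} (hx : Pk B γ x) : mulP x 0 = 0 := by
  obtain ⟨M, hM, rfl, -⟩ := hx
  rw [mulP_app hM (by norm_num), Rep.app_zero]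

theorem Pk.linear {γ : Equiv.Perm V} {x : ℕ} (hx : Pk B γ x) {r s : ℕ} (hr : r < 4096) (hs : s < 4096) :
    mulP x (r ^^^ s) = mulP x r ^^^ mulP x s := by
  obtain ⟨M, hM, rfl, -⟩ := hx
  rw [mulP_app hM hr, mulP_app hM hs, mulP_app hM (xor_lt hr hs), app_xor]

theorem fib_one : Fib z P π ρ B idP 0 (1 : G) := by
  obtain ⟨h1, h2⟩ := S.D.lin_oc (one_mem (oc z))
  exact ⟨one_mem _, h1 ▸ pk_one S, by rw [h2, vec_one, Rep.lin_zero]⟩

theorem sum_lt {R : ℕ} {γ : Equiv.Perm V} (hR : Pk B γ R) (k : ℕ) {c : ℕ} (hc : c < 4096) :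
    mulP (sumP R k) c < 4096 := by
  obtain ⟨M, hM, rfl, -⟩ := hR
  obtain ⟨f, hf⟩ := act_sum hM rfl k
  rw [(hf.eval hc).1]
  exact (hf.eval hc).2

/-- The powers of an element of a fibre. -/
theorem fib_pow {R c : ℕ} {r : G} (hr : Fib z P π ρ B R c r) (hc : c < 4096) :
    ∀ k, Fib z P π ρ B (powP R k) (mulP (sumP R k) c) (r ^ k)
  | 0 => by
    rw [sum_zero, (act_zero.eval hc).1, powP_zero R, pow_zero]
    exact fib_one S
  | k + 1 => by
    have h := fib_mul S hr (fib_pow hr hc k) (sum_lt S hr.2.1 k hc)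
    obtain ⟨M, hM, hR, -⟩ := hr.2.1
    rw [← pow_succ' r k] at h
    rwa [powP_succ R k, sum_step hM hR k hc]

/-- An element of a fibre over the identity lies in the 2-core with that vector. -/
theorem fib_idP {a : ℕ} {e : G} (he : Fib z P π ρ B idP a e) : e ∈ oc z ∧ vec π e = Rep.lin B a := by
  have hl := Pk.inj S he.2.1 (pk_one S)
  have hm := (S.D.lin_eq_one he.1).1 hl
  exact ⟨hm, (S.D.lin_oc hm).2.symm.trans he.2.2⟩

theorem fib_idP_zero {e : G} (he : Fib z P π ρ B idP 0 e) : e = 1 ∨ e = z := by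
  obtain ⟨hm, hv⟩ := fib_idP S he
  exact (S.D.vec_eq_zero hm).1 (hv.trans (Rep.lin_zero B))

theorem qbit {r : ℕ} (hr : r < 4096) : bit qBits r = Orbits.qb r :=
  beq_iff_eq.1 (List.all_eq_true.1 qBits_ok r (List.mem_range.2 hr))

theorem qbit_apply {γ : Equiv.Perm V} {x : ℕ} (hγ : γ ∈ ρ.range) (hx : Pk B γ x) {r : ℕ} (hr : r < 4096) :
    bit qBits (mulP x r) = bit qBits r := by
  rw [qbit S hr, qbit S (hx.lt hr)]
  have h := S.M.q_preserved hγ (Rep.lin B r)
  rw [hx.apply hr, S.M.q_code hr, S.M.q_code (hx.lt hr)] at h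
  cases ha : Orbits.qb r <;> cases hb : Orbits.qb (mulP x r) <;> simp [ha, hb] at h ⊢

/-- The fibre number over a conjugate of a representative. -/
theorem fibNum_tau {g σ : Equiv.Perm V} {j x gx a : ℕ} (hg : g ∈ ρ.range) (hgx : Pk B g gx)
    (hσ : σ ∈ ρ.range) (hσp : Pk B σ (sigOf j)) (hp : Pk B (g * σ * g⁻¹) x) (ha : a < 4096) (u : G) :
    fibNum z P π ρ B u x (mulP gx a) = fibNum z P π ρ B u (sigOf j) a := by
  obtain ⟨n, hn⟩ := exists_fib S hg hgx 0
  have hcx : mulP gx (sigOf j) = mulP x gx := Pk.unique S (hgx.mul hσp)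
    (by
      have := hp.mul hgx
      rwa [show g * σ * g⁻¹ * g = g * σ by group] at this)
  have := fibNum_conj S hn ha (by norm_num) hcx ⟨_, hp⟩ ⟨σ, hσ, hσp⟩ u
  rwa [Pk.zero S hp, Nat.xor_zero, Nat.xor_zero] at this

end Sys

variable {S : Sys z P π ρ q B} {F : Frame S} (hF : F.Good) (C : ClassData z P π ρ B F.tt)
include hF C

/-- The square of an element over a nontrivial involution of the linear group. -/
theorem sq_fib {i a : ℕ} (hi : i < 6303) {h : G} (hh : Fib z P π ρ B (get3 tabL i) a h) (ha : a < 4096)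
    (hsq : h * h = 1 ∨ h * h = z) :
    h * h = z ↔ (Nat.beq (mulP (get3 tabL i) wP) (mulP wP (get3 tabL i)) = true ∧ bit qBits a = true) := by
  have hcases := cpts_all hi
  rw [cpts, List.mem_append, List.mem_append] at hcases
  obtain ⟨j, hj, hji⟩ : ∃ j < 3, i ∈ pts (classEdges.getD j (0, [])).1 (classEdges.getD j (0, [])).2 := by
    rcases hcases with h | h | h
    exacts [⟨0, by norm_num, h⟩, ⟨1, by norm_num, h⟩, ⟨2, by norm_num, h⟩]
  have hrule : innerRule j i = true := by
    have hr := List.all_eq_true.1 inner_rule j (List.mem_range.2 hj)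
    simp only [Bool.and_eq_true, List.all_eq_true] at hr
    rcases List.mem_cons.1 hji with rfl | h
    · exact hr.1
    · obtain ⟨e, he, rfl⟩ := List.mem_map.1 h
      exact hr.2 e he
  obtain ⟨g, hg, σ, hσ, hσp, hσ2, hp⟩ := tab_class S hj rfl hji
  obtain ⟨gx, hgx⟩ := exists_pk S hg
  obtain ⟨b, hb, eb⟩ := S.M.code_cases (g⁻¹ (Rep.lin B a))
  have hab : mulP gx b = a := S.lin_lt_inj (hgx.lt hb) ha (by
    rw [← hgx.apply hb, eb, Equiv.Perm.inv_def, Equiv.apply_symm_apply])
  have hfix : fixB j b = true := by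
    have h1 := (S.D.lin_mul hh.1 hh.1).2
    rw [hh.2.2] at h1
    have h0 : trans π P (h * h) = 0 := by
      rcases hsq with e | e <;> rw [e]
      · rw [(S.D.lin_oc (one_mem _)).2, vec_one]
      · rw [(S.D.lin_oc S.D.z_mem).2, S.D.vec_z]
    rw [h0, Pk.inj S hh.2.1 hp] at h1
    have h2 : (g * σ * g⁻¹) (Rep.lin B a) = Rep.lin B a := by
      have h3 := congrArg (fun v => Rep.lin B a + v) h1
      simp only [add_zero, ← add_assoc, S.D.two, zero_add] at h3
      exact h3.symm
    rw [Equiv.Perm.mul_apply, Equiv.Perm.mul_apply, ← eb, hσp.apply hb] at h2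
    refine (Nat.beq_eq ▸ ?_ : Nat.beq (mulP (sigOf j) b) b = true)
    refine S.lin_lt_inj (hσp.lt hb) hb ?_
    rw [eb, ← h2, Equiv.Perm.inv_def, Equiv.symm_apply_apply]
  have hnum : ∀ u, fibNum z P π ρ B u (get3 tabL i) a = fibNum z P π ρ B u (sigOf j) b := fun u => by
    rw [← hab, fibNum_tau S hg hgx hσ hσp hp hb u]
  -- the fibre has an involution exactly when this square is trivial
  have hinv : h * h = 1 ↔ noW j b = false := by
    have hzero : noW j b = true ↔ (fibNum z P π ρ B z (get3 tabL i) a = 0 ∧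
        fibNum z P π ρ B F.tt (get3 tabL i) a = 0) := by
      rw [hnum, hnum, C.z_num j (by omega) b hb, C.t_num j (by omega) b hb, noW, Bool.and_eq_true,
        Nat.beq_eq, Nat.beq_eq]
    constructor
    · intro h1
      rw [← Bool.not_eq_true, hzero]
      rintro ⟨hz0, ht0⟩
      have hne : h ≠ 1 := fun e => by
        have := (fib_inj_code S hh (e ▸ fib_one S) ha (by norm_num)).1
        rw [← tauOf_lt hi, ← tauOf_last] at this
        have := tauOf_inj S (by omega) (by norm_num) this
        omega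
      rcases F.classes hF h1 hne with hc | hc
      · haveI : Nonempty {x : G // Fib z P π ρ B (get3 tabL i) a x ∧ IsConj z x} := ⟨⟨h, hh, hc⟩⟩
        exact Nat.card_pos.ne' hz0
      · haveI : Nonempty {x : G // Fib z P π ρ B (get3 tabL i) a x ∧ IsConj F.tt x} := ⟨⟨h, hh, hc⟩⟩
        exact Nat.card_pos.ne' ht0
    · intro hno
      rw [← Bool.not_eq_true, hzero, not_and_or] at hno
      have key : ∀ u : G, u * u = 1 → fibNum z P π ρ B u (get3 tabL i) a ≠ 0 → h * h = 1 := by
        intro u hu hne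
        obtain ⟨⟨k, hk, hku⟩⟩ := (Nat.card_ne_zero.1 hne).1
        obtain ⟨c, rfl⟩ := isConj_iff.1 hku
        have hk2 : c * u * c⁻¹ * (c * u * c⁻¹) = 1 := by
          rw [show c * u * c⁻¹ * (c * u * c⁻¹) = c * (u * u) * c⁻¹ by group, hu]; group
        rcases fib_pair S hk hh with e | e
        · rw [e, hk2]
        · rw [e, show c * u * c⁻¹ * z * (c * u * c⁻¹ * z) = c * u * c⁻¹ * (z * (c * u * c⁻¹)) * z by group,
            ← (S.D.comm_z hk.1).eq, ← mul_assoc (c * u * c⁻¹) (c * u * c⁻¹) z, hk2, one_mul, S.D.zz]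
      rcases hno with h' | h'
      · exact key z S.D.zz h'
      · exact key F.tt (F.grp_sq (F.phi_mem t0_lt)) h'
  have hw := List.all_eq_true.1 (List.all_eq_true.1 weight_rule j (List.mem_range.2 hj)) b
    (List.mem_range.2 hb)
  simp only [weightRule, hfix, Bool.not_true, Bool.false_or, beq_iff_eq] at hw
  rw [innerRule, beq_iff_eq] at hrule
  rw [hw] at hinv
  rw [hrule, show bit qBits a = bit qBits b by rw [← hab, qbit_apply S hg hgx hb]]
  constructor
  · intro e
    have : ¬ h * h = 1 := fun e1 => S.D.z_ne (e.symm.trans e1)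
    rw [hinv, Bool.not_eq_false, Bool.and_eq_true] at this
    exact this
  · intro hc
    rcases hsq with e | e
    · rw [hinv, hc.1, hc.2] at e
      exact Bool.noConfusion e
    · exact e

/-- **The criterion.** -/
theorem good_iff {σ τ : Equiv.Perm V} {X Y a b k : ℕ} {x y : G} (hσ : σ ∈ ρ.range) (hτ : τ ∈ ρ.range)
    (hx : Fib z P π ρ B X a x) (hy : Fib z P π ρ B Y b y) (hσX : Pk B σ X) (hτY : Pk B τ Y)
    (ha : a < 4096) (hb : b < 4096)
    (hxz : IsConj z x) (hyt : IsConj F.tt y) (hk : expOK (mulP X Y) k = true) :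
    z ∈ zpowers (x * y) ↔ good qBits (oddB k) (innerB wP (mulP X Y) k) (mulP (sumP (mulP X Y) k) a)
      (mulP (sumP (mulP X Y) (k / 2)) a) (mulP (sumP (mulP X Y) k) (mulP X b))
      (mulP (sumP (mulP X Y) (k / 2)) (mulP X b)) = true := by
  set R := mulP X Y with hRdef
  simp only [expOK, Bool.and_eq_true, Bool.or_eq_true, Bool.not_eq_true'] at hk
  obtain ⟨hkR, hhalf⟩ := hk
  have hkR := Nat.eq_of_beq_eq_true hkR
  have hb' : mulP X b < 4096 := hσX.lt hb
  set c := a ^^^ mulP X b with hcdef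
  have hc : c < 4096 := xor_lt ha hb'
  have hr : Fib z P π ρ B R c (x * y) := fib_mul S hx hy hb
  have hlin : ∀ n, mulP (sumP R n) c = mulP (sumP R n) a ^^^ mulP (sumP R n) (mulP X b) := fun n => by
    obtain ⟨M, hM, hMe, -⟩ := hr.2.1
    obtain ⟨f, hf⟩ := act_sum hM hMe n
    exact hf.linear ha hb'
  have hsqx : ∀ {u w : G}, u * u = 1 → IsConj u w → w * w = 1 := fun {u w} hu h => by
    obtain ⟨g, rfl⟩ := isConj_iff.1 h
    rw [show g * u * g⁻¹ * (g * u * g⁻¹) = g * (u * u) * g⁻¹ by group, hu]; group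
  have hx2 := hsqx S.D.zz hxz
  have hy2 := hsqx (F.grp_sq (F.phi_mem t0_lt)) hyt
  have hzo : orderOf z = 2 := S.D.set'.ord
  have he := fib_pow S hr hc k
  rw [hkR] at he
  set T := mulP (sumP R k) c with hT
  have hTlt : T < 4096 := sum_lt S hr.2.1 k hc
  -- an involution among the powers is the only one
  have huniq : ∀ {w : G}, w ≠ 1 → w * w = 1 → w ∈ zpowers (x * y) → z ∈ zpowers (x * y) → w = z :=
    fun {w} h1 h2 hw hz => by
      rw [(Order.eq_half (Invol.orderOf_eq_two_iff.2 ⟨h1, h2⟩) hw).1, (Order.eq_half hzo hz).1]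
  obtain ⟨hem, hev⟩ := fib_idP S he
  have hzv : ∀ {w : G} {u : ℕ}, Fib z P π ρ B idP u w → u < 4096 → w = z → u = 0 := fun {w u} hw hu e => by
    have := (fib_idP S hw).2
    rw [e, S.D.vec_z] at this
    exact (S.M.lin_eq_zero hu).1 this.symm
  rw [good]
  cases hcmp : Nat.beq (mulP (sumP R k) a) (mulP (sumP R k) (mulP X b))
  · -- the power is a nonzero vector
    have hT0 : T ≠ 0 := fun e => by
      rw [hT, hlin, Nat.xor_eq_zero_iff] at e
      rw [e, Nat.beq_refl] at hcmp
      exact Bool.noConfusion hcmp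
    have hsq := S.sq_code hem hTlt hev
    show _ ↔ bit qBits (mulP (sumP R k) a ^^^ mulP (sumP R k) (mulP X b)) = true
    rw [← hlin, ← hT, qbit S hTlt]
    cases hq : Orbits.qb T
    · rw [hq] at hsq
      refine iff_of_false (fun hz => hT0 (hzv he hTlt (huniq (fun e => ?_) hsq (npow_mem_zpowers _ k) hz)))
        (by simp)
      rw [e, vec_one] at hev
      exact hT0 ((S.M.lin_eq_zero hTlt).1 hev.symm)
    · rw [hq] at hsq
      refine iff_of_true ?_ rfl
      have hz : (x * y) ^ k * (x * y) ^ k = z := hsq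
      rw [← hz]
      exact mul_mem (npow_mem_zpowers _ _) (npow_mem_zpowers _ _)
  · -- the power is trivial or central
    have hT0 : T = 0 := by rw [hT, hlin, Nat.eq_of_beq_eq_true hcmp, Nat.xor_self]
    rw [hT0] at he
    rcases Nat.even_or_odd k with ⟨l, hl⟩ | ⟨l, hl⟩
    · have hodd : oddB k = false := by
        rw [oddB, show Nat.mod k 2 = 0 by show k % 2 = 0; omega]; rfl
      have hk2 : k / 2 = l := by omega
      rw [hodd] at hhalf ⊢
      simp only [Bool.false_eq_true, false_or] at hhalf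
      have hh := fib_pow S hr hc l
      have hhk : (x * y) ^ l * (x * y) ^ l = (x * y) ^ k := by rw [← pow_add, ← hl]
      have hsq : (x * y) ^ l * (x * y) ^ l = 1 ∨ (x * y) ^ l * (x * y) ^ l = z := by
        rw [hhk]; exact fib_idP_zero S he
      obtain ⟨i, hi, hp⟩ := exists_tau S (γ := J4Type.lin ρ ((x * y) ^ l)) (S.D.lin_mem hh.1) (by
        rw [← (S.D.lin_mul hh.1 hh.1).1, hhk]
        exact Pk.inj S he.2.1 (pk_one S))
      have hiR := Pk.unique S hh.2.1 hp
      have hi' : i < 6303 := by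
        by_contra hge
        rw [show i = 6303 by omega, tauOf_last] at hiR
        rw [show Nat.div k 2 = l from hk2, hiR, Nat.beq_refl] at hhalf
        exact Bool.noConfusion hhalf
      rw [tauOf_lt hi'] at hiR hp
      have hhl : mulP (sumP R l) c < 4096 := sum_lt S hr.2.1 l hc
      have hkey := sq_fib hF C hi' (hiR ▸ hh) hhl hsq
      have hzmem : z ∈ zpowers (x * y) ↔ (x * y) ^ l * (x * y) ^ l = z := by
        refine ⟨fun hz => ?_, fun e => e ▸ mul_mem (npow_mem_zpowers _ _) (npow_mem_zpowers _ _)⟩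
        refine hsq.resolve_left fun h1 => ?_
        have hne : (x * y) ^ l ≠ 1 := fun e => by
          have := (fib_inj_code S hh (e ▸ fib_one S) hhl (by norm_num)).1
          rw [show Nat.div k 2 = l from hk2, this, Nat.beq_refl] at hhalf
          exact Bool.noConfusion hhalf
        have ezz := huniq hne h1 (npow_mem_zpowers _ _) hz
        have hzfib : Fib z P π ρ B idP 0 z := by
          have := fib_mul_z S (fib_one S)
          rwa [one_mul] at this
        have hh' := hh
        rw [ezz] at hh'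
        have := (fib_inj_code S hh' hzfib hhl (by norm_num)).1
        rw [show Nat.div k 2 = l from hk2, this, Nat.beq_refl] at hhalf
        exact Bool.noConfusion hhalf
      rw [hzmem, hkey, hk2, innerB, hodd, show Nat.div k 2 = l from hk2, hiR]
      show _ ↔ cond (!false && Nat.beq (mulP (get3 tabL i) wP) (mulP wP (get3 tabL i)))
        (bit qBits (mulP (sumP R l) a ^^^ mulP (sumP R l) (mulP X b))) false = true
      rw [← hlin, Bool.not_false, Bool.true_and]
      cases Nat.beq (mulP (get3 tabL i) wP) (mulP wP (get3 tabL i)) <;> simp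
    · have hodd : oddB k = true := by
        rw [oddB, show Nat.mod k 2 = 1 by show k % 2 = 1; omega]; rfl
      rw [hodd]
      show _ ↔ true = true
      refine iff_of_true ?_ rfl
      rcases fib_idP_zero S he with e | e
      · -- then the two are conjugate
        exfalso
        refine F.not_conj_tt (hxz.trans (IsConj.trans ?_ hyt.symm))
        set r := x * y with hrdef
        have hxr : ∀ n : ℕ, r ^ n * x = x * (r ^ n)⁻¹ := by
          intro n
          induction n with
          | zero => simp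
          | succ n ih =>
            rw [pow_succ, mul_assoc, show r * x = x * r⁻¹ by
              rw [hrdef, mul_inv_rev, inv_eq_of_mul_eq_one_right hx2, inv_eq_of_mul_eq_one_right hy2]
              group, ← mul_assoc, ih, mul_assoc, ← mul_inv_rev, ← pow_succ', pow_succ]
        refine isConj_iff.2 ⟨(r ^ (l + 1))⁻¹, ?_⟩
        have h1 : (r ^ (l + 1))⁻¹ * x = x * r ^ (l + 1) := by
          rw [inv_mul_eq_iff_eq_mul, ← mul_assoc, hxr, mul_assoc, inv_mul_cancel, mul_one]
        rw [h1, inv_inv, mul_assoc, ← pow_add, show l + 1 + (l + 1) = k + 1 by omega, pow_succ, e, one_mul,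
          hrdef, ← mul_assoc, hx2, one_mul]
      · exact e ▸ npow_mem_zpowers _ _

end Cfsg.Agent.J4Type.V11.AZ
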