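import Cfsg.Agent.J4Type.Order.ZSplit
import Cfsg.Agent.J4Type.Order.ZGood

/-!
# The numbers of a fibre from the classes of its two elements
-/

set_option autoImplicit false
set_option maxRecDepth 100000

open Cfsg Subgroup

namespace Cfsg.Agent.J4Type.V11.AZ

open LargeExtra (oc oc_le oc_conj_mem conj_mem_oc)
open Cfsg.Agent.J4Type.Rep Cfsg.Agent.J4Type.Orbits

theorem sig_invol : ((List.range 3).all fun j =>
    !Nat.beq (sigOf j) idP && Nat.beq (mulP (sigOf j) (sigOf j)) idP) = true := by decide +kernel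

theorem ql5_mem : qList.any (eqM (ql 5)) = true := by decide +kernel

theorem short_long : ((List.range 4096).all fun r => !(bit Short.orbBits r && bit Long.orbBits r)) = true := by
  decide +kernel

theorem short_zero : bit Short.orbBits 0 = false := by decide +kernel

theorem phi704_sec : tB 370 704 = true := by decide +kernel

theorem move_lt : (moveW.all fun w => w.all fun k => Nat.blt k centP0.length) = true := by decide +kernel

theorem code_w : ((List.range 64).all fun k =>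
    Nat.beq (704 ^^^ k) (704 + k) && Nat.beq (704 ^^^ (k ^^^ 64)) (640 + k) &&
      Nat.beq (640 ^^^ k) (640 + k) && Nat.beq (640 ^^^ (k ^^^ 64)) (704 + k)) = true := by decide +kernel

variable {G : Type*} [Group G] [Finite G] {z : G} {P : Subgroup G} {V : Type*} [AddCommGroup V]
  {π : ↥(oc z) →* Multiplicative V} {ρ : ↥(mSub z P) →* Equiv.Perm V} {q : V → ZMod 2} {B : List V}

theorem sigOf_eq : sigOf 0 = enc (ql 5) ∧ sigOf 1 = enc (qList.getD 16 []) ∧
    sigOf 2 = enc (qList.getD 17 []) ∧ sigOf 3 = idP := by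
  have h := eqM_iff.1 sig_eq
  have hi := Nat.eq_of_beq_eq_true idP_eq
  refine ⟨?_, ?_, ?_, ?_⟩ <;> rw [sigOf, h]
  · rfl
  · rfl
  · rfl
  · exact hi.symm

theorem qList_good {M : List ℕ} (h : M ∈ qList) : goodM M = true := by
  have h' : (qList.all goodM) = true := by decide +kernel
  exact List.all_eq_true.1 h' M h

theorem noW_eq {j a : ℕ} (h : noW j a = true) : zW j a = 0 ∧ tW j a = 0 := by
  simp only [noW, Bool.and_eq_true, Nat.beq_eq] at h
  exact h

theorem sameW_eq {j a b : ℕ} (h : sameW j a b = true) : zW j a = zW j b ∧ tW j a = tW j b := by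
  simp only [sameW, Bool.and_eq_true, Nat.beq_eq] at h
  exact h

theorem isConj_sq {u h : G} (hu : u * u = 1) (hc : IsConj u h) : h * h = 1 := by
  obtain ⟨c, rfl⟩ := isConj_iff.1 hc
  rw [show c * u * c⁻¹ * (c * u * c⁻¹) = c * (u * u) * c⁻¹ by group, hu]; group

theorem fixB_iff {j a : ℕ} : fixB j a = true ↔ mulP (sigOf j) a = a := by
  rw [fixB, Nat.beq_eq]

section Sys

variable (S : Sys z P π ρ q B)
include S

theorem oc_fib {r : ℕ} {k : G} (hk : k ∈ oc z) (hv : vec π k = Rep.lin B r) : Fib z P π ρ B idP r k :=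
  ⟨oc_le z hk, by rw [(S.D.lin_oc hk).1]; exact pk_one S, (S.D.lin_oc hk).2.trans hv⟩

theorem lin_ne_one {x r : ℕ} {h : G} (hf : Fib z P π ρ B x r h) (hx : x ≠ idP) : lin ρ h ≠ 1 :=
  fun e => hx (Pk.unique S hf.2.1 (e ▸ pk_one S))

theorem ne_one_of_lin {x r : ℕ} {h : G} (hf : Fib z P π ρ B x r h) (hx : x ≠ idP) : h ≠ 1 :=
  fun e => lin_ne_one S hf hx (by rw [e, (S.D.lin_oc (one_mem _)).1])

theorem mul_z_sq {h : G} (hh : h ∈ centralizer ({z} : Set G)) : h * z * (h * z) = h * h := by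
  rw [(S.D.comm_z hh).symm.mul_mul_mul_comm, S.D.zz, mul_one]

/-- A fibre over an involution and a moved vector has no involutions. -/
theorem moved_sq {x r : ℕ} {h : G} (hf : Fib z P π ρ B x r h) (hr : r < 4096) (hne : mulP x r ≠ r) :
    h * h ≠ 1 := by
  intro e
  have h2 := fib_mul S hf hf hr
  rw [e] at h2
  have h3 := (fib_inj_code S (fib_one S) h2 (by norm_num) (xor_lt hr (hf.2.1.lt hr))).2
  exact hne (Nat.xor_eq_zero_iff.1 h3.symm).symm

theorem fibNum_pair {x a : ℕ} {g : G} (hg : Fib z P π ρ B x a g) (u : G)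
    [DecidablePred fun h => IsConj u h] :
    fibNum z P π ρ B u x a = (if IsConj u g then 1 else 0) + (if IsConj u (g * z) then 1 else 0) := by
  refine num_two (mul_z_ne S g) fun h => ⟨fib_pair S hg, ?_⟩
  rintro (rfl | rfl)
  exacts [hg, fib_mul_z S hg]

omit S in
theorem fibNum_none {x a : ℕ} {u : G} (hu : u * u = 1)
    (h : ∀ g, Fib z P π ρ B x a g → g * g ≠ 1) : fibNum z P π ρ B u x a = 0 :=
  Nat.card_eq_zero.2 (Or.inl ⟨fun g => h g.1 g.2.1 (isConj_sq hu g.2.2)⟩)

end Sys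

namespace Frame'

variable {S : Sys z P π ρ q B} (F : Frame S)

/-- The numbers of a fibre are the tabulated ones. -/
def WNum (F : Frame S) (j a : ℕ) : Prop :=
  fibNum z P π ρ B z (sigOf j) a = zW j a ∧ fibNum z P π ρ B F.tt (sigOf j) a = tW j a

theorem tt_sq : F.tt * F.tt = 1 := F.grp_sq (F.phi_mem t0_lt)

include S in
theorem num_none {j a : ℕ} (hw : noW j a = true) (h : ∀ g, Fib z P π ρ B (sigOf j) a g → g * g ≠ 1) :
    WNum F j a :=
  ⟨(fibNum_none S.D.zz h).trans (noW_eq hw).1.symm, (fibNum_none (tt_sq F) h).trans (noW_eq hw).2.symm⟩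

theorem not_tt {h : G} (hz : IsConj z h) : ¬ IsConj F.tt h := fun ht => F.not_conj_tt (hz.trans ht.symm)

theorem num_two_z {j a : ℕ} {g : G} (hg : Fib z P π ρ B (sigOf j) a g) (h1 : IsConj z g)
    (h2 : IsConj z (g * z)) (hw : zW j a = 2 ∧ tW j a = 0) : WNum F j a := by
  classical
  refine ⟨?_, ?_⟩
  · rw [fibNum_pair S hg, if_pos h1, if_pos h2, hw.1]
  · rw [fibNum_pair S hg, if_neg (not_tt F h1), if_neg (not_tt F h2), hw.2]

variable (hF : F.Good)
include hF

theorem num_two_t {j a : ℕ} {g : G} (hg : Fib z P π ρ B (sigOf j) a g) (hsq : g * g = 1) (hg1 : g ≠ 1)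
    (hgz : g * z ≠ 1) (h1 : ¬ IsConj z g) (h2 : ¬ IsConj z (g * z)) (hw : zW j a = 0 ∧ tW j a = 2) :
    WNum F j a := by
  classical
  refine ⟨?_, ?_⟩
  · rw [fibNum_pair S hg, if_neg h1, if_neg h2, hw.1]
  · rw [fibNum_pair S hg, if_pos ((F.classes hF hsq hg1).resolve_left h1),
      if_pos ((F.classes hF (by rw [mul_z_sq S hg.1, hsq]) hgz).resolve_left h2), hw.2]

theorem num_one_one {j a : ℕ} {g : G} (hg : Fib z P π ρ B (sigOf j) a g) (hsq : g * g = 1) (hg1 : g ≠ 1)
    (hgz : g * z ≠ 1) (h : IsConj z g ↔ ¬ IsConj z (g * z)) (hw : zW j a = 1 ∧ tW j a = 1) :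
    WNum F j a := by
  classical
  have hsz : g * z * (g * z) = 1 := by rw [mul_z_sq S hg.1, hsq]
  by_cases h1 : IsConj z g
  · have h2 := h.1 h1
    refine ⟨?_, ?_⟩
    · rw [fibNum_pair S hg, if_pos h1, if_neg h2, hw.1]
    · rw [fibNum_pair S hg, if_neg (not_tt F h1), if_pos ((F.classes hF hsz hgz).resolve_left h2), hw.2]
  · have h2 : IsConj z (g * z) := by tauto
    refine ⟨?_, ?_⟩
    · rw [fibNum_pair S hg, if_neg h1, if_pos h2, hw.1]
    · rw [fibNum_pair S hg, if_pos ((F.classes hF hsq hg1).resolve_left h1), if_neg (not_tt F h2), hw.2]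

end Frame'

end Cfsg.Agent.J4Type.V11.AZ
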