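import Cfsg.Agent.J4Type.Order.ZClassBase

/-!
# The vector of the image of an involution of `X` under the exchanging element
-/

set_option autoImplicit false
set_option maxRecDepth 100000

open Cfsg Subgroup

namespace Cfsg.Agent.J4Type.V11.AZ

open LargeExtra (oc oc_le oc_conj_mem conj_mem_oc)
open Cfsg.Agent.J4Type.Rep Cfsg.Agent.J4Type.Orbits

variable {G : Type*} [Group G] [Finite G] {z : G} {P : Subgroup G} {V : Type*} [AddCommGroup V]
  {π : ↥(oc z) →* Multiplicative V} {ρ : ↥(mSub z P) →* Equiv.Perm V} {q : V → ZMod 2} {B : List V}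
  {S : Sys z P π ρ q B}

/-- The sum of weights two and a weight one for the code zero. -/
theorem sum_weights (p : ℕ → Bool) (h0 : p 0 = false) :
    (kList.map fun r => if r = 0 then 1 else if p r then 2 else 0).sum = 1 + 2 * (kList.filter p).length := by
  have key : ∀ l : List ℕ, 0 ∉ l →
      (l.map fun r => if r = 0 then 1 else if p r then 2 else 0).sum = 2 * (l.filter p).length := by
    intro l
    induction l with
    | nil => intro _; rfl
    | cons a l ih =>
      intro h
      rw [List.mem_cons, not_or] at h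
      rw [List.map_cons, List.sum_cons, ih h.2, if_neg (Ne.symm h.1), List.filter_cons]
      by_cases hp : p a = true
      · rw [if_pos hp, if_pos hp, List.length_cons]; ring
      · rw [if_neg hp, if_neg hp, zero_add]
  have he : kList = 0 :: kList.tail := rfl
  have hnd := kList_nodup
  rw [he, List.nodup_cons] at hnd
  rw [he, List.map_cons, List.sum_cons, if_pos rfl, key _ hnd.1, List.filter_cons,
    if_neg (by rw [h0]; decide)]

/-- The sum of weights two. -/
theorem sum_two (p : ℕ → Bool) : ∀ l : List ℕ,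
    (l.map fun r => if p r then 2 else 0).sum = 2 * (l.filter p).length
  | [] => rfl
  | a :: l => by
    rw [List.map_cons, List.sum_cons, sum_two p l, List.filter_cons]
    by_cases hp : p a = true
    · rw [if_pos hp, if_pos hp, List.length_cons]; ring
    · rw [if_neg hp, if_neg hp, zero_add]

namespace XData

variable (X : XData S)
include X

theorem count_class {C : G → Prop} (p : ℕ → Bool) (h0 : p 0 = false) (hz : C z) (h1 : ¬ C 1)
    (hC : ∀ k ∈ oc z ⊓ oc X.u, ∀ r ∈ kList, vec π k = Rep.lin B r → r ≠ 0 → (C k ↔ p r = true)) :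
    Nat.card {k : G // k ∈ oc z ⊓ oc X.u ∧ C k} = 1 + 2 * (kList.filter p).length := by
  classical
  rw [X.count_inter, ← sum_weights p h0]
  refine congrArg List.sum (List.map_congr_left fun r hr => ?_)
  by_cases hr0 : r = 0
  · rw [if_pos hr0, hr0, cnt_pair S (one_mem (oc z)) (by rw [vec_one, Rep.lin_zero]), one_mul,
      if_pos hz, if_neg h1]
  · obtain ⟨g, hg, hv⟩ := S.exists_code r
    have hv' : vec π (g * z) = Rep.lin B r := by rw [vec_mul hg S.D.z_mem, S.D.vec_z, add_zero, hv]
    have a := hC g (X.mem_inter hg hr hv) r hr hv hr0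
    have b := hC (g * z) (X.mem_inter (mul_mem hg S.D.z_mem) hr hv') r hr hv' hr0
    rw [if_neg hr0, cnt_pair S hg hv]
    by_cases hp : p r = true
    · rw [if_pos hp, if_pos (a.2 hp), if_pos (b.2 hp)]
    · rw [if_neg hp, if_neg (mt a.1 hp), if_neg (mt b.1 hp)]

theorem commute_fix {x a r : ℕ} {h k : G} (hh : h ∈ xSub z X.u) (hf : Fib z P π ρ B x a h)
    (hk : k ∈ oc z ⊓ oc X.u) (hr : r < 4096) (hv : vec π k = Rep.lin B r) :
    Commute k h ↔ mulP x r = r := by
  have hc : vec π (h * k * h⁻¹) = Rep.lin B (mulP x r) := by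
    rw [S.D.vec_conj_lin hh.2 hk.1, hv, hf.2.1.apply hr]
  constructor
  · intro hcomm
    rw [mul_inv_eq_iff_eq_mul.2 hcomm.symm.eq, hv] at hc
    exact (S.lin_lt_inj hr (hf.2.1.lt hr) hc).symm
  · intro hfix
    rw [hfix, ← hv] at hc
    rcases S.D.vec_eq (oc_conj_mem hh.2 hk.1) hk.1 hc with e | e
    · exact (mul_inv_eq_iff_eq_mul.1 e).symm
    · exfalso
      rcases (X.N.conf.setting S.D).commutator_cases hh.1 hk.2 with e' | e'
      · rw [mul_inv_eq_one, e] at e'
        exact mul_z_ne S k e'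
      · rw [mul_inv_eq_iff_eq_mul, e, (S.D.comm_z (oc_le z hk.1)).eq] at e'
        exact X.N.conf.ne (mul_right_cancel e').symm

theorem commute_perp {v r : ℕ} {e k : G} (he : e ∈ oc z) (hk : k ∈ oc z) (hv : v < 4096) (hr : r < 4096)
    (hev : vec π e = Rep.lin B v) (hkv : vec π k = Rep.lin B r) : Commute k e ↔ bvB v r = false := by
  have hsym : Commute k e ↔ Commute e k := ⟨Commute.symm, Commute.symm⟩
  rw [bvB_eq hv hr, hsym, ← S.D.polar_eq he hk, hev, hkv, S.M.polar_code hv hr]
  cases Orbits.bv v r <;> simp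

theorem x_sq {x r : ℕ} {h : G} (hh : h ∈ xSub z X.u) (hf : Fib z P π ρ B x r h) (hr : r < 4096)
    (hxx : mulP x x = idP) (hfix : mulP x r = r) : h * h = 1 := by
  have h2 := fib_mul S hf hf hr
  rw [hxx, hfix, Nat.xor_self] at h2
  rcases fib_pair S (fib_one S) h2 with e | e
  · exact e
  · rw [one_mul] at e
    rcases X.N.conf.sq_cases_u S.D hh.1 with e' | e'
    · exact e'
    · exact absurd (e'.symm.trans e) X.N.conf.ne

theorem x_vec {h : G} (hh : h ∈ xSub z X.u) (hl : lin ρ h ≠ 1) (hsq : h * h = 1) :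
    ∃ v < 4096, vec π (X.s * h * X.s⁻¹) = Rep.lin B v ∧ bit qBits v = false ∧
      bvB Short.v0 v = false ∧ v ∉ kList := by
  obtain ⟨he, hc⟩ := X.conj_x hh
  obtain ⟨v, hv, ev⟩ := S.M.code_cases (vec π (X.s * h * X.s⁻¹))
  have hsq' : X.s * h * X.s⁻¹ * (X.s * h * X.s⁻¹) = 1 := by
    rw [show X.s * h * X.s⁻¹ * (X.s * h * X.s⁻¹) = X.s * (h * h) * X.s⁻¹ by group, hsq]; group
  refine ⟨v, hv, ev.symm, ?_, ?_, X.conj_not_K hh hl ev.symm⟩
  · rw [beq_iff_eq.1 (all_range qBits_ok hv)]
    have h := S.sq_code he hv ev.symm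
    rw [hsq'] at h
    cases hb : Orbits.qb v
    · rfl
    · rw [hb] at h; exact absurd h.symm S.D.z_ne
  · rw [bvB_eq short.v₀_lt hv]
    have h := (S.D.polar_eq X.N.conf.mem he).2 hc.symm
    rw [X.N.vec_u, ← ev, S.M.polar_code short.v₀_lt hv] at h
    cases hb : Orbits.bv Short.v0 v
    · rfl
    · rw [hb, if_pos rfl] at h; exact absurd h one_ne_zero

/-- The exchanging element turns fixed short points into orthogonal ones. -/
theorem perp_count {j a v : ℕ} {h : G} (hh : h ∈ xSub z X.u) (hf : Fib z P π ρ B (sigOf j) a h)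
    (hv : v < 4096) (hev : vec π (X.s * h * X.s⁻¹) = Rep.lin B v) : shortPerpK v = shortFixK j := by
  have hzu : ∀ k, Commute k h ∧ IsConj z k ↔
      Commute (X.s * k * X.s⁻¹) (X.s * h * X.s⁻¹) ∧ IsConj z (X.s * k * X.s⁻¹) := fun k => by
    rw [Commute.conj_iff, isConj_conj_iff]
  have hone : ∀ w : G, ¬ (Commute 1 w ∧ IsConj z 1) := fun w hw => S.D.z_ne (isConj_one_left.1 hw.2)
  have h1 := X.count_class (C := fun k => Commute k h ∧ IsConj z k)
    (fun r => bit Short.orbBits r && fixB j r) (by rw [short_zero]; rfl)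
    ⟨(S.D.comm_z hh.2).symm, IsConj.refl z⟩ (hone h) fun k hk r hr hkv hr0 => by
      rw [X.commute_fix hh hf hk (kList_small hr) hkv, oc_class S hk.1 (kList_small hr) hkv hr0,
        Bool.and_eq_true, fixB_iff, and_comm]
  have h2 := X.count_class
    (C := fun k => Commute k (X.s * h * X.s⁻¹) ∧ IsConj z k)
    (fun r => bit Short.orbBits r && !bvB v r) (by rw [short_zero]; rfl)
    ⟨(S.D.comm_z (oc_le z (X.conj_x hh).1)).symm, IsConj.refl z⟩ (hone _) fun k hk r hr hkv hr0 => by
      rw [X.commute_perp (X.conj_x hh).1 hk.1 hv (kList_small hr) hev hkv,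
        oc_class S hk.1 (kList_small hr) hkv hr0, Bool.and_eq_true, Bool.not_eq_true', and_comm]
  rw [X.count_conj _ (fun k => Commute k (X.s * h * X.s⁻¹) ∧ IsConj z k) hzu, h2] at h1
  show (kList.filter fun r => bit Short.orbBits r && !bvB v r).length =
    (kList.filter fun r => bit Short.orbBits r && fixB j r).length
  omega

end XData

end Cfsg.Agent.J4Type.V11.AZ
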