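import Cfsg.Agent.J4Type.Order.ZPairs
import Cfsg.Agent.J4Type.Order.ZChecksOrb0
import Cfsg.Agent.J4Type.Order.ZChecksOrb1

/-!
# The count of pairs at the central involution
-/

set_option autoImplicit false

open Cfsg Subgroup

namespace Cfsg.Agent.J4Type.V11.AZ

open LargeExtra (oc oc_le)
open Cfsg.Agent.J4Type.Rep Cfsg.Agent.J4Type.Orbits

theorem seeds_not_last : ((List.range 3).all fun j => Nat.blt (classEdges.getD j (0, [])).1 6303) = true := by
  decide +kernel

theorem orbs2_len : orbs2.length = 4 := by decide +kernel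

/-- The number of the identity among the orbits. -/
def idCount : List Orb → ℕ
  | [] => 0
  | o :: os => (if o.rep = 6303 then 1 else 0) + idCount os

theorem idCount0 : idCount orbs0 = 1 := by decide +kernel

theorem idCount1 : idCount orbs1 = 1 := by decide +kernel

theorem orbTotal_eq (f : ℕ → ℕ) : ∀ os : List Orb,
    (∀ o ∈ os, o.rep ≠ 6303 → ∀ i ∈ pts o.rep o.edges, f i = o.val) →
    (∀ o ∈ os, o.rep = 6303 → o.edges.length = 0 ∧ f 6303 = o.val) →
    orbTotal os = ((opts os).map f).sum + idCount os * f 6303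
  | [], _, _ => by simp [opts, idCount, orbTotal]
  | o :: os, h, h' => by
    have ih := orbTotal_eq f os (fun a ha => h a (List.mem_cons_of_mem o ha))
      (fun a ha => h' a (List.mem_cons_of_mem o ha))
    show Nat.add (Nat.mul (Nat.add 1 o.edges.length) o.val) (orbTotal os) = _
    rw [show Nat.add (Nat.mul (Nat.add 1 o.edges.length) o.val) (orbTotal os) =
      (1 + o.edges.length) * o.val + orbTotal os from rfl, ih, opts, idCount]
    by_cases e : o.rep = 6303
    · obtain ⟨h0, hv⟩ := h' o List.mem_cons_self e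
      rw [if_pos e, if_pos e, h0, hv]; ring
    · rw [if_neg e, if_neg e, List.map_append, List.sum_append,
        sum_map_const (h o List.mem_cons_self e), pts, List.length_cons, List.length_map]
      ring

variable {G : Type*} [Group G] [Finite G] {z : G} {P : Subgroup G} {V : Type*} [AddCommGroup V]
  {π : ↥(oc z) →* Multiplicative V} {ρ : ↥(mSub z P) →* Equiv.Perm V} {q : V → ZMod 2} {B : List V}

/-- The pairs with the given first linear part. -/
noncomputable def A1 (S : Sys z P π ρ q B) (t : G) (γ : Equiv.Perm V) : ℕ :=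
  ∑ δ ∈ invs S, A2 z t P ρ γ δ

section Sys

variable (S : Sys z P π ρ q B)
include S

theorem a1_conj (t : G) {g : Equiv.Perm V} (hg : g ∈ ρ.range) (γ : Equiv.Perm V) :
    A1 S t (g * γ * g⁻¹) = A1 S t γ := by
  obtain ⟨n, hn, hnl⟩ := S.lift hg
  have hl : J4Type.lin ρ n = g := by rw [(S.D.lin_mSub hn).1, hnl]
  have hconj : ∀ {x : Equiv.Perm V} (h : Equiv.Perm V), h ∈ ρ.range → x ∈ invs S → h * x * h⁻¹ ∈ invs S := by
    intro x h hh hx
    rw [mem_invs S] at hx ⊢
    exact ⟨mul_mem (mul_mem hh hx.1) (inv_mem hh), by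
      rw [show h * x * h⁻¹ * (h * x * h⁻¹) = h * (x * x) * h⁻¹ by group, hx.2]; group⟩
  symm
  refine Finset.sum_nbij' (fun δ => g * δ * g⁻¹) (fun δ => g⁻¹ * δ * g) (fun δ hδ => hconj g hg hδ)
    (fun δ hδ => by have := hconj g⁻¹ (inv_mem hg) hδ; rwa [inv_inv] at this)
    (fun δ _ => by group) (fun δ _ => by group) fun δ _ => ?_
  have := a2_conj S t hn.1 γ δ
  rw [hl] at this
  exact this.symm

/-- A sum over the involutions, class by class. -/
theorem sum_invs (f : Equiv.Perm V → ℕ) (v : ℕ → ℕ)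
    (h : ∀ j < 3, ∀ g ∈ ρ.range, ∀ σ ∈ ρ.range, Pk B σ (sigOf j) → f (g * σ * g⁻¹) = v j)
    (h1 : f 1 = v 3) :
    ∑ γ ∈ invs S, f γ = 1155 * v 0 + 990 * v 1 + 4158 * v 2 + v 3 := by
  classical
  choose! e he using fun i (hi : i < 6304) => tau_pk S hi
  have himg : invs S = (Finset.range 6304).image e := by
    ext γ
    rw [mem_invs S, Finset.mem_image]
    constructor
    · rintro ⟨hγ, h2⟩
      obtain ⟨i, hi, hp⟩ := exists_tau S hγ h2
      exact ⟨i, Finset.mem_range.2 hi, Pk.inj S (he i hi).2.1 hp⟩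
    · rintro ⟨i, hi, rfl⟩
      exact ⟨(he i (Finset.mem_range.1 hi)).1, (he i (Finset.mem_range.1 hi)).2.2⟩
  have hinj : Set.InjOn e ↑(Finset.range 6304) := fun i hi k hk hik => by
    simp only [Finset.coe_range, Set.mem_Iio] at hi hk
    have a := (he i hi).2.1
    rw [hik] at a
    exact tauOf_inj S hi hk (Pk.unique S a (he k hk).2.1)
  rw [himg, Finset.sum_image hinj,
    show (6304 : ℕ) = 6303 + 1 from rfl, Finset.sum_range_succ]
  have hlast : e 6303 = 1 := Pk.inj S (tauOf_last ▸ (he 6303 (by norm_num)).2.1) (pk_one S)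
  rw [hlast, h1, ← sum_of_cover cpts_len (fun i hi => cpts_all hi), cpts, List.map_append, List.sum_append,
    List.map_append, List.sum_append]
  have hcl : ∀ j, j < 3 → ∀ i ∈ pts (classEdges.getD j (0, [])).1 (classEdges.getD j (0, [])).2,
      f (e i) = v j := by
    intro j hj i hi
    obtain ⟨g, hg, σ, hσ, hσp, -, hp⟩ := tab_class S hj rfl hi
    have hi' : i < 6303 := by
      have hseed : (classEdges.getD j (0, [])).1 < 6303 := by
        simpa [Nat.blt_eq] using List.all_eq_true.1 seeds_not_last j (List.mem_range.2 hj)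
      rcases List.mem_cons.1 hi with rfl | hi
      · exact hseed
      · refine treeK_sound (Q := fun s => s < 6303) (fun c p k hc _ _ _ => hc)
          (List.all_eq_true.1 class_trees (classEdges.getD j (0, [])) ?_) (fun s hs => ?_) i hi
        · rw [List.getD_eq_getElem _ _ (by rw [class_len]; exact hj)]
          exact List.getElem_mem _
        · rw [bit_one hs]; exact hseed
    have a := (he i (by omega)).2.1
    rw [tauOf_lt hi'] at a
    rw [Pk.inj S a hp, h j hj g hg σ hσ hσp]
  obtain ⟨l0, l1, l2⟩ := class_lens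
  rw [sum_map_const (hcl 0 (by norm_num)), sum_map_const (hcl 1 (by norm_num)),
    sum_map_const (hcl 2 (by norm_num)), l0, l1, l2]
  ring

end Sys

variable {S : Sys z P π ρ q B} {F : Frame S} (hF : F.Good) (C : ClassData z P π ρ B F.tt)
include hF C

/-- The sum over the orbits of a centraliser. -/
theorem a1_orbs {os : List Orb} {cw : List (List ℕ)} {cp : List ℕ} {j : ℕ} (hj : j < 4)
    (hcw : cw ⊆ centW0 ++ centW1) (hcp : cp = cw.map (wordP gensP))
    (hcomm : ∀ c ∈ cp, mulP c (sigOf j) = mulP (sigOf j) c)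
    (hos : os ⊆ orbs0 ++ orbs1 ++ orbs2) (hok : os.all (orbOK cp j) = true)
    (hun : Nat.beq (orbUnion os) (Nat.shiftLeft 1 6303 - 1) = true) (hpts : orbPoints os = 6303)
    (hid : idCount os = 1) (hlast : ∀ o ∈ os, o.rep = 6303 → o.edges.length = 0)
    {σ : Equiv.Perm V} (hσ : σ ∈ ρ.range) (hσp : Pk B σ (sigOf j)) :
    A1 S F.tt σ = orbTotal os := by
  classical
  choose! e he using fun i (hi : i < 6304) => tau_pk S hi
  have himg : invs S = (Finset.range 6304).image e := by
    ext γ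
    rw [mem_invs S, Finset.mem_image]
    constructor
    · rintro ⟨hγ, h2⟩
      obtain ⟨i, hi, hp⟩ := exists_tau S hγ h2
      exact ⟨i, Finset.mem_range.2 hi, Pk.inj S (he i hi).2.1 hp⟩
    · rintro ⟨i, hi, rfl⟩
      exact ⟨(he i (Finset.mem_range.1 hi)).1, (he i (Finset.mem_range.1 hi)).2.2⟩
  have hinj : Set.InjOn e ↑(Finset.range 6304) := fun i hi k hk hik => by
    simp only [Finset.coe_range, Set.mem_Iio] at hi hk
    have a := (he i hi).2.1
    rw [hik] at a
    exact tauOf_inj S hi hk (Pk.unique S a (he k hk).2.1)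
  rw [A1, himg, Finset.sum_image hinj,
    show (6304 : ℕ) = 6303 + 1 from rfl, Finset.sum_range_succ]
  set f := fun i => A2 z F.tt P ρ σ (e i) with hf
  have hokm : ∀ o ∈ os, orbOK cp j o = true ∧ (∀ k ∈ o.word, k < 4) := fun o ho =>
    ⟨List.all_eq_true.1 hok o ho, fun k hk => by
      simpa [Nat.blt_eq] using List.all_eq_true.1 (List.all_eq_true.1 orb_words o (hos ho)) k hk⟩
  have hrep : ∀ o ∈ os, o.rep < 6304 ∧ f o.rep = o.val := fun o ho => by
    obtain ⟨h1, h2⟩ := hokm o ho
    have hr : o.rep < 6304 := by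
      simp only [orbOK, Bool.and_eq_true, Nat.blt_eq] at h1
      exact h1.1.1.1.1.1.2
    exact ⟨hr, a2_eval hF C hj h1 h2 hσ hσp (he _ hr).1 (he _ hr).2.1⟩
  have hgs : ∀ k < cp.length, ∃ g ∈ ρ.range, Pk B g (cp.getD k 0) ∧ g * σ = σ * g := by
    intro k hk
    have hkw : k < cw.length := by rw [hcp, List.length_map] at hk; exact hk
    obtain ⟨g, hg, hgx⟩ := word_pk S (gs := gensP) (fun i hi => gen_pk S hi) (w := cw[k])
      (fun i hi => by
        rw [gens_len]
        simpa [Nat.blt_eq] using List.all_eq_true.1 (List.all_eq_true.1 words_ok _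
          (hcw (List.getElem_mem hkw))) i hi)
    have hget : cp.getD k 0 = wordP gensP cw[k] := by
      rw [List.getD_eq_getElem _ _ hk]; simp [hcp]
    refine ⟨g, hg, hget ▸ hgx, Pk.inj S (hgx.mul hσp) ?_⟩
    rw [hcomm _ (by rw [← hget, List.getD_eq_getElem _ _ hk]; exact List.getElem_mem _)]
    exact hσp.mul hgx
  have hval : ∀ o ∈ os, o.rep ≠ 6303 → ∀ i ∈ pts o.rep o.edges, f i = o.val := by
    intro o ho hne i hi
    obtain ⟨h1, -⟩ := hokm o ho
    obtain ⟨hr, hv⟩ := hrep o ho
    simp only [orbOK, Bool.and_eq_true] at h1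
    have hr' : o.rep < 6303 := by omega
    have h0 : ∀ s, bit (Nat.shiftLeft 1 o.rep) s = true → s < 6303 ∧ f s = o.val := fun s hs => by
      rw [bit_one hs]; exact ⟨hr', hv⟩
    rcases List.mem_cons.1 hi with rfl | hi
    · exact hv
    refine (treeK_sound (Q := fun s => s < 6303 ∧ f s = o.val) ?_ h1.1.2 h0 i hi).2
    rintro c p k hc hk heq ⟨hp, hpv⟩
    obtain ⟨g, hg, hgx, hgσ⟩ := hgs k hk
    obtain ⟨n, hn, hnl⟩ := S.lift hg
    have hl : J4Type.lin ρ n = g := by rw [(S.D.lin_mSub hn).1, hnl]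
    have hec : e c = g * e p * g⁻¹ := by
      refine Pk.inj S (tauOf_lt hc ▸ (he c (by omega)).2.1) ?_
      exact pk_of_conj S (he p (by omega)).1 hg hgx (tauOf_lt hp ▸ (he p (by omega)).2.1)
        (Nat.eq_of_beq_eq_true (List.all_eq_true.1 tab_enc c (List.mem_range.2 hc))) heq
    refine ⟨hc, ?_⟩
    rw [← hpv, hf]
    show A2 z F.tt P ρ σ (e c) = A2 z F.tt P ρ σ (e p)
    have h2 := a2_conj S F.tt hn.1 σ (e p)
    rw [hl, hgσ, mul_inv_cancel_right, ← hec] at h2
    exact h2
  rw [orbTotal_eq f os hval (fun o ho e6 => ⟨hlast o ho e6, e6 ▸ (hrep o ho).2⟩), hid, one_mul,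
    sum_of_cover (by rw [length_opts, hpts]) (fun i hi => mem_opts ((Nat.eq_of_beq_eq_true hun) ▸ bit_all hi)) f]

theorem a1_outer_long {σ : Equiv.Perm V} (hσp : Pk B σ (sigOf 2)) : A1 S F.tt σ = 0 := by
  refine Finset.sum_eq_zero fun δ _ => ?_
  rw [A2, Nat.card_eq_zero]
  left
  refine ⟨fun ⟨p, ⟨hx, _, _⟩, ⟨hxH, hxl⟩, _⟩ => ?_⟩
  obtain ⟨a, ha, ea⟩ := S.M.code_cases (trans π P p.1)
  have h := C.z_num 2 (by norm_num) a ha
  rw [Nat.eq_of_beq_eq_true (List.all_eq_true.1 no_z_two a (List.mem_range.2 ha))] at h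
  haveI : Nonempty {h : G // Fib z P π ρ B (sigOf 2) a h ∧ IsConj z h} :=
    ⟨⟨p.1, ⟨hxH, hxl ▸ hσp, ea.symm⟩, hx⟩⟩
  exact Nat.card_pos.ne' h

theorem a1_one : A1 S F.tt 1 = 356767488 := by
  classical
  have hcls : orbs2.map Orb.cls = [0, 1, 2, 3] := eqM_iff.1 orbs2_cls
  have hvals : orbs2.map Orb.val = [12288, 0, 81920, 1951488] := eqM_iff.1 orbs2_vals
  obtain ⟨σ1, hσ1, hσ1p, -⟩ := sig_pk S (j := 3) (by norm_num)
  have hone : σ1 = 1 := Pk.inj S hσ1p (by
    have h : sigOf 3 = idP := by decide +kernel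
    rw [h]; exact pk_one S)
  rw [hone] at hσ1p
  have key : ∀ i < 4, ∀ δ ∈ ρ.range, Pk B δ (sigOf i) →
      A2 z F.tt P ρ 1 δ = [12288, 0, 81920, 1951488].getD i 0 := by
    intro i hi δ hδ hδp
    have hlen : i < orbs2.length := orbs2_len ▸ hi
    have hm := List.getElem_mem hlen
    have hok := List.all_eq_true.1 orbs2_ok _ hm
    have hsh := List.all_eq_true.1 orbs2_shape _ hm
    have hc : orbs2[i].cls = i := by
      have h2 : (orbs2.map Orb.cls)[i]'(by rw [List.length_map]; exact hlen) = i := by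
        simp only [hcls]; interval_cases i <;> rfl
      rwa [List.getElem_map] at h2
    have hv : orbs2[i].val = [12288, 0, 81920, 1951488].getD i 0 := by
      have h2 : (orbs2.map Orb.val).getD i 0 = [12288, 0, 81920, 1951488].getD i 0 := by rw [hvals]
      rwa [List.getD_eq_getElem _ _ (by rw [List.length_map]; exact hlen), List.getElem_map] at h2
    simp only [Bool.and_eq_true, Bool.or_eq_true, Nat.blt_eq, hc] at hsh
    rw [← hv]
    refine a2_eval hF C (j := 3) (by norm_num) hok (fun k hk => ?_) (one_mem _) hσ1p hδ ?_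
    · simpa [Nat.blt_eq] using List.all_eq_true.1 (List.all_eq_true.1 orb_words _
        (List.mem_append_right _ hm)) k hk
    rcases hsh.2 with ⟨h3, h6⟩ | ⟨h3, hr⟩
    · rw [Nat.eq_of_beq_eq_true h6, tauOf_last]
      have : sigOf 3 = idP := by decide +kernel
      rwa [Nat.eq_of_beq_eq_true h3, this] at hδp
    · have hs := List.all_eq_true.1 class_seeds i (List.mem_range.2 h3)
      simp only [Bool.and_eq_true, Nat.blt_eq] at hs
      rw [Nat.eq_of_beq_eq_true hr, tauOf_lt hs.1, Nat.eq_of_beq_eq_true hs.2]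
      exact hδp
  rw [A1, sum_invs S (fun δ => A2 z F.tt P ρ 1 δ) (fun i => [12288, 0, 81920, 1951488].getD i 0) ?_
    (key 3 (by norm_num) 1 (one_mem _) hσ1p)]
  · rfl
  intro j hj g hg σ hσ hσp
  obtain ⟨n, hn, hnl⟩ := S.lift hg
  have hl : J4Type.lin ρ n = g := by rw [(S.D.lin_mSub hn).1, hnl]
  have h2 := a2_conj S F.tt hn.1 1 σ
  rw [hl, mul_one, mul_inv_cancel] at h2
  rw [h2, key j (by omega) σ hσ hσp]

/-- **The pairs at the central involution.** -/
theorem card_pairs_of_classData : Nat.card (Order.Pairs z F.tt z) = 29236337328 := by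
  rw [pairs_split S (t := F.tt) (F.grp_sq (F.phi_mem t0_lt))]
  show ∑ γ ∈ invs S, A1 S F.tt γ = _
  have hlast := one_last
  simp only [Bool.and_eq_true, beq_iff_eq] at hlast
  have hl : ∀ os : List Orb, (os.filter fun o => Nat.beq o.rep 6303).map (·.edges.length) = [0] →
      ∀ o ∈ os, o.rep = 6303 → o.edges.length = 0 := fun os h o ho e => by
    have : o.edges.length ∈ (os.filter fun o => Nat.beq o.rep 6303).map (·.edges.length) :=
      List.mem_map.2 ⟨o, List.mem_filter.2 ⟨ho, by rw [e]; rfl⟩, rfl⟩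
    rw [h] at this
    exact List.mem_singleton.1 this
  have h0 := cent0_ok
  have h1 := cent1_ok
  simp only [Bool.and_eq_true, List.all_eq_true] at h0 h1
  rw [sum_invs S (A1 S F.tt) (fun j => [24701968, 352320, 0, 356767488].getD j 0) ?_ (a1_one hF C)]
  · rfl
  intro j hj g hg σ hσ hσp
  rw [a1_conj S F.tt hg]
  interval_cases j
  · rw [a1_orbs hF C (os := orbs0) (cw := centW0) (cp := centP0) (by norm_num) (List.subset_append_left _ _)
      (eqM_iff.1 h0.1) (fun c hc => Nat.eq_of_beq_eq_true (h0.2 c hc))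
      (fun o ho => List.mem_append_left _ (List.mem_append_left _ ho)) orbs0_ok orbs0_union orbs0_points
      idCount0 (hl _ hlast.1) hσ hσp, orbs0_total]
    rfl
  · rw [a1_orbs hF C (os := orbs1) (cw := centW1) (cp := centP1) (by norm_num) (List.subset_append_right _ _)
      (eqM_iff.1 h1.1) (fun c hc => Nat.eq_of_beq_eq_true (h1.2 c hc))
      (fun o ho => List.mem_append_left _ (List.mem_append_right _ ho)) orbs1_ok orbs1_union orbs1_points
      idCount1 (hl _ hlast.2) hσ hσp, orbs1_total]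
    rfl
  · rw [a1_outer_long hF C hσp]
    rfl

end Cfsg.Agent.J4Type.V11.AZ
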