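import Cfsg.Agent.J4Type.Order.ZClassX
import Cfsg.Agent.J4Type.Order.ZCount

/-!
# The classes of the involutions over each involution of the linear group

Over the identity the classes are read from the orbits in `E`; over an outer representative the image
under the exchanging element decides the fibre of the zero vector and translations give the others; over
the inner representative the fibres are moved into the elementary abelian group of order `2 ^ 11` or into
the kernel set, where a count in the intersection shows that no conjugate of `z` is left.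
-/

set_option autoImplicit false
set_option maxRecDepth 100000

open Cfsg Subgroup

namespace Cfsg.Agent.J4Type.V11.AZ

open LargeExtra (oc oc_le oc_conj_mem conj_mem_oc)
open Cfsg.Agent.J4Type.Rep Cfsg.Agent.J4Type.Orbits

variable {G : Type*} [Group G] [Finite G] {z : G} {P : Subgroup G} {V : Type*} [AddCommGroup V]
  {π : ↥(oc z) →* Multiplicative V} {ρ : ↥(mSub z P) →* Equiv.Perm V} {q : V → ZMod 2} {B : List V}

/-- The weight of a code in the inner sum. -/
noncomputable def innerW' (r : ℕ) : ℕ := cond (fixB 0 r && inW r) (wCount (wc r)) 0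

theorem inner_rec : ∀ l : List ℕ, List.rec (motive := fun _ => ℕ) 0
    (fun r _ s => cond (fixB 0 r && inW r) (Nat.add (wCount (wc r)) s) s) l = (l.map innerW').sum
  | [] => rfl
  | a :: l => by
    show cond (fixB 0 a && inW a) (Nat.add (wCount (wc a)) _) _ = _
    rw [inner_rec l, List.map_cons, List.sum_cons, innerW']
    cases fixB 0 a && inW a
    · exact (zero_add _).symm
    · rfl

theorem sum_pointwise (f g : ℕ → ℕ) : ∀ l : List ℕ, (∀ a ∈ l, f a ≤ g a) →
    (l.map f).sum = (l.map g).sum → ∀ a ∈ l, f a = g a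
  | [], _, _ => fun a ha => absurd ha List.not_mem_nil
  | b :: l, hle, hs => by
    have h1 := hle b List.mem_cons_self
    have h2 : (l.map f).sum ≤ (l.map g).sum :=
      List.sum_le_sum fun a ha => hle a (List.mem_cons_of_mem b ha)
    rw [List.map_cons, List.map_cons, List.sum_cons, List.sum_cons] at hs
    intro a ha
    rcases List.mem_cons.1 ha with rfl | ha
    · omega
    · exact sum_pointwise f g l (fun a ha => hle a (List.mem_cons_of_mem b ha)) (by omega) a ha

variable {S : Sys z P π ρ q B} {F : Frame S}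

open Frame' (WNum num_none num_two_z num_two_t num_one_one tt_sq)

include S in
/-- Conjugate fibres have the same tabulated numbers. -/
theorem num_transfer {j c v a a' : ℕ} {n : G} (hj : j < 4) (hn : Fib z P π ρ B c v n) (ha : a < 4096)
    (hv : v < 4096) (hc : mulP c (sigOf j) = mulP (sigOf j) c)
    (e : a' = mulP c a ^^^ v ^^^ mulP (sigOf j) v) (hw : sameW j a a' = true) :
    (WNum F j a' → WNum F j a) ∧ (WNum F j a → WNum F j a') := by
  obtain ⟨σ, hσ, hσp, -⟩ := sig_pk S hj
  have h := fun u => fibNum_conj S hn ha hv hc ⟨σ, hσp⟩ ⟨σ, hσ, hσp⟩ u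
  obtain ⟨w1, w2⟩ := sameW_eq hw
  rw [WNum, WNum, e, h z, h F.tt, ← e, w1, w2]
  exact ⟨id, id⟩

variable (hF : F.Good)

section Core

include hF

/-- Over the identity. -/
theorem num_core {a : ℕ} (ha : a < 4096) : WNum F 3 a := by
  have hw := all_range core_ok ha
  have hs : sigOf 3 = idP := sigOf_eq.2.2.2
  obtain ⟨k, hk, hv⟩ := S.exists_code a
  have hf : Fib z P π ρ B (sigOf 3) a k := hs ▸ oc_fib S hk hv
  unfold coreW at hw
  by_cases h0 : a = 0
  · subst h0
    rw [Nat.beq_refl, cond_true, Bool.and_eq_true, Nat.beq_eq, Nat.beq_eq] at hw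
    classical
    have h1 : Fib z P π ρ B (sigOf 3) 0 (1 : G) := hs ▸ fib_one S
    have hne : ¬ IsConj z (1 : G) := fun h => S.D.z_ne (isConj_one_left.1 h)
    refine ⟨?_, ?_⟩
    · rw [fibNum_pair S h1, one_mul, if_neg hne, if_pos (IsConj.refl z), hw.1]
    · rw [fibNum_pair S h1, one_mul, if_neg (fun h => F.tt_ne_one (isConj_one_left.1 h)),
        if_neg (fun h => F.not_conj_tt h.symm), hw.2]
  rw [show Nat.beq a 0 = false by rw [← Bool.not_eq_true, Nat.beq_eq]; exact h0, cond_false] at hw
  cases hq : bit qBits a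
  · rw [hq, cond_false] at hw
    have hk2 : k * k = 1 := by
      rw [S.sq_code hk ha hv, ← beq_iff_eq.1 (all_range qBits_ok ha), hq]; rfl
    have hvne : vec π k ≠ 0 := fun h => h0 ((S.M.lin_eq_zero ha).1 (hv.symm.trans h))
    have hk1 : k ≠ 1 := fun h => hvne (by rw [h, vec_one])
    have hvz : vec π (k * z) = Rep.lin B a := by rw [vec_mul hk S.D.z_mem, S.D.vec_z, add_zero, hv]
    have hkz1 : k * z ≠ 1 := fun h => hvne (by rw [hv, ← hvz, h, vec_one])
    cases hb : bit Short.orbBits a
    · rw [hb, cond_false, Bool.and_eq_true, Bool.and_eq_true, Nat.beq_eq, Nat.beq_eq] at hw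
      exact num_two_t F hF hf hk2 hk1 hkz1
        (fun h => by rw [(oc_class S hk ha hv h0).1 h] at hb; exact Bool.noConfusion hb)
        (fun h => by
          rw [(oc_class S (mul_mem hk S.D.z_mem) ha hvz h0).1 h] at hb; exact Bool.noConfusion hb)
        ⟨hw.1.2, hw.2⟩
    · rw [hb, cond_true, Bool.and_eq_true, Nat.beq_eq, Nat.beq_eq] at hw
      exact num_two_z F hf ((oc_class S hk ha hv h0).2 hb)
        ((oc_class S (mul_mem hk S.D.z_mem) ha hvz h0).2 hb) hw
  · rw [hq, cond_true] at hw
    refine num_none F hw fun g hg e => ?_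
    obtain ⟨hgo, hgv⟩ := fib_idP S (hs ▸ hg)
    have h := S.sq_code hgo ha hgv
    rw [e, ← beq_iff_eq.1 (all_range qBits_ok ha), hq] at h
    exact S.D.z_ne h.symm

end Core

omit F in
include S in
/-- An element over an outer representative and the zero vector lies in `X`. -/
theorem exists_x_base (X : XData S) {j i : ℕ} (hj : j < 3) (hi : i < 32)
    (hs : sigOf j = enc (qList.getD i [])) :
    ∃ h, h ∈ xSub z X.u ∧ Fib z P π ρ B (sigOf j) 0 h ∧ h * h = 1 ∧ J4Type.lin ρ h ≠ 1 ∧
      h * z ∈ xSub z X.u := by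
  obtain ⟨σ, hσ, hσp, -⟩ := sig_pk S (j := j) (by omega)
  obtain ⟨h, hh⟩ := exists_fib S hσ hσp 0
  have hl : i < qList.length := qList_len ▸ hi
  have hM : ∃ M ∈ qList, enc M = sigOf j :=
    ⟨_, List.getElem_mem hl, by rw [hs, List.getD_eq_getElem _ _ hl]⟩
  have h0 : 0 ∈ kList := by decide +kernel
  have hinv := all_range sig_invol hj
  rw [Bool.and_eq_true, Bool.not_eq_true', Nat.beq_eq] at hinv
  have hne : sigOf j ≠ idP := fun e => by rw [e, Nat.beq_refl] at hinv; exact Bool.noConfusion hinv.1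
  exact ⟨h, X.fib_mem hh hM h0, hh, X.x_sq (X.fib_mem hh hM h0) hh (by norm_num) hinv.2 (hσp.zero S),
    lin_ne_one S hh hne, X.fib_mem (fib_mul_z S hh) hM h0⟩

omit F in
include S in
/-- The facts on the vector of an involution of `X` under the exchanging element. -/
theorem x_facts (X : XData S) {j a : ℕ} {h : G} (hh : h ∈ xSub z X.u)
    (hf : Fib z P π ρ B (sigOf j) a h) (hsq : h * h = 1) (hl : J4Type.lin ρ h ≠ 1) :
    ∃ v < 4096, vec π (X.s * h * X.s⁻¹) = Rep.lin B v ∧ v ≠ 0 ∧ v ≠ Short.v0 ∧ v ∉ kList ∧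
      bit qBits v = false ∧
      (IsConj z h ↔ bit Short.orbBits v = true) ∧
      (shortFixK j = 11 → bit Long.orbBits v = true) ∧
      (shortFixK j = 19 → Bool.xor (bit Short.orbBits v) (bit Short.orbBits (v ^^^ Short.v0)) = true) ∧
      (shortFixK j = 17 → bit Long.orbBits v = true → shortSumK v = 12) := by
  obtain ⟨v, hv, hev, hq, hb, hK⟩ := X.x_vec hh hl hsq
  have hk0 : 0 ∈ kList ∧ Short.v0 ∈ kList := by decide +kernel
  have hv0 : v ≠ 0 := fun e => hK (e ▸ hk0.1)
  have hc := X.perp_count hh hf hv hev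
  have h := all_range vec_ok hv
  have hm : memB v kList = false := by
    rw [← Bool.not_eq_true, memB, List.any_eq_true]
    rintro ⟨r, hr, e⟩
    exact hK (Nat.eq_of_beq_eq_true e ▸ hr)
  simp only [vecOK, hq, hb, hm, Bool.false_or, Bool.and_eq_true, Bool.or_eq_true, Bool.not_eq_true', hc,
    show Nat.xor v Short.v0 = v ^^^ Short.v0 from rfl] at h
  refine ⟨v, hv, hev, hv0, fun e => hK (e ▸ hk0.2), hK, hq, ?_, fun e => ?_, fun e => ?_, fun e hlong => ?_⟩
  · rw [← oc_class S (X.conj_x hh).1 hv hev hv0, isConj_conj_iff]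
  · exact h.1.1.resolve_left (by rw [e, Nat.beq_refl]; decide)
  · exact h.1.2.resolve_left (by rw [e, Nat.beq_refl]; decide)
  · rcases h.2 with (h' | h') | h'
    · rw [e, Nat.beq_refl] at h'; exact Bool.noConfusion h'
    · rw [hlong] at h'; exact Bool.noConfusion h'
    · exact Nat.eq_of_beq_eq_true h'

section Outer

include hF

/-- Over the outer representatives. -/
theorem num_outer {j a : ℕ} {rows : List (ℕ × ℕ)} (hj : j = 1 ∨ j = 2)
    (hrows : ((List.range 4096).all (transCover j rows)) = true) (ha : a < 4096) : WNum F j a := by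
  have hj4 : j < 4 := by omega
  have hbase : WNum F j 0 := by
    obtain ⟨X⟩ := exists_xdata S
    have hw := outer_base
    simp only [Bool.and_eq_true, Nat.beq_eq] at hw
    have hfx := short_fixK
    simp only [Bool.and_eq_true, Nat.beq_eq] at hfx
    obtain ⟨i, hi, hs⟩ : ∃ i < 32, sigOf j = enc (qList.getD i []) := by
      rcases hj with rfl | rfl
      exacts [⟨16, by norm_num, sigOf_eq.2.1⟩, ⟨17, by norm_num, sigOf_eq.2.2.1⟩]
    obtain ⟨h, hh, hf, hsq, hl, hhz⟩ := exists_x_base X (by omega : j < 3) hi hs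
    have h1 : h ≠ 1 := fun e => hl (by rw [e, (S.D.lin_oc (one_mem _)).1])
    have hl' : J4Type.lin ρ (h * z) ≠ 1 := by
      rwa [(S.D.lin_mul hf.1 (oc_le z S.D.z_mem)).1, (S.D.lin_oc S.D.z_mem).1, mul_one]
    have hz1 : h * z ≠ 1 := fun e => hl' (by rw [e, (S.D.lin_oc (one_mem _)).1])
    obtain ⟨v, hv, hev, hv0, hvv, -, -, hcl, h11, h19, -⟩ := x_facts X hh hf hsq hl
    rcases hj with rfl | rfl
    · refine num_one_one F hF hf hsq h1 hz1 ?_ ⟨hw.1.1.1, hw.1.1.2⟩
      have hv' : v ^^^ Short.v0 ≠ 0 := fun e => hvv (Nat.xor_eq_zero_iff.1 e)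
      have hlt := xor_lt hv short.v₀_lt
      have hev' : vec π (X.s * (h * z) * X.s⁻¹) = Rep.lin B (v ^^^ Short.v0) := by
        rw [show X.s * (h * z) * X.s⁻¹ = X.s * h * X.s⁻¹ * (X.s * z * X.s⁻¹) by group, X.sz,
          vec_mul (X.conj_x hh).1 X.N.conf.mem, hev, X.N.vec_u, S.M.lin_add]
      have hcl' : IsConj z (h * z) ↔ bit Short.orbBits (v ^^^ Short.v0) = true := by
        rw [← oc_class S (X.conj_x hhz).1 hlt hev' hv', isConj_conj_iff]
      rw [hcl, hcl']
      have := h19 hfx.1.2
      revert this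
      cases bit Short.orbBits v <;> cases bit Short.orbBits (v ^^^ Short.v0) <;> simp
    · obtain ⟨v', hv', -, -, -, -, -, hcl', h11', -, -⟩ :=
        x_facts X hhz (fib_mul_z S hf) (by rw [mul_z_sq S hf.1, hsq]) hl'
      have hno : ∀ {w : ℕ}, w < 4096 → bit Long.orbBits w = true → ¬ bit Short.orbBits w = true :=
        fun {w} hw hlw hsw => by
          have := all_range short_long hw
          rw [hlw, hsw] at this
          exact Bool.noConfusion this
      exact num_two_t F hF hf hsq h1 hz1 (fun e => hno hv (h11 hfx.2) (hcl.1 e))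
        (fun e => hno hv' (h11' hfx.2) (hcl'.1 e)) ⟨hw.1.2, hw.2⟩
  have h := all_range hrows ha
  unfold transCover at h
  cases hfix : fixB j a
  · rw [hfix, cond_false] at h
    refine num_none F h fun g hg => moved_sq S hg ha ?_
    rw [Ne, ← fixB_iff, hfix]; exact Bool.false_ne_true
  · rw [hfix, cond_true, Bool.and_eq_true, List.any_eq_true] at h
    obtain ⟨hw, e, -, he⟩ := h
    simp only [Bool.and_eq_true, Nat.beq_eq] at he
    obtain ⟨⟨-, hv⟩, hva⟩ := he
    have hv := blt_nat hv
    obtain ⟨n, hn⟩ := exists_fib S (γ := 1) (one_mem _) (pk_one S) e.2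
    obtain ⟨σ, -, hσp, -⟩ := sig_pk S hj4
    have hid : ∀ r < 4096, mulP idP r = r := fun r hr => by
      refine S.lin_lt_inj ((pk_one S).lt hr) hr ?_
      rw [← (pk_one S).apply hr, Equiv.Perm.one_apply]
    have hc : mulP idP (sigOf j) = mulP (sigOf j) idP :=
      Pk.unique S ((one_mul σ).symm ▸ (pk_one S).mul hσp) ((mul_one σ).symm ▸ hσp.mul (pk_one S))
    have ea : a = mulP idP 0 ^^^ e.2 ^^^ mulP (sigOf j) e.2 := by
      rw [hid 0 (by norm_num), Nat.zero_xor]; exact hva.symm
    have hw' : sameW j 0 a = true := by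
      obtain ⟨w1, w2⟩ := sameW_eq hw
      simp only [sameW, w1, w2, Nat.beq_refl, Bool.and_self]
    exact (num_transfer hj4 hn (by norm_num) hv hc ea hw').2 hbase

end Outer

section Inner

omit F in
include S in
theorem phi_fib (F : Frame S) {x : ℕ} (hx : x = 640 ∨ x = 704) :
    Fib z P π ρ B (sigOf 0) 0 (F.phi x) := by
  have hb : Fib z P π ρ B (sigOf 0) 0 (F.phi 640) := by
    obtain ⟨h1, h2⟩ := F.phi_high (m := 5) (by norm_num)
    obtain ⟨h3, h4⟩ := S.D.lin_mSub (cSub_le_mSub z P h1)
    refine ⟨h1.1, ?_, h4.trans (Rep.lin_zero B).symm⟩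
    rw [show (640 : ℕ) = 128 * 5 by norm_num, h3]
    exact ⟨ql 5, Sys.ql_good S 5, sigOf_eq.1.symm, h2⟩
  rcases hx with rfl | rfl
  · exact hb
  · rw [show (704 : ℕ) = 640 ^^^ 64 by decide, F.phi_xor, F.phi_z]
    exact fib_mul_z S hb

omit F in
include S in
/-- An element over the inner representative from one of `E`. -/
theorem fib_left (F : Frame S) {g : G} {r : ℕ} (hg : g ∈ oc z) (hv : vec π g = Rep.lin B r) :
    Fib z P π ρ B (sigOf 0) r (g * F.phi 704) := by
  have h := fib_mul S (oc_fib S hg hv) (phi_fib F (Or.inr rfl)) (by norm_num)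
  obtain ⟨σ, -, hσp, -⟩ := sig_pk S (j := 0) (by norm_num)
  rw [(pk_one S).zero S, Nat.xor_zero,
    Pk.unique S (γ := σ) (x := mulP idP (sigOf 0)) (y := sigOf 0) (by
      have h1 := (pk_one S).mul hσp
      rwa [one_mul] at h1) hσp] at h
  exact h

omit F in
include S in
theorem phi_wv (F : Frame S) {k : ℕ} (hk : k < 64) :
    F.phi k ∈ oc z ∧ vec π (F.phi k) = Rep.lin B (wv k) ∧
      F.phi k * F.phi 704 = F.phi (704 + k) ∧ F.phi k * z * F.phi 704 = F.phi (640 + k) := by
  have h := all_range code_w hk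
  simp only [Bool.and_eq_true, Nat.beq_eq] at h
  refine ⟨F.phi_oc (by omega), by rw [F.vec_phi (by omega), Nat.mod_eq_of_lt hk], ?_, ?_⟩
  · rw [← F.phi_xor, Nat.xor_comm, h.1.1.1]
  · refine (congrArg (fun w => F.phi k * w * F.phi 704) F.phi_z.symm).trans ?_
    rw [← F.phi_xor, ← F.phi_xor, Nat.xor_comm, h.1.1.2]

include hF

/-- Fibres over the inner representative in the fixed space. -/
theorem num_inner_w {a : ℕ} (ha : a < 4096) (hfix : fixB 0 a = true) (hq : bit qBits a = false)
    (hW : inW a = true) : WNum F 0 a := by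
  classical
  have e := inW_iff.1 hW
  set k := wc a with hkdef
  have hk : k < 64 := wc_lt a
  obtain ⟨hg, hv, e1, e2⟩ := phi_wv F hk
  rw [e] at hv
  have hf := fib_left F hg hv
  rw [e1] at hf
  have hsec : ∀ x, 640 ≤ x → x < 768 → (IsConj z (F.phi x) ↔ tB 370 x = false) := fun x h1 h2 => by
    have h := F.sec_iff hF (x := x) (by omega)
    rw [← Bool.not_eq_true, ← h, Frame.sec, not_and, not_not]
    exact ⟨fun hh _ => hh, fun hh => hh (by omega)⟩
  have hmul : F.phi (704 + k) * z = F.phi (640 + k) := by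
    rw [← e1, ← e2, mul_assoc, mul_assoc, (S.D.comm_z (F.phi_mem_H 704)).eq]
  have hw := all_range inner_w hk
  unfold innerW at hw
  rw [show wv k = a from e, hfix, hq] at hw
  simp only [Bool.not_true, Bool.false_or, Bool.and_eq_true, Nat.beq_eq] at hw
  have hne : ∀ x, 640 ≤ x → x < 768 → F.phi x ≠ 1 := fun x h1 h2 h => by
    have := F.phi_eq_one (x := x) (by omega) h; omega
  have hz' := hsec (640 + k) (by omega) (by omega)
  have ht' := hsec (704 + k) (by omega) (by omega)
  obtain ⟨hw1, hw2⟩ := hw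
  rw [show Nat.add (zW 0 a) (tW 0 a) = zW 0 a + tW 0 a from rfl, hw1] at hw2
  have hcount : wCount k = (if tB 370 (640 + k) = true then 0 else 1) + (if tB 370 (704 + k) = true then 0 else 1) := by
    unfold wCount
    cases tB 370 (640 + k) <;> cases tB 370 (704 + k) <;> rfl
  by_cases hA : tB 370 (704 + k) = true <;> by_cases hB : tB 370 (640 + k) = true
  · rw [hcount, if_pos hA, if_pos hB] at hw1 hw2
    exact num_two_t F hF hf (F.phi_sq _) (hne _ (by omega) (by omega))
      (by rw [hmul]; exact hne _ (by omega) (by omega))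
      (fun h => by rw [ht'.1 h] at hA; exact Bool.noConfusion hA)
      (fun h => by rw [hmul] at h; rw [hz'.1 h] at hB; exact Bool.noConfusion hB) ⟨hw1, by omega⟩
  · rw [hcount, if_pos hA, if_neg hB] at hw1 hw2
    rw [Bool.not_eq_true] at hB
    refine num_one_one F hF hf (F.phi_sq _) (hne _ (by omega) (by omega))
      (by rw [hmul]; exact hne _ (by omega) (by omega)) ?_ ⟨hw1, by omega⟩
    rw [hmul, ht', hz', hA, hB]; decide
  · rw [hcount, if_neg hA, if_pos hB] at hw1 hw2
    rw [Bool.not_eq_true] at hA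
    refine num_one_one F hF hf (F.phi_sq _) (hne _ (by omega) (by omega))
      (by rw [hmul]; exact hne _ (by omega) (by omega)) ?_ ⟨hw1, by omega⟩
    rw [hmul, ht', hz', hA, hB]; decide
  · rw [hcount, if_neg hA, if_neg hB] at hw1 hw2
    rw [Bool.not_eq_true] at hA hB
    exact num_two_z F hf (ht'.2 hA) (by rw [hmul]; exact hz'.2 hB) ⟨hw1, by omega⟩

/-- Outside the fixed space the kernel set carries no conjugate of `z` over the inner representative. -/
theorem inner_outside (X : XData S) {r : ℕ} (hr : r ∈ kList) (hfix : fixB 0 r = true) (hW : inW r = false)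
    {g : G} (hg : g ∈ oc z) (hv : vec π g = Rep.lin B r) : ¬ IsConj z (F.phi 704 * g) := by
  classical
  have hxM : ∃ M ∈ qList, enc M = sigOf 0 := by
    obtain ⟨M, hM, e⟩ := List.any_eq_true.1 ql5_mem
    exact ⟨M, hM, by rw [sigOf_eq.1, eqM_iff.1 e]⟩
  have hf := phi_fib F (x := 704) (Or.inr rfl)
  have h0 : 0 ∈ kList := by decide +kernel
  have hh := X.fib_mem hf hxM h0
  have hne : sigOf 0 ≠ idP := fun e => by
    have := all_range sig_invol (show 0 < 3 by norm_num)
    rw [Bool.and_eq_true, e, Nat.beq_refl] at this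
    exact Bool.noConfusion this.1
  obtain ⟨v, hvlt, hev, hv0, -, hK, hqv, hcl, -, -, h17⟩ :=
    x_facts X hh hf (F.phi_sq 704) (lin_ne_one S hf hne)
  have hbt : ¬ IsConj z (F.phi 704) := ((F.sec_iff hF (by norm_num)).2 phi704_sec).2
  have hlong : bit Long.orbBits v = true := by
    have hc := all_range sing_cover hvlt
    rw [beq_iff_eq.1 (all_range qBits_ok hvlt)] at hqv
    simp only [hqv, Bool.false_or, Bool.or_eq_true] at hc
    rcases hc with (h | h) | h
    · exact absurd (beq_nat h) hv0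
    · exact absurd (hcl.2 h) hbt
    · exact h
  have h17' := h17 (by
    have := short_fixK
    simp only [Bool.and_eq_true, Nat.beq_eq] at this
    exact this.1.1) hlong
  have hK' : ∀ s ∈ kList, v ^^^ s ≠ 0 := fun s hs e => hK (Nat.xor_eq_zero_iff.1 e ▸ hs)
  -- in `E`
  have hE : Nat.card {k : G // k ∈ oc z ⊓ oc X.u ∧
      (Commute k (X.s * F.phi 704 * X.s⁻¹) ∧ IsConj z (X.s * F.phi 704 * X.s⁻¹ * k))} = 24 := by
    rw [X.count_inter, show (24 : ℕ) = 2 * shortSumK v by rw [h17'], shortSumK, ← sum_two]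
    refine congrArg List.sum (List.map_congr_left fun s hs => ?_)
    obtain ⟨k, hk, hkv⟩ := S.exists_code s
    have he := (X.conj_x hh).1
    have key : ∀ k, k ∈ oc z → vec π k = Rep.lin B s →
        ((Commute k (X.s * F.phi 704 * X.s⁻¹) ∧ IsConj z (X.s * F.phi 704 * X.s⁻¹ * k)) ↔
          (!bvB v s && bit Short.orbBits (Nat.xor v s)) = true) := fun k hk hkv => by
      have hvs : vec π (X.s * F.phi 704 * X.s⁻¹ * k) = Rep.lin B (v ^^^ s) := by
        rw [vec_mul he hk, hev, hkv, S.M.lin_add]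
      rw [X.commute_perp he hk hvlt (kList_small hs) hev hkv,
        oc_class S (mul_mem he hk) (xor_lt hvlt (kList_small hs)) hvs (hK' s hs), Bool.and_eq_true,
        Bool.not_eq_true']
      rfl
    have a1 := key k hk hkv
    have a2 := key (k * z) (mul_mem hk S.D.z_mem) (by rw [vec_mul hk S.D.z_mem, S.D.vec_z, add_zero, hkv])
    rw [cnt_pair S hk hkv]
    cases hp : (!bvB v s && bit Short.orbBits (Nat.xor v s))
    · rw [hp] at a1 a2
      rw [if_neg Bool.false_ne_true, if_neg (mt a1.1 Bool.false_ne_true), if_neg (mt a2.1 Bool.false_ne_true)]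
    · rw [hp] at a1 a2
      rw [if_pos rfl, if_pos (a1.2 rfl), if_pos (a2.2 rfl)]
  -- in `X`
  have hX : Nat.card {k : G // k ∈ oc z ⊓ oc X.u ∧ (Commute k (F.phi 704) ∧ IsConj z (F.phi 704 * k))} = 24 := by
    refine (X.count_conj _ _ fun k => ?_).trans hE
    rw [Commute.conj_iff, show X.s * F.phi 704 * X.s⁻¹ * (X.s * k * X.s⁻¹) =
      X.s * (F.phi 704 * k) * X.s⁻¹ by group, isConj_conj_iff]
  rw [X.count_inter] at hX
  have hsum : (kList.map innerW').sum = 24 := by
    have := inner_sum
    rw [Nat.beq_eq, innerSum, inner_rec] at this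
    exact this
  have hle : ∀ s ∈ kList,
      innerW' s ≤ cnt π B (fun k => Commute k (F.phi 704) ∧ IsConj z (F.phi 704 * k)) s := by
    intro s hs
    unfold innerW'
    cases hs' : fixB 0 s && inW s
    · exact Nat.zero_le _
    rw [Bool.and_eq_true] at hs'
    obtain ⟨hk, hkv, e1, e2⟩ := phi_wv F (wc_lt s)
    rw [inW_iff.1 hs'.2] at hkv
    rw [cond_true, cnt_pair S hk hkv]
    have hc1 : Commute (F.phi (wc s)) (F.phi 704) := F.phi_comm _ _
    have hc2 : Commute (F.phi (wc s) * z) (F.phi 704) := hc1.mul_left (S.D.comm_z (F.phi_mem_H 704)).symm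
    rw [← hc1.eq, ← hc2.eq, e1, e2]
    have hsec : ∀ x, 640 ≤ x → x < 768 → (IsConj z (F.phi x) ↔ tB 370 x = false) := fun x h1 h2 => by
      have h := F.sec_iff hF (x := x) (by omega)
      rw [← Bool.not_eq_true, ← h, Frame.sec, not_and, not_not]
      exact ⟨fun hh _ => hh, fun hh => hh (by omega)⟩
    have hlt := wc_lt s
    have hA := hsec (640 + wc s) (by omega) (by omega)
    have hB := hsec (704 + wc s) (by omega) (by omega)
    unfold wCount
    cases h1 : tB 370 (640 + wc s) <;> cases h2 : tB 370 (704 + wc s) <;>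
      (simp only [hc1, hc2, true_and, hA, hB, h1, h2]; simp)
  have hr0 := sum_pointwise _ _ kList hle (hsum.trans hX.symm) r hr
  intro hcz
  rw [innerW', hfix, hW, Bool.and_false, cond_false, cnt] at hr0
  have hcomm : Commute g (F.phi 704) :=
    (X.commute_fix hh hf (X.mem_inter hg hr hv) (kList_small hr) hv).2 (fixB_iff.1 hfix)
  haveI : Nonempty {k : G // (k ∈ oc z ∧ vec π k = Rep.lin B r) ∧
      (Commute k (F.phi 704) ∧ IsConj z (F.phi 704 * k))} := ⟨⟨g, ⟨hg, hv⟩, hcomm, hcz⟩⟩
  exact (Nat.card_pos).ne hr0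

/-- Fibres over the inner representative in the kernel set. -/
theorem num_inner_k {r : ℕ} (hr : r ∈ kList) (hfix : fixB 0 r = true) (hW : inW r = false) :
    WNum F 0 r := by
  obtain ⟨X⟩ := exists_xdata S
  obtain ⟨g, hg, hv⟩ := S.exists_code r
  have hf := fib_left F hg hv
  have hvz : vec π (g * z) = Rep.lin B r := by rw [vec_mul hg S.D.z_mem, S.D.vec_z, add_zero, hv]
  have hh := X.fib_mem (phi_fib F (x := 704) (Or.inr rfl)) (by
    obtain ⟨M, hM, e⟩ := List.any_eq_true.1 ql5_mem
    exact ⟨M, hM, by rw [sigOf_eq.1, eqM_iff.1 e]⟩) (show 0 ∈ kList by decide +kernel)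
  have hgi := X.mem_inter hg hr hv
  have hc : Commute g (F.phi 704) :=
    (X.commute_fix hh (phi_fib F (x := 704) (Or.inr rfl)) hgi (kList_small hr) hv).2 (fixB_iff.1 hfix)
  have hzc : g * F.phi 704 * z = g * z * F.phi 704 := by
    rw [mul_assoc, mul_assoc, (S.D.comm_z (F.phi_mem_H 704)).eq]
  have hsq : g * F.phi 704 * (g * F.phi 704) = 1 := by
    rw [hc.symm.mul_mul_mul_comm, X.N.conf.inter_sq S.D hgi, F.phi_sq, mul_one]
  have hne : sigOf 0 ≠ idP := fun e => by
    have := all_range sig_invol (show 0 < 3 by norm_num)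
    rw [Bool.and_eq_true, e, Nat.beq_refl] at this
    exact Bool.noConfusion this.1
  have hw := List.all_eq_true.1 inner_k r hr
  simp only [innerK, hfix, hW, Bool.not_true, Bool.false_or, Bool.and_eq_true, Nat.beq_eq] at hw
  refine num_two_t F hF hf hsq (ne_one_of_lin S hf hne) (ne_one_of_lin S (fib_mul_z S hf) hne) ?_ ?_ hw
  · rw [hc.eq]
    exact inner_outside hF X hr hfix hW hg hv
  · rw [hzc, (hc.mul_left (S.D.comm_z (F.phi_mem_H 704)).symm).eq]
    exact inner_outside hF X hr hfix hW (mul_mem hg S.D.z_mem) hvz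

/-- Over the inner representative. -/
theorem num_inner {a : ℕ} (ha : a < 4096) : WNum F 0 a := by
  have hnone : ∀ b < 4096, (bit qBits b || !fixB 0 b) = true → WNum F 0 b := by
    intro b hb hh
    have hcov := all_range inner_cover hb
    rw [innerCover, hh, cond_true] at hcov
    refine num_none F hcov ?_
    cases hfix : fixB 0 b
    · refine fun g hg => moved_sq S hg hb ?_
      rw [Ne, ← fixB_iff, hfix]; exact Bool.false_ne_true
    rw [hfix, Bool.not_true, Bool.or_false] at hh
    intro g hg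
    obtain ⟨hbC, hbA⟩ := F.phi_high (m := 5) (by norm_num)
    have hfb : app (ql 5) b = b := by
      have := fixB_iff.1 hfix
      rwa [sigOf_eq.1, mulP_app (Sys.ql_good S 5) hb] at this
    have hcc : Commute (F.phi (128 * 5)) (F.cl b) :=
      mul_inv_eq_iff_eq_mul.1 ((F.cl_conj hbC hbA).trans (by rw [hfb]))
    have hsq : F.cl b * F.phi (128 * 5) * (F.cl b * F.phi (128 * 5)) = z := by
      rw [hcc.mul_mul_mul_comm, F.cl_sq hb, F.phi_sq, mul_one,
        ← beq_iff_eq.1 (all_range qBits_ok hb), hh]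
      rfl
    have hf : Fib z P π ρ B (sigOf 0) b (F.cl b * F.phi (128 * 5)) := by
      obtain ⟨h1, h2⟩ := S.D.parts (F.cl_mem b) (cSub_le_mSub z P hbC)
      exact ⟨mul_mem (oc_le z (F.cl_mem b)) hbC.1,
        h1 ▸ ⟨ql 5, Sys.ql_good S 5, sigOf_eq.1.symm, hbA⟩, h2.trans (F.vec_cl hb)⟩
    rcases fib_pair S hf hg with e | e
    · rw [e, hsq]; exact S.D.z_ne
    · rw [e, mul_z_sq S hf.1, hsq]; exact S.D.z_ne
  by_cases hh : (bit qBits a || !fixB 0 a) = true
  · exact hnone a ha hh
  have hcov := all_range inner_cover ha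
  rw [Bool.not_eq_true] at hh
  rw [innerCover, hh, cond_false, List.any_eq_true] at hcov
  obtain ⟨⟨a0, i, v⟩, he, hea⟩ := hcov
  obtain rfl : a = a0 := (Nat.eq_of_beq_eq_true hea).symm
  have hm := List.all_eq_true.1 move_ok _ he
  simp only [moveOK, Bool.and_eq_true, Bool.or_eq_true] at hm
  obtain ⟨⟨⟨⟨-, hi⟩, hv⟩, hw⟩, htarget⟩ := hm
  have hi := blt_nat hi
  have hv := blt_nat hv
  set c := wordP centP0 (moveW.getD i []) with hc
  obtain ⟨γ, hγ, hγp⟩ : ∃ γ ∈ ρ.range, Pk B γ c := by
    refine word_pk S (fun k hk => ?_) (fun k hk => ?_)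
    · have hm : centP0 = centW0.map (wordP gensP) := by
        have := cent0_ok
        rw [Bool.and_eq_true] at this
        exact eqM_iff.1 this.1
      rw [hm, List.length_map] at hk
      rw [hm, List.getD_eq_getElem _ _ (by rw [List.length_map]; exact hk), List.getElem_map]
      refine word_pk S (fun l hl => gen_pk S hl) fun l hl => ?_
      have := List.all_eq_true.1 (List.all_eq_true.1 words_ok _
        (List.mem_append_left _ (List.getElem_mem hk))) l hl
      rw [gens_len]; exact blt_nat this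
    · rw [List.getD_eq_getElem _ _ hi] at hk
      exact blt_nat (List.all_eq_true.1 (List.all_eq_true.1 move_lt _ (List.getElem_mem hi)) k hk)
  obtain ⟨n, hn⟩ := exists_fib S hγ hγp v
  have hcs : mulP c (sigOf 0) = mulP (sigOf 0) c := Nat.eq_of_beq_eq_true (all_range move_comm hi)
  set a' := Nat.xor (mulP c a) (Nat.xor v (mulP (sigOf 0) v)) with ha'
  have ea : a' = mulP c a ^^^ v ^^^ mulP (sigOf 0) v := (Nat.xor_assoc _ _ _).symm
  obtain ⟨σ, -, hσp, -⟩ := sig_pk S (j := 0) (by norm_num)
  have hlt : a' < 4096 := ea ▸ xor_lt (xor_lt (hγp.lt ha) hv) (hσp.lt hv)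
  refine (num_transfer (by norm_num) hn ha hv hcs ea hw).1 ?_
  by_cases hh' : (bit qBits a' || !fixB 0 a') = true
  · exact hnone a' hlt hh'
  simp only [Bool.not_eq_true, Bool.or_eq_false_iff, Bool.not_eq_false'] at hh'
  cases hW : inW a'
  · rw [hW] at htarget
    simp only [Bool.false_eq_true, false_or, memB, List.any_eq_true] at htarget
    obtain ⟨r, hr, e⟩ := htarget
    exact num_inner_k hF (Nat.eq_of_beq_eq_true e ▸ hr) hh'.2 hW
  · exact num_inner_w hF hlt hh'.2 hh'.1 hW

end Inner

include hF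

theorem num_all {j a : ℕ} (hj : j < 4) (ha : a < 4096) : WNum F j a := by
  interval_cases j
  exacts [num_inner hF ha, num_outer hF (Or.inl rfl) trans1_ok ha, num_outer hF (Or.inr rfl) trans2_ok ha,
    num_core hF ha]

/-- The numbers of the conjugates of `z` over the representatives. -/
theorem fibNum_z {j a : ℕ} (hj : j < 4) (ha : a < 4096) : fibNum z P π ρ B z (sigOf j) a = zW j a :=
  (num_all hF hj ha).1

/-- The numbers of the other involutions over the representatives. -/
theorem fibNum_t {j a : ℕ} (hj : j < 4) (ha : a < 4096) : fibNum z P π ρ B F.tt (sigOf j) a = tW j a :=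
  (num_all hF hj ha).2

theorem classData : ClassData z P π ρ B F.tt :=
  ⟨fun _ hj _ ha => fibNum_z hF hj ha, fun _ hj _ ha => fibNum_t hF hj ha⟩

/-- **The pairs at the central involution.** -/
theorem card_pairs_z : Nat.card (Order.Pairs z F.tt z) = 29236337328 :=
  card_pairs_of_classData hF (classData hF)

end Cfsg.Agent.J4Type.V11.AZ
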