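import Cfsg.Agent.J4Type.Orbits.Model
import Cfsg.Agent.J4Type.Orbits.WitChecks

/-!
# Checkers for counting pairs of involutions of `C(z)` whose product has `z` as a power

A vector is a number below `4096`; a map is packed in one number, the image of the `i`-th unit vector in
bits `12 * i` to `12 * i + 11`.
-/

set_option autoImplicit false

namespace Cfsg.Agent.J4Type.V11.AZ

open Cfsg.Agent.J4Type.Rep Cfsg.Agent.J4Type.Orbits

/-- One bit in each of `n` blocks of width twelve. -/
noncomputable def mask (n : ℕ) : ℕ :=
  Nat.rec (motive := fun _ => ℕ) 0 (fun _ r => Nat.add 1 (Nat.mul 4096 r)) n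

/-- One bit in each of twelve blocks. -/
def m12 : ℕ := 0x001001001001001001001001001001001001

/-- The share of the image of one unit vector in a product. -/
noncomputable def term (m A B b : ℕ) : ℕ :=
  Nat.mul (Nat.land (Nat.shiftRight B b) m) (Nat.land (Nat.shiftRight A (Nat.mul 12 b)) 4095)

/-- The product of packed maps; on a vector, its image. -/
noncomputable def mulP (A B : ℕ) : ℕ :=
  Nat.xor (Nat.xor (Nat.xor (term m12 A B 0) (term m12 A B 1)) (Nat.xor (term m12 A B 2) (term m12 A B 3)))
    (Nat.xor (Nat.xor (Nat.xor (term m12 A B 4) (term m12 A B 5)) (Nat.xor (term m12 A B 6) (term m12 A B 7)))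
      (Nat.xor (Nat.xor (term m12 A B 8) (term m12 A B 9)) (Nat.xor (term m12 A B 10) (term m12 A B 11))))

/-- The map packed in a number. -/
noncomputable def dec (n x : ℕ) : List ℕ :=
  Nat.rec (motive := fun _ => ℕ → List ℕ) (fun _ => [])
    (fun _ r y => Nat.mod y 4096 :: r (Nat.div y 4096)) n x

/-- Packing a map. -/
noncomputable def enc (M : List ℕ) : ℕ :=
  List.rec (motive := fun _ => ℕ) 0 (fun a _ r => Nat.add a (Nat.mul 4096 r)) M

/-- The identity, packed. -/
def idP : ℕ := 0x800400200100080040020010008004002001

/-- The powers of a packed map. -/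
noncomputable def powP (R k : ℕ) : ℕ :=
  Nat.rec (motive := fun _ => ℕ) idP (fun _ r => mulP R r) k

/-- The sum of the first powers of a packed map. -/
noncomputable def sumP (R k : ℕ) : ℕ :=
  Nat.rec (motive := fun _ => ℕ) 0 (fun _ r => Nat.xor idP (mulP R r)) k

/-- The entry with the given number of a three-level table. -/
noncomputable def get3 (L : List (List (List ℕ))) (i : ℕ) : ℕ :=
  ((L.getD (Nat.div i 400) []).getD (Nat.mod (Nat.div i 20) 20) []).getD (Nat.mod i 20) 0

/-- An edge `(child, parent, generator)`: the generator conjugates the parent into the child. -/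
noncomputable def edgeOK (L : List (List (List ℕ))) (gs : List ℕ) (e : ℕ × ℕ × ℕ) : Bool :=
  Nat.blt e.1 6303 && Nat.blt e.2.2 gs.length &&
    Nat.beq (mulP (gs.getD e.2.2 0) (get3 L e.2.1)) (mulP (get3 L e.1) (gs.getD e.2.2 0))

/-- The numbers reached by a tree from a seed. -/
noncomputable def reachL (es : List (ℕ × ℕ × ℕ)) (seen : ℕ) : ℕ :=
  List.rec (motive := fun _ => ℕ → ℕ) (fun s => s)
    (fun e _ r s => r (Nat.lor s (Nat.shiftLeft 1 e.1))) es seen

/-- A tree of edges from a seed. -/
noncomputable def treeK (L : List (List (List ℕ))) (gs : List ℕ) (es : List (ℕ × ℕ × ℕ))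
    (seen : ℕ) : Bool :=
  List.rec (motive := fun _ => ℕ → Bool) (fun _ => true)
    (fun e _ r s => bit s e.2.1 && edgeOK L gs e && r (Nat.lor s (Nat.shiftLeft 1 e.1))) es seen

/-- The product of the listed generators, leftmost letter last. -/
noncomputable def wordP (gs : List ℕ) (w : List ℕ) : ℕ :=
  List.rec (motive := fun _ => ℕ) idP (fun k _ r => mulP (gs.getD k 0) r) w

/-- An orbit of a centraliser on the involutions of the linear group, with the weighted number of good
pairs over its first point. -/
structure Orb where
  /-- the number of the first point -/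
  rep : ℕ
  /-- the class of the points -/
  cls : ℕ
  /-- a word carrying the representative of the class to the first point -/
  word : List ℕ
  /-- an exponent killing the product -/
  k : ℕ
  /-- the weighted number of good pairs -/
  val : ℕ
  /-- the rest of the orbit -/
  edges : List (ℕ × ℕ × ℕ)
  /-- the images of the first list -/
  tA : List (ℕ × ℕ × ℕ)
  /-- the images of the second list -/
  tB : List (ℕ × ℕ × ℕ)

/-- A vector with its images under the two sums and its weight. -/
noncomputable def imA (S H a n : ℕ) : ℕ × ℕ × ℕ := (mulP S a, mulP H a, n)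

/-- The first list of weighted images. -/
noncomputable def listA (S H : ℕ) (L2 L1 : List ℕ) : List (ℕ × ℕ × ℕ) :=
  L2.map (fun a => imA S H a 2) ++ L1.map (fun a => imA S H a 1)

/-- The second list of weighted images. -/
noncomputable def listB (S H σ g : ℕ) (L2 L1 : List ℕ) : List (ℕ × ℕ × ℕ) :=
  L2.map (fun a => imA S H (mulP σ (mulP g a)) 2) ++ L1.map (fun a => imA S H (mulP σ (mulP g a)) 1)

/-- Equality of lists of triples. -/
noncomputable def eqT : List (ℕ × ℕ × ℕ) → List (ℕ × ℕ × ℕ) → Bool
  | [], [] => true
  | a :: l, b :: m => Nat.beq a.1 b.1 && Nat.beq a.2.1 b.2.1 && Nat.beq a.2.2 b.2.2 && eqT l m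
  | _, _ => false

/-- Whether the product of two involutions has the central involution as a power: `kodd` is the parity of
a number killing the linear part, `inner` whether half of it gives an inner involution. -/
noncomputable def good (qbits : ℕ) (kodd inner : Bool) (ta ha tb hb : ℕ) : Bool :=
  cond (Nat.beq ta tb) (cond kodd true (cond inner (bit qbits (Nat.xor ha hb)) false))
    (bit qbits (Nat.xor ta tb))

/-- The sum over the second list. -/
noncomputable def rowSum (qbits : ℕ) (kodd inner : Bool) (ta ha : ℕ) (TB : List (ℕ × ℕ × ℕ)) : ℕ :=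
  List.rec (motive := fun _ => ℕ) 0
    (fun e _ r => cond (good qbits kodd inner ta ha e.1 e.2.1) (Nat.add e.2.2 r) r) TB

/-- The weighted number of good pairs. -/
noncomputable def pairSum (qbits : ℕ) (kodd inner : Bool) (TA TB : List (ℕ × ℕ × ℕ)) : ℕ :=
  List.rec (motive := fun _ => ℕ) 0
    (fun e _ r => Nat.add (Nat.mul e.2.2 (rowSum qbits kodd inner e.1 e.2.1 TB)) r) TA

/-- Whether the exponent is odd. -/
noncomputable def oddB (k : ℕ) : Bool := Nat.beq (Nat.mod k 2) 1

/-- Whether half of the exponent gives an inner map. -/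
noncomputable def innerB (W R k : ℕ) : Bool :=
  !oddB k && Nat.beq (mulP (powP R (Nat.div k 2)) W) (mulP W (powP R (Nat.div k 2)))

/-- The exponent kills the product, and half of an even one does not. -/
noncomputable def expOK (R k : ℕ) : Bool :=
  Nat.beq (powP R k) idP && (oddB k || !Nat.beq (powP R (Nat.div k 2)) idP)

/-- The two lists of an orbit are the images of the weight lists. -/
noncomputable def listsOK (σ τ g : ℕ) (o : Orb) (z2 z1 t2 t1 : List ℕ) : Bool :=
  eqT o.tA (listA (sumP (mulP σ τ) o.k) (sumP (mulP σ τ) (Nat.div o.k 2)) z2 z1) &&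
    eqT o.tB (listB (sumP (mulP σ τ) o.k) (sumP (mulP σ τ) (Nat.div o.k 2)) σ g t2 t1)

end Cfsg.Agent.J4Type.V11.AZ
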