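import Cfsg.Agent.J4Type.Order.ZBase
import Cfsg.Agent.J4Type.Order.ZTree
import Cfsg.Agent.J4Type.Order.ZChecksBase
import Cfsg.Agent.J4Type.Orbits.Fusion
import Cfsg.Agent.J4Type.Orbits.Stab

/-!
# The table holds every involution of the linear group
-/

set_option autoImplicit false
set_option maxRecDepth 100000

open Cfsg Subgroup

namespace Cfsg.Agent.J4Type.V11.AZ

open LargeExtra (oc oc_le)
open Cfsg.Agent.J4Type.Rep Cfsg.Agent.J4Type.Orbits

theorem class_len : classEdges.length = 3 := by decide +kernel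

theorem gens_len : gensP.length = 4 := by decide +kernel

theorem sig_ok : ((sigP.all fun s => Nat.beq (mulP s s) idP) && sigP.length == 4) = true := by decide +kernel

theorem words_ok : ((centW0 ++ centW1).all fun w => w.all fun k => Nat.blt k 4) = true := by decide +kernel

variable {G : Type*} [Group G] [Finite G] {z : G} {P : Subgroup G} {V : Type*} [AddCommGroup V]
  {π : ↥(oc z) →* Multiplicative V} {ρ : ↥(mSub z P) →* Equiv.Perm V} {q : V → ZMod 2} {B : List V}

section Sys

variable (S : Sys z P π ρ q B)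
include S

theorem gen_pk {k : ℕ} (hk : k < gensP.length) : ∃ γ ∈ ρ.range, Pk B γ (gensP.getD k 0) := by
  have hm : gensP = allGens.map enc := eqM_iff.1 gens_eq
  rw [gens_len] at hk
  have hg := gens_good
  simp only [Bool.and_eq_true] at hg
  have key : ∀ M ∈ allGens, goodM M = true → ∃ γ ∈ ρ.range, Pk B γ (enc M) := fun M hM hgood => by
    obtain ⟨γ, hγ⟩ := S.M.ex M hM
    exact ⟨γ, S.M.gen ▸ subset_closure ⟨M, hM, hγ⟩, M, hgood, rfl, hγ⟩
  interval_cases k <;> rw [hm]
  · exact key Xm (by simp [allGens]) hg.1.1.1.1.1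
  · exact key Ym (by simp [allGens]) hg.1.1.1.1.2
  · exact key F0 (by simp [allGens]) hg.1.1.1.2
  · exact key Sg (by simp [allGens]) hg.1.1.2

theorem word_pk {gs : List ℕ} (hgs : ∀ k < gs.length, ∃ γ ∈ ρ.range, Pk B γ (gs.getD k 0)) :
    ∀ {w : List ℕ}, (∀ k ∈ w, k < gs.length) → ∃ γ ∈ ρ.range, Pk B γ (wordP gs w)
  | [], _ => ⟨1, one_mem _, pk_one S⟩
  | k :: w, h => by
    obtain ⟨γ, hγ, hx⟩ := hgs k (h k List.mem_cons_self)
    obtain ⟨δ, hδ, hy⟩ := word_pk hgs (w := w) fun i hi => h i (List.mem_cons_of_mem k hi)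
    exact ⟨γ * δ, mul_mem hγ hδ, hx.mul hy⟩

/-- A conjugate has the code that makes the two products agree. -/
theorem pk_of_conj {γ g : Equiv.Perm V} (hγ : γ ∈ ρ.range) (hg : g ∈ ρ.range) {x p c : ℕ}
    (hx : Pk B g x) (hp : Pk B γ p) (hc : enc (dec 12 c) = c) (he : mulP x p = mulP c x) :
    Pk B (g * γ * g⁻¹) c := by
  obtain ⟨y, hy⟩ := exists_pk S (mul_mem (mul_mem hg hγ) (inv_mem hg))
  suffices hcy : c = y by rw [hcy]; exact hy
  have hyx : Pk B (g * γ) (mulP y x) := by
    have := hy.mul hx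
    rwa [show g * γ * g⁻¹ * g = g * γ by group] at this
  have heq : mulP y x = mulP c x := (Pk.unique S hyx (hx.mul hp)).trans he
  obtain ⟨Y, hY, rfl, hYact⟩ := hy
  obtain ⟨X, hX, rfl, hXact⟩ := hx
  obtain ⟨M, hMdef⟩ : ∃ M, dec 12 c = M := ⟨_, rfl⟩
  have hM : goodM M = true := hMdef ▸ dec_good c
  rw [hMdef] at hc
  rw [← hc] at heq ⊢
  rw [mulP_comp hY hX, mulP_comp hM hX] at heq
  have hcomp := enc_inj (good_comp hY hX) (good_comp hM hX) heq
  refine congrArg enc (List.ext_getElem (by rw [(good_data hM).1, (good_data hY).1]) fun i h1 h2 => ?_)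
  rw [← app_two_pow M i h1, ← app_two_pow Y i h2]
  have hi : i < 12 := (good_data hM).1 ▸ h1
  obtain ⟨r, hr, e⟩ := S.M.code_cases (g⁻¹ (Rep.lin B (2 ^ i)))
  have hr' : app X r = 2 ^ i := by
    refine S.lin_lt_inj (app_lt_of_good hX r)
      (lt_of_lt_of_le (Nat.pow_lt_pow_right (by norm_num) hi) (le_of_eq (by norm_num))) ?_
    rw [← hXact r, e, Equiv.Perm.inv_def, Equiv.apply_symm_apply]
  have h := congrArg (fun N => app N r) hcomp
  simp only [comp] at h
  rw [app_app, app_app, hr'] at h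
  exact h.symm

/-- A number of the table is the code of a conjugate of a representative. -/
def TabP (B : List V) (ρ : ↥(mSub z P) →* Equiv.Perm V) (j i : ℕ) : Prop :=
  ∃ g ∈ ρ.range, ∃ σ ∈ ρ.range, Pk B σ (sigOf j) ∧ σ * σ = 1 ∧ Pk B (g * σ * g⁻¹) (get3 tabL i)

theorem sig_pk {j : ℕ} (hj : j < 4) : ∃ σ ∈ ρ.range, Pk B σ (sigOf j) ∧ σ * σ = 1 := by
  have key : ∀ M, goodM M = true → (∃ σ ∈ ρ.range, PActs B σ M) → mulP (enc M) (enc M) = idP →
      ∃ σ ∈ ρ.range, Pk B σ (enc M) ∧ σ * σ = 1 := fun M hM ⟨σ, hσ, hact⟩ hsq =>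
    ⟨σ, hσ, ⟨M, hM, rfl, hact⟩, Pk.inj S ((show Pk B σ (enc M) from ⟨M, hM, rfl, hact⟩).mul
      ⟨M, hM, rfl, hact⟩) (hsq ▸ pk_one S)⟩
  have hs := sig_ok
  simp only [Bool.and_eq_true, List.all_eq_true, beq_iff_eq] at hs
  obtain ⟨hsq, hlen⟩ := hs
  have hm : sigP = [enc (ql 5), enc (qList.getD 16 []), enc (qList.getD 17 []), enc idM] := eqM_iff.1 sig_eq
  have hsq' : mulP (sigOf j) (sigOf j) = idP := by
    rw [sigOf, List.getD_eq_getElem _ _ (by omega)]
    exact Nat.eq_of_beq_eq_true (hsq _ (List.getElem_mem _))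
  have hq : ∀ n, n < 32 → ∃ γ ∈ ρ.range, PActs B γ (qList.getD n []) ∧ goodM (qList.getD n []) = true := by
    intro n hn
    have hl : n < qList.length := qList_len ▸ hn
    rw [List.getD_eq_getElem _ _ hl]
    obtain ⟨γ, hγ, -, hact, -, -⟩ := S.M.mem_qSub_acts (List.getElem_mem hl)
    exact ⟨γ, hγ, hact, List.all_eq_true.1
      (by decide +kernel : qList.all goodM = true) _ (List.getElem_mem hl)⟩
  interval_cases j <;> rw [sigOf, hm] at hsq' ⊢ <;>
    simp only [List.getD_cons_zero, List.getD_cons_succ] at hsq' ⊢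
  · obtain ⟨n, hn, hact⟩ := S.lift_ql (m := 5) (by norm_num)
    exact key _ (Sys.ql_good S 5) ⟨_, S.act_range (cSub_le_mSub z P hn), hact⟩ hsq'
  · obtain ⟨γ, hγ, hact, hg⟩ := hq 16 (by norm_num)
    exact key _ hg ⟨γ, hγ, hact⟩ hsq'
  · obtain ⟨γ, hγ, hact, hg⟩ := hq 17 (by norm_num)
    exact key _ hg ⟨γ, hγ, hact⟩ hsq'
  · exact key _ good_idM ⟨1, one_mem _, S.M.acts_idM⟩ hsq'

/-- The class trees give conjugates of the representatives. -/
theorem tab_class {j : ℕ} (hj : j < 3) {e : ℕ × List (ℕ × ℕ × ℕ)} (he : classEdges.getD j (0, []) = e)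
    {i : ℕ} (hi : i ∈ pts e.1 e.2) : TabP B ρ j i := by
  have hs := List.all_eq_true.1 class_seeds j (List.mem_range.2 hj)
  simp only [he, Bool.and_eq_true, Nat.blt_eq, decide_eq_true_eq] at hs
  obtain ⟨σ, hσ, hσp, hσ2⟩ := sig_pk S (j := j) (by omega)
  have h0 : ∀ s, bit (Nat.shiftLeft 1 e.1) s = true → TabP B ρ j s := by
    intro s h
    obtain rfl := bit_one h
    exact ⟨1, one_mem _, σ, hσ, hσp, hσ2, by
      rw [one_mul, inv_one, mul_one, Nat.eq_of_beq_eq_true hs.2]; exact hσp⟩
  rcases List.mem_cons.1 hi with rfl | hi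
  · refine h0 _ ?_
    rw [bit_iff, show Nat.shiftLeft 1 e.1 = 2 ^ e.1 from Nat.one_shiftLeft e.1, Nat.testBit_two_pow_self]
  refine treeK_sound ?_ (List.all_eq_true.1 class_trees e ?_) h0 i hi
  · rintro c p k hc hk heq ⟨g, hg, σ', hσ', hσp', hσ2', hp⟩
    obtain ⟨γ, hγ, hγp⟩ := gen_pk S hk
    refine ⟨γ * g, mul_mem hγ hg, σ', hσ', hσp', hσ2', ?_⟩
    rw [show γ * g * σ' * (γ * g)⁻¹ = γ * (g * σ' * g⁻¹) * γ⁻¹ by group]
    exact pk_of_conj S (mul_mem (mul_mem hg hσ') (inv_mem hg)) hγ hγp hp
      (Nat.eq_of_beq_eq_true (List.all_eq_true.1 tab_enc c (List.mem_range.2 hc))) heq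
  · rw [← he, List.getD_eq_getElem _ _ (by rw [class_len]; exact hj)]
    exact List.getElem_mem _

end Sys

/-- The points of all class trees. -/
noncomputable def cpts : List ℕ :=
  pts (classEdges.getD 0 (0, [])).1 (classEdges.getD 0 (0, [])).2 ++
    (pts (classEdges.getD 1 (0, [])).1 (classEdges.getD 1 (0, [])).2 ++
      pts (classEdges.getD 2 (0, [])).1 (classEdges.getD 2 (0, [])).2)

theorem class_shape : ∃ e₀ e₁ e₂, classEdges = [e₀, e₁, e₂] := List.length_eq_three.1 class_len

theorem cpts_all {i : ℕ} (hi : i < 6303) : i ∈ cpts := by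
  have h := bit_all hi
  rw [← Nat.eq_of_beq_eq_true class_union] at h
  obtain ⟨e₀, e₁, e₂, he⟩ := class_shape
  rw [he] at h
  rw [cpts, he]
  simp only [List.getD_cons_zero, List.getD_cons_succ, List.foldl_cons, List.foldl_nil] at h ⊢
  have key : ∀ {e : ℕ × List (ℕ × ℕ × ℕ)}, bit (reachL e.2 (Nat.shiftLeft 1 e.1)) i = true →
      i ∈ pts e.1 e.2 := fun {e} h => by
    rcases bit_reach h with h | h
    · rw [bit_one h]; exact List.mem_cons_self
    · exact List.mem_cons_of_mem _ h
  rcases bit_lor.1 h with h | h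
  · rcases bit_lor.1 h with h | h
    · rcases bit_lor.1 h with h | h
      · simp [bit_iff] at h
      · exact List.mem_append_left _ (key h)
    · exact List.mem_append_right _ (List.mem_append_left _ (key h))
  · exact List.mem_append_right _ (List.mem_append_right _ (key h))

theorem class_lens : (pts (classEdges.getD 0 (0, [])).1 (classEdges.getD 0 (0, [])).2).length = 1155 ∧
    (pts (classEdges.getD 1 (0, [])).1 (classEdges.getD 1 (0, [])).2).length = 990 ∧
    (pts (classEdges.getD 2 (0, [])).1 (classEdges.getD 2 (0, [])).2).length = 4158 := by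
  obtain ⟨e₀, e₁, e₂, he⟩ := class_shape
  have h := eqM_iff.1 class_sizes
  rw [he] at h
  simp only [List.map_cons, List.map_nil, List.cons.injEq, and_true] at h
  rw [he]
  simp only [List.getD_cons_zero, List.getD_cons_succ, pts, List.length_cons, List.length_map]
  exact h

theorem cpts_len : cpts.length = 6303 := by
  obtain ⟨h0, h1, h2⟩ := class_lens
  rw [cpts, List.length_append, List.length_append, h0, h1, h2]

theorem tab_mono {i k : ℕ} (hk : k < 6303) (hik : i < k) : get3 tabL i < get3 tabL k := by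
  induction k with
  | zero => omega
  | succ k ih =>
    have h := List.all_eq_true.1 tab_incr k (List.mem_range.2 (by omega))
    simp only [Nat.blt_eq, decide_eq_true_eq] at h
    rcases Nat.lt_or_ge i k with h' | h'
    · exact lt_trans (ih (by omega) h') h
    · rw [show i = k by omega]; exact h

theorem tab_inj {i k : ℕ} (hi : i < 6303) (hk : k < 6303) (h : get3 tabL i = get3 tabL k) : i = k := by
  rcases lt_trichotomy i k with h' | h' | h'
  · exact absurd h (tab_mono hk h').ne
  · exact h'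
  · exact absurd h.symm (tab_mono hi h').ne

theorem tauOf_lt {i : ℕ} (hi : i < 6303) : tauOf i = get3 tabL i := by
  rw [tauOf, show Nat.beq i 6303 = false from by
    cases hb : Nat.beq i 6303
    · rfl
    · exact absurd (Nat.eq_of_beq_eq_true hb) (by omega)]
  rfl

theorem tauOf_last : tauOf 6303 = idP := rfl

/-- Every number of the table is a conjugate of a representative. -/
theorem tab_cases (S : Sys z P π ρ q B) {i : ℕ} (hi : i < 6303) : ∃ j < 3, TabP B ρ j i := by
  have h := cpts_all hi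
  rw [cpts, List.mem_append, List.mem_append] at h
  rcases h with h | h | h
  exacts [⟨0, by norm_num, tab_class S (by norm_num) rfl h⟩, ⟨1, by norm_num, tab_class S (by norm_num) rfl h⟩,
    ⟨2, by norm_num, tab_class S (by norm_num) rfl h⟩]

/-- The fixed points on the short orbit. -/
noncomputable def fixNum (B : List V) (γ : Equiv.Perm V) : ℕ := by
  classical
  exact ((Finset.range 4096).filter fun r => bit Short.orbBits r = true ∧
    γ (Rep.lin B r) = Rep.lin B r).card

section Sys

variable (S : Sys z P π ρ q B)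
include S

theorem fixNum_conj {g : Equiv.Perm V} (hg : g ∈ ρ.range) (γ : Equiv.Perm V) :
    fixNum B (g * γ * g⁻¹) = fixNum B γ := by
  classical
  have key : ∀ (g : Equiv.Perm V), g ∈ ρ.range → ∀ γ, fixNum B γ ≤ fixNum B (g * γ * g⁻¹) := by
    intro g hg γ
    obtain ⟨x, hx⟩ := exists_pk S hg
    refine Finset.card_le_card_of_injOn (fun r => mulP x r) (fun r hr => ?_) (fun r hr r' hr' e => ?_)
    · simp only [Finset.coe_filter, Finset.mem_range, Set.mem_ofPred_eq] at hr ⊢
      obtain ⟨hr, hb, hf⟩ := hr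
      obtain ⟨s, hs, hsb, es⟩ := short.invariant S.M hg hr hb
      have hsx : mulP x r = s := S.lin_lt_inj (hx.lt hr) hs ((hx.apply hr).symm.trans es)
      refine ⟨hx.lt hr, hsx ▸ hsb, ?_⟩
      rw [← hx.apply hr, Equiv.Perm.mul_apply, Equiv.Perm.mul_apply, Equiv.Perm.inv_def,
        Equiv.symm_apply_apply, hf]
    · simp only [Finset.coe_filter, Finset.mem_range, Set.mem_ofPred_eq] at hr hr'
      refine S.lin_lt_inj hr.1 hr'.1 (g.injective ?_)
      rw [hx.apply hr.1, hx.apply hr'.1]
      exact congrArg (Rep.lin B) e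
  refine le_antisymm ?_ (key g hg γ)
  have := key g⁻¹ (inv_mem hg) (g * γ * g⁻¹)
  rwa [show g⁻¹ * (g * γ * g⁻¹) * g⁻¹⁻¹ = γ by group] at this

theorem fixNum_sig {σ : Equiv.Perm V} {j : ℕ} (h : Pk B σ (sigOf j)) : fixNum B σ = shortFix j := by
  classical
  rw [fixNum, shortFix, ← List.toFinset_card_of_nodup (List.nodup_range.filter _)]
  refine congrArg Finset.card (Finset.ext fun r => ?_)
  simp only [Finset.mem_filter, Finset.mem_range, List.mem_toFinset, List.mem_filter, List.mem_range,
    Bool.and_eq_true, fixB]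
  refine and_congr_right fun hr => and_congr_right fun _ => ?_
  rw [h.apply hr]
  exact ⟨fun e => by rw [S.lin_lt_inj (h.lt hr) hr e]; exact Nat.beq_refl _,
    fun e => by rw [Nat.eq_of_beq_eq_true e]⟩

theorem fix_total (f : ℕ → ℕ) (h : ∀ j, j < 3 → ∀ i ∈ pts (classEdges.getD j (0, [])).1
    (classEdges.getD j (0, [])).2, f i = shortFix j) :
    ∑ i ∈ Finset.range 6303, f i = 693 * involCount (stabIn ++ stabOut) := by
  obtain ⟨h0, h1, h2⟩ := class_lens
  have hf := short_fix
  simp only [Bool.and_eq_true] at hf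
  rw [← sum_of_cover cpts_len (fun i hi => cpts_all hi), cpts, List.map_append, List.sum_append,
    List.map_append, List.sum_append, sum_map_const (h 0 (by norm_num)), sum_map_const (h 1 (by norm_num)),
    sum_map_const (h 2 (by norm_num)), h0, h1, h2, Nat.eq_of_beq_eq_true stab_invol,
    Nat.eq_of_beq_eq_true hf.1.1, Nat.eq_of_beq_eq_true hf.1.2, Nat.eq_of_beq_eq_true hf.2, add_assoc]

/-- **The table holds every involution of the linear group.** -/
theorem invol_mem {γ : Equiv.Perm V} (hγ : γ ∈ ρ.range) (h2 : γ * γ = 1) (h1 : γ ≠ 1) :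
    ∃ i < 6303, Pk B γ (get3 tabL i) := by
  classical
  have := S.M.fin
  haveI : Fintype (Equiv.Perm V) := Fintype.ofFinite _
  let I : Finset (Equiv.Perm V) := Finset.univ.filter fun t => t ∈ ρ.range ∧ t * t = 1 ∧ t ≠ 1
  let O : Finset ℕ := (Finset.range 4096).filter fun r => bit Short.orbBits r = true
  have hO : O.card = 693 := by
    rw [← short.count, ← List.toFinset_card_of_nodup (List.nodup_range.filter _)]
    exact congrArg Finset.card (Finset.ext fun r => by simp [O])
  have hfix : ∀ t, fixNum B t = (O.filter fun r => t (Rep.lin B r) = Rep.lin B r).card := fun t => by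
    rw [fixNum]
    exact congrArg Finset.card (Finset.ext fun r => by simp [O, and_assoc])
  -- the incidences with the fixed points of one short point
  have hbound : ∀ r ∈ O, (I.filter fun t => t (Rep.lin B r) = Rep.lin B r).card ≤
      involCount (stabIn ++ stabOut) := by
    intro r hr
    simp only [O, Finset.mem_filter, Finset.mem_range] at hr
    obtain ⟨δ, hδ, hd⟩ := short.reach S.M hr.2
    have hδΓ := S.M.le hδ
    rw [involCount]
    refine le_trans (le_trans (Finset.card_le_card_of_injOn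
      (f := fun t => if h : ∃ M ∈ stabIn ++ stabOut, PActs B (δ⁻¹ * t * δ) M then h.choose else [])
      (t := ((stabIn ++ stabOut).filter fun M => !eqM M idM && Nat.beq (mulP (enc M) (enc M)) idP).toFinset)
      ?_ ?_) (List.toFinset_card_le _)) (le_refl _)
    · intro t ht
      simp only [Finset.coe_filter, I, Finset.mem_filter, Finset.mem_univ, true_and, Set.mem_ofPred_eq] at ht
      obtain ⟨⟨htr, ht2, ht1⟩, htf⟩ := ht
      have hs : δ⁻¹ * t * δ ∈ ρ.range := mul_mem (mul_mem (inv_mem hδΓ) htr) hδΓ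
      have hsf : (δ⁻¹ * t * δ) (Rep.lin B Short.v0) = Rep.lin B Short.v0 := by
        rw [Equiv.Perm.mul_apply, Equiv.Perm.mul_apply, hd, htf, Equiv.Perm.inv_eq_iff_eq, hd]
      have hex : ∃ M ∈ stabIn ++ stabOut, PActs B (δ⁻¹ * t * δ) M := stab_codes S.M short hs hsf
      simp only [dif_pos hex, List.coe_toFinset, Set.mem_ofPred_eq, List.mem_filter]
      obtain ⟨hm, hact⟩ := hex.choose_spec
      have hgood : goodM hex.choose = true := by
        rcases List.mem_append.1 hm with h | h
        · exact good_stabIn h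
        · exact good_stabOut h
      refine ⟨hm, ?_⟩
      rw [Bool.and_eq_true, Bool.not_eq_true']
      refine ⟨?_, ?_⟩
      · cases hb : eqM hex.choose idM
        · rfl
        · rw [eqM_iff] at hb
          rw [hb] at hact
          have hone := S.M.acts_eq hact S.M.acts_idM
          exact absurd (by rw [show t = δ * (δ⁻¹ * t * δ) * δ⁻¹ by group, hone]; group) ht1
      · have hp : Pk B (δ⁻¹ * t * δ) (enc hex.choose) := ⟨_, hgood, rfl, hact⟩
        have hp2 := hp.mul hp
        rw [show δ⁻¹ * t * δ * (δ⁻¹ * t * δ) = δ⁻¹ * (t * t) * δ by group, ht2, mul_one,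
          inv_mul_cancel] at hp2
        rw [Pk.unique S hp2 (pk_one S)]
        exact Nat.beq_refl _
    · intro t ht t' ht' e
      simp only [Finset.coe_filter, I, Finset.mem_filter, Finset.mem_univ, true_and, Set.mem_ofPred_eq]
        at ht ht'
      have get : ∀ t, t ∈ ρ.range → t (Rep.lin B r) = Rep.lin B r →
          ∃ M ∈ stabIn ++ stabOut, PActs B (δ⁻¹ * t * δ) M := fun t htr htf =>
        stab_codes S.M short (mul_mem (mul_mem (inv_mem hδΓ) htr) hδΓ) (by
          rw [Equiv.Perm.mul_apply, Equiv.Perm.mul_apply, hd, htf, Equiv.Perm.inv_eq_iff_eq, hd])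
      simp only [dif_pos (get t ht.1.1 ht.2), dif_pos (get t' ht'.1.1 ht'.2)] at e
      have ha := (get t ht.1.1 ht.2).choose_spec.2
      have hb := (get t' ht'.1.1 ht'.2).choose_spec.2
      rw [← e] at hb
      have := S.M.acts_eq ha hb
      exact mul_left_cancel (mul_right_cancel this)
  have htot : ∑ t ∈ I, fixNum B t ≤ 693 * involCount (stabIn ++ stabOut) := by
    simp only [hfix, Finset.card_filter]
    rw [Finset.sum_comm]
    calc _ ≤ ∑ _r ∈ O, involCount (stabIn ++ stabOut) := Finset.sum_le_sum fun r hr => by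
          have := hbound r hr
          rwa [Finset.card_filter] at this
      _ = _ := by rw [Finset.sum_const, hO, smul_eq_mul]
  -- the elements of the table
  have hex : ∀ i, i < 6303 → ∃ t ∈ I, Pk B t (get3 tabL i) := fun i hi => by
    obtain ⟨j, hj, g, hg, σ, hσ, hσp, hσ2, hp⟩ := tab_cases S hi
    refine ⟨g * σ * g⁻¹, ?_, hp⟩
    simp only [I, Finset.mem_filter, Finset.mem_univ, true_and]
    refine ⟨mul_mem (mul_mem hg hσ) (inv_mem hg), by
      rw [show g * σ * g⁻¹ * (g * σ * g⁻¹) = g * (σ * σ) * g⁻¹ by group, hσ2]; group, fun h => ?_⟩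
    have hσ1 : σ = 1 := by rw [show σ = g⁻¹ * (g * σ * g⁻¹) * g by group, h]; group
    have := Pk.unique S hσp (hσ1 ▸ pk_one S)
    revert this
    interval_cases j <;> decide +kernel
  choose! e he using hex
  let T : Finset (Equiv.Perm V) := (Finset.range 6303).image e
  have hTI : T ⊆ I := fun t ht => by
    obtain ⟨i, hi, rfl⟩ := Finset.mem_image.1 ht
    exact (he i (Finset.mem_range.1 hi)).1
  have hinj : Set.InjOn e ↑(Finset.range 6303) := fun i hi k hk h => by
    simp only [Finset.coe_range, Set.mem_Iio] at hi hk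
    exact tab_inj hi hk (Pk.unique S (he i hi).2 (h ▸ (he k hk).2))
  have hsum : ∑ t ∈ T, fixNum B t = 693 * involCount (stabIn ++ stabOut) := by
    rw [Finset.sum_image hinj]
    refine fix_total S (fun i => fixNum B (e i)) fun j hj i hi => ?_
    have hi' : i < 6303 := by
      rcases List.mem_cons.1 hi with rfl | hi
      · have h := List.all_eq_true.1 class_seeds j (List.mem_range.2 hj)
        simp only [Bool.and_eq_true, Nat.blt_eq, decide_eq_true_eq] at h
        exact h.1
      · refine treeK_sound (Q := fun s => s < 6303) (fun c p k hc _ _ _ => hc)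
          (List.all_eq_true.1 class_trees (classEdges.getD j (0, [])) ?_) (fun s hs => ?_) i hi
        · rw [List.getD_eq_getElem _ _ (by rw [class_len]; exact hj)]
          exact List.getElem_mem _
        · rw [bit_one hs]
          have h := List.all_eq_true.1 class_seeds j (List.mem_range.2 hj)
          simp only [Bool.and_eq_true, Nat.blt_eq, decide_eq_true_eq] at h
          exact h.1
    obtain ⟨g, hg, σ, -, hσp, -, hp⟩ := tab_class S hj rfl hi
    show fixNum B (e i) = _
    rw [Pk.inj S (he i hi').2 hp, fixNum_conj S hg, fixNum_sig S hσp]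
  have hrest : ∀ t ∈ I, t ∈ T := by
    intro t ht
    by_contra hnot
    have h1' : 1 ≤ fixNum B t := by
      simp only [I, Finset.mem_filter, Finset.mem_univ, true_and] at ht
      obtain ⟨r, hr, hb, hf⟩ := S.M.exists_fixed ht.1 ht.2.1
      exact Finset.card_pos.2 ⟨r, by simp [hr, hb, hf]⟩
    have hlt : ∑ x ∈ T, fixNum B x < ∑ x ∈ I, fixNum B x :=
      Finset.sum_lt_sum_of_subset hTI ht hnot h1' fun _ _ _ => Nat.zero_le _
    omega
  obtain ⟨i, hi, rfl⟩ := Finset.mem_image.1 (hrest γ (by
    simp only [I, Finset.mem_filter, Finset.mem_univ, true_and]; exact ⟨hγ, h2, h1⟩))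
  exact ⟨i, Finset.mem_range.1 hi, (he i (Finset.mem_range.1 hi)).2⟩

/-- The entries of the table are involutions of the linear group, the last one the identity. -/
theorem tau_pk {i : ℕ} (hi : i < 6304) : ∃ γ ∈ ρ.range, Pk B γ (tauOf i) ∧ γ * γ = 1 := by
  rcases Nat.lt_or_ge i 6303 with h | h
  · obtain ⟨j, -, g, hg, σ, hσ, -, hσ2, hp⟩ := tab_cases S h
    refine ⟨g * σ * g⁻¹, mul_mem (mul_mem hg hσ) (inv_mem hg), by rwa [tauOf_lt h], ?_⟩
    rw [show g * σ * g⁻¹ * (g * σ * g⁻¹) = g * (σ * σ) * g⁻¹ by group, hσ2]; group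
  · rw [show i = 6303 by omega, tauOf_last]
    exact ⟨1, one_mem _, pk_one S, one_mul 1⟩

/-- Every map squaring to one is in the table. -/
theorem exists_tau {γ : Equiv.Perm V} (hγ : γ ∈ ρ.range) (h2 : γ * γ = 1) :
    ∃ i < 6304, Pk B γ (tauOf i) := by
  by_cases h1 : γ = 1
  · exact ⟨6303, by norm_num, by rw [h1, tauOf_last]; exact pk_one S⟩
  · obtain ⟨i, hi, hp⟩ := invol_mem S hγ h2 h1
    exact ⟨i, by omega, by rwa [tauOf_lt hi]⟩

theorem tauOf_inj {i k : ℕ} (hi : i < 6304) (hk : k < 6304) (h : tauOf i = tauOf k) : i = k := by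
  have key : ∀ {m}, m < 6303 → tauOf m ≠ idP := fun {m} hm e => by
    obtain ⟨j, hj, g, -, σ, -, hσp, -, hp⟩ := tab_cases S hm
    rw [tauOf_lt hm] at e
    rw [e] at hp
    have h1 := Pk.inj S hp (pk_one S)
    have hσ1 : σ = 1 := by rw [show σ = g⁻¹ * (g * σ * g⁻¹) * g by group, h1]; group
    have := Pk.unique S hσp (hσ1 ▸ pk_one S)
    revert this
    interval_cases j <;> decide +kernel
  rcases Nat.lt_or_ge i 6303 with hi' | hi' <;> rcases Nat.lt_or_ge k 6303 with hk' | hk'
  · rw [tauOf_lt hi', tauOf_lt hk'] at h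
    exact tab_inj hi' hk' h
  · rw [show k = 6303 by omega, tauOf_last] at h; exact absurd h (key hi')
  · rw [show i = 6303 by omega, tauOf_last] at h; exact absurd h.symm (key hk')
  · omega

end Sys

end Cfsg.Agent.J4Type.V11.AZ
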