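import Cfsg.Agent.J4Type.Order.ZDefs

/-!
# Packed maps
-/

set_option autoImplicit false

namespace Cfsg.Agent.J4Type.V11.AZ

open Cfsg.Agent.J4Type.Rep Cfsg.Agent.J4Type.Orbits

theorem enc_nil : enc [] = 0 := rfl

theorem enc_cons (a : ℕ) (M : List ℕ) : enc (a :: M) = a + 4096 * enc M := rfl

theorem testBit_block {a : ℕ} (ha : a < 4096) (E i : ℕ) :
    (a + 4096 * E).testBit i = if i < 12 then a.testBit i else E.testBit (i - 12) := by
  rw [add_comm]
  exact Nat.testBit_two_pow_mul_add (i := 12) (b := a) E (by norm_num; omega) i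

theorem mask_succ (n : ℕ) : mask (n + 1) = 1 + 4096 * mask n := rfl

theorem mask_land {b : ℕ} (hb : b < 12) : ∀ {N : List ℕ}, (∀ a ∈ N, a < 4096) →
    (enc N >>> b) &&& mask N.length = enc (N.map fun a => a / 2 ^ b % 2)
  | [], _ => by simp [enc_nil, mask]
  | a :: N, h => by
    have ha : a < 4096 := h a List.mem_cons_self
    have ih := mask_land hb fun x hx => h x (List.mem_cons_of_mem a hx)
    rw [List.map_cons, enc_cons, enc_cons, List.length_cons, mask_succ, ← ih]
    refine Nat.eq_of_testBit_eq fun i => ?_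
    have hlt : a / 2 ^ b % 2 < 4096 := lt_trans (Nat.mod_lt _ (by norm_num)) (by norm_num)
    rw [Nat.testBit_and, Nat.testBit_shiftRight, testBit_block ha, testBit_block (by norm_num) (mask N.length),
      testBit_block hlt, Nat.testBit_and, Nat.testBit_shiftRight]
    by_cases hi : i < 12
    · rw [if_pos hi, if_pos hi]
      rcases Nat.eq_zero_or_pos i with rfl | hp
      · rw [add_zero, if_pos hb, Nat.testBit_one_zero, Bool.and_true]
        simp [Nat.testBit, Nat.shiftRight_eq_div_pow, Nat.and_one_is_mod]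
      · have h1 : ∀ c : ℕ, c < 2 → c.testBit i = false := fun c hc =>
          Nat.testBit_lt_two_pow (lt_of_lt_of_le hc (le_trans (le_of_eq (pow_one 2).symm)
            (Nat.pow_le_pow_right (by norm_num) hp)))
        rw [h1 1 (by norm_num), h1 _ (Nat.mod_lt _ (by norm_num)), Bool.and_false]
    · rw [if_neg hi, if_neg hi, if_neg (by omega), show b + i - 12 = b + (i - 12) by omega]

theorem enc_smul (c : ℕ) : ∀ N : List ℕ, enc N * c = enc (N.map (· * c))
  | [] => by simp [enc_nil]
  | a :: N => by rw [List.map_cons, enc_cons, enc_cons, ← enc_smul c N]; ring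

theorem xor_lt {a b : ℕ} (ha : a < 4096) (hb : b < 4096) : a ^^^ b < 4096 := Nat.xor_lt_two_pow (n := 12) ha hb

theorem enc_xor {f g : ℕ → ℕ} (hf : ∀ a, f a < 4096) (hg : ∀ a, g a < 4096) :
    ∀ N : List ℕ, enc (N.map f) ^^^ enc (N.map g) = enc (N.map fun a => f a ^^^ g a)
  | [] => by simp [enc_nil]
  | a :: N => by
    rw [List.map_cons, List.map_cons, List.map_cons, enc_cons, enc_cons, enc_cons, ← enc_xor hf hg N]
    refine Nat.eq_of_testBit_eq fun i => ?_
    rw [Nat.testBit_xor, testBit_block (hf a), testBit_block (hg a), testBit_block (xor_lt (hf a) (hg a))]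
    split <;> simp [Nat.testBit_xor]

theorem block : ∀ {M : List ℕ}, (∀ a ∈ M, a < 4096) → ∀ b : ℕ,
    (enc M >>> (12 * b)) &&& 4095 = M.getD b 0
  | [], _, b => by simp [enc_nil]
  | a :: M, h, 0 => by
    have ha : a < 4096 := h a List.mem_cons_self
    rw [mul_zero, Nat.shiftRight_zero, show (4095 : ℕ) = 2 ^ 12 - 1 by norm_num, Nat.and_two_pow_sub_one_eq_mod,
      enc_cons, List.getD_cons_zero]
    omega
  | a :: M, h, b + 1 => by
    have ha : a < 4096 := h a List.mem_cons_self
    rw [List.getD_cons_succ, ← block (fun x hx => h x (List.mem_cons_of_mem a hx)) b, enc_cons,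
      show 12 * (b + 1) = 12 + 12 * b by omega, Nat.shiftRight_add]
    congr 2
    rw [Nat.shiftRight_eq_div_pow]
    omega

theorem getD_lt {M : List ℕ} (h : ∀ a ∈ M, a < 4096) (b : ℕ) : M.getD b 0 < 4096 := by
  by_cases hb : b < M.length
  · rw [List.getD_eq_getElem _ _ hb]; exact h _ (List.getElem_mem hb)
  · rw [List.getD_eq_default _ _ (by omega)]; norm_num

theorem m12_eq : m12 = mask 12 := by decide +kernel

/-- The image of a vector, bit by bit. -/
def colSum (M : List ℕ) (a : ℕ) : ℕ :=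
  ((((a / 2 ^ 0 % 2 * M.getD 0 0) ^^^ (a / 2 ^ 1 % 2 * M.getD 1 0)) ^^^
      ((a / 2 ^ 2 % 2 * M.getD 2 0) ^^^ (a / 2 ^ 3 % 2 * M.getD 3 0))) ^^^
    ((((a / 2 ^ 4 % 2 * M.getD 4 0) ^^^ (a / 2 ^ 5 % 2 * M.getD 5 0)) ^^^
        ((a / 2 ^ 6 % 2 * M.getD 6 0) ^^^ (a / 2 ^ 7 % 2 * M.getD 7 0))) ^^^
      (((a / 2 ^ 8 % 2 * M.getD 8 0) ^^^ (a / 2 ^ 9 % 2 * M.getD 9 0)) ^^^
        ((a / 2 ^ 10 % 2 * M.getD 10 0) ^^^ (a / 2 ^ 11 % 2 * M.getD 11 0)))))

theorem colSum_eq : ∀ {M : List ℕ}, M.length = 12 → ∀ a : ℕ, colSum M a = app M a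
  | [c0, c1, c2, c3, c4, c5, c6, c7, c8, c9, c10, c11], _, a => by
    have h : ∀ x c : ℕ, x % 2 * c = if x % 2 = 1 then c else 0 := fun x c => by
      rcases Nat.mod_two_eq_zero_or_one x with h | h <;> simp [h]
    simp only [colSum, h, app_cons, app_nil, Nat.div_div_eq_div_mul, Nat.xor_zero, Nat.xor_assoc]
    norm_num

theorem good_data {M : List ℕ} (h : goodM M = true) : M.length = 12 ∧ ∀ a ∈ M, a < 4096 := goodM_iff.1 h

theorem mulP_enc {M N : List ℕ} (hM : goodM M = true) (hN : ∀ a ∈ N, a < 4096) (hlen : N.length ≤ 12)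
    (h12 : N.length = 12 ∨ N.length = 1) : mulP (enc M) (enc N) = enc (N.map (app M)) := by
  obtain ⟨hl, hlt⟩ := good_data hM
  have hbit : ∀ b < 12, term m12 (enc M) (enc N) b = enc (N.map fun a => a / 2 ^ b % 2 * M.getD b 0) := by
    intro b hb
    show ((enc N >>> b) &&& m12) * ((enc M >>> (12 * b)) &&& 4095) = _
    rw [block hlt b]
    have hmask : (enc N >>> b) &&& m12 = enc (N.map fun a => a / 2 ^ b % 2) := by
      rw [m12_eq]
      rcases h12 with h | h
      · rw [← h, mask_land hb hN]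
      · match N, h, hN with
        | [a], _, hN =>
          have ha : a < 4096 := hN a List.mem_cons_self
          simp only [List.map_cons, List.map_nil, enc_cons, enc_nil, mul_zero, add_zero]
          rw [mask_succ, show a >>> b = a / 2 ^ b by rw [Nat.shiftRight_eq_div_pow]]
          have hq : a / 2 ^ b < 4096 := lt_of_le_of_lt (Nat.div_le_self _ _) ha
          refine Nat.eq_of_testBit_eq fun i => ?_
          rw [Nat.testBit_and, testBit_block (by norm_num) (mask 11)]
          by_cases hi : i < 12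
          · rw [if_pos hi]
            rcases Nat.eq_zero_or_pos i with rfl | hp
            · simp [Nat.testBit, Nat.and_one_is_mod]
            · have h1 : ∀ c : ℕ, c < 2 → c.testBit i = false := fun c hc =>
                Nat.testBit_lt_two_pow (lt_of_lt_of_le hc (le_trans (le_of_eq (pow_one 2).symm)
                  (Nat.pow_le_pow_right (by norm_num) hp)))
              rw [h1 1 (by norm_num), h1 _ (Nat.mod_lt _ (by norm_num)), Bool.and_false]
          · have h1 : ∀ c : ℕ, c < 4096 → c.testBit i = false := fun c hc =>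
              Nat.testBit_lt_two_pow (lt_of_lt_of_le hc (le_trans (le_of_eq (by norm_num))
                (Nat.pow_le_pow_right (by norm_num) (not_lt.1 hi))))
            rw [h1 _ hq, h1 _ (lt_trans (Nat.mod_lt _ (by norm_num)) (by norm_num)), Bool.false_and]
    rw [hmask, enc_smul, List.map_map]
    rfl
  have hf : ∀ b a, a / 2 ^ b % 2 * M.getD b 0 < 4096 := fun b a => by
    rcases Nat.mod_two_eq_zero_or_one (a / 2 ^ b) with h | h <;> rw [h]
    · simp
    · rw [one_mul]; exact getD_lt hlt b
  have x2 := fun {f g : ℕ → ℕ} (hf : ∀ a, f a < 4096) (hg : ∀ a, g a < 4096) => enc_xor hf hg N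
  show ((((term m12 _ _ 0) ^^^ (term m12 _ _ 1)) ^^^ ((term m12 _ _ 2) ^^^ (term m12 _ _ 3))) ^^^
    ((((term m12 _ _ 4) ^^^ (term m12 _ _ 5)) ^^^ ((term m12 _ _ 6) ^^^ (term m12 _ _ 7))) ^^^
      (((term m12 _ _ 8) ^^^ (term m12 _ _ 9)) ^^^ ((term m12 _ _ 10) ^^^ (term m12 _ _ 11))))) = _
  iterate rw [hbit _ (by norm_num)]
  repeat rw [x2 (fun a => ?_) (fun a => ?_)]
  · refine congrArg enc (List.map_congr_left fun a _ => ?_)
    exact colSum_eq hl a
  all_goals (repeat' apply xor_lt) <;> exact hf _ _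

theorem mulP_comp {M N : List ℕ} (hM : goodM M = true) (hN : goodM N = true) :
    mulP (enc M) (enc N) = enc (comp M N) :=
  mulP_enc hM (good_data hN).2 (good_data hN).1.le (Or.inl (good_data hN).1)

theorem mulP_app {M : List ℕ} (hM : goodM M = true) {r : ℕ} (hr : r < 4096) :
    mulP (enc M) r = app M r := by
  have h := mulP_enc (N := [r]) hM (by simpa using hr) (by simp) (Or.inr rfl)
  simpa [enc_cons, enc_nil] using h

theorem dec_enc : ∀ {M : List ℕ}, (∀ a ∈ M, a < 4096) → dec M.length (enc M) = M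
  | [], _ => rfl
  | a :: M, h => by
    have ha : a < 4096 := h a List.mem_cons_self
    show Nat.mod (enc (a :: M)) 4096 :: dec M.length (Nat.div (enc (a :: M)) 4096) = _
    rw [enc_cons, show Nat.div (a + 4096 * enc M) 4096 = enc M by show (a + 4096 * enc M) / 4096 = _; omega,
      show Nat.mod (a + 4096 * enc M) 4096 = a by show (a + 4096 * enc M) % 4096 = _; omega,
      dec_enc fun x hx => h x (List.mem_cons_of_mem a hx)]

theorem dec_good : ∀ x : ℕ, goodM (dec 12 x) = true := by
  intro x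
  rw [goodM_iff]
  have h : ∀ n y, (dec n y).length = n ∧ ∀ a ∈ dec n y, a < 4096 := by
    intro n
    induction n with
    | zero => exact fun y => ⟨rfl, fun a ha => absurd ha List.not_mem_nil⟩
    | succ n ih =>
      intro y
      obtain ⟨h1, h2⟩ := ih (Nat.div y 4096)
      show (Nat.mod y 4096 :: dec n (Nat.div y 4096)).length = n + 1 ∧ _
      refine ⟨by rw [List.length_cons, h1], fun a ha => ?_⟩
      rcases List.mem_cons.1 ha with rfl | ha
      · exact Nat.mod_lt _ (by norm_num)
      · exact h2 a ha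
  exact h 12 x

theorem enc_inj {M N : List ℕ} (hM : goodM M = true) (hN : goodM N = true) (h : enc M = enc N) : M = N := by
  have a := dec_enc (good_data hM).2
  have b := dec_enc (good_data hN).2
  rw [(good_data hM).1, h] at a
  rw [(good_data hN).1] at b
  exact a.symm.trans b

end Cfsg.Agent.J4Type.V11.AZ
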