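import Cfsg.Agent.J4Type.Order.ZGood
import Mathlib.Algebra.BigOperators.Group.Finset.Sigma

/-!
# The number of pairs at the central involution, granted the classes of the fibres
-/

set_option autoImplicit false

open Cfsg Subgroup

namespace Cfsg.Agent.J4Type.V11.AZ

open LargeExtra (oc oc_le)
open Cfsg.Agent.J4Type.Rep Cfsg.Agent.J4Type.Orbits

variable {G : Type*} [Group G] [Finite G] {z : G} {P : Subgroup G} {V : Type*} [AddCommGroup V]
  {π : ↥(oc z) →* Multiplicative V} {ρ : ↥(mSub z P) →* Equiv.Perm V} {q : V → ZMod 2} {B : List V}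

/-- Being a counted pair with the given linear parts. -/
def PairP (z t : G) (P : Subgroup G) (ρ : ↥(mSub z P) →* Equiv.Perm V) (γ δ : Equiv.Perm V) (p : G × G) :
    Prop :=
  (IsConj z p.1 ∧ IsConj t p.2 ∧ z ∈ zpowers (p.1 * p.2)) ∧
    (p.1 ∈ centralizer ({z} : Set G) ∧ J4Type.lin ρ p.1 = γ) ∧
    (p.2 ∈ centralizer ({z} : Set G) ∧ J4Type.lin ρ p.2 = δ)

/-- The counted pairs with the given linear parts. -/
noncomputable def A2 (z t : G) (P : Subgroup G) (ρ : ↥(mSub z P) →* Equiv.Perm V) (γ δ : Equiv.Perm V) : ℕ :=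
  Nat.card {p : G × G // PairP z t P ρ γ δ p}

/-- The involutions of the linear group and the identity. -/
noncomputable def invs (S : Sys z P π ρ q B) : Finset (Equiv.Perm V) := by
  classical
  haveI := S.M.fin
  haveI : Fintype (Equiv.Perm V) := Fintype.ofFinite _
  exact Finset.univ.filter fun γ => γ ∈ ρ.range ∧ γ * γ = 1

section Sys

variable (S : Sys z P π ρ q B)
include S

theorem mem_invs {γ : Equiv.Perm V} : γ ∈ invs S ↔ γ ∈ ρ.range ∧ γ * γ = 1 := by
  simp [invs]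

theorem a2_conj (t : G) {n : G} (hn : n ∈ centralizer ({z} : Set G)) (γ δ : Equiv.Perm V) :
    A2 z t P ρ (J4Type.lin ρ n * γ * (J4Type.lin ρ n)⁻¹) (J4Type.lin ρ n * δ * (J4Type.lin ρ n)⁻¹) =
      A2 z t P ρ γ δ := by
  refine (Nat.card_congr (Equiv.subtypeEquiv
    (Equiv.prodCongr (MulAut.conj n).toEquiv (MulAut.conj n).toEquiv) fun p => ?_)).symm
  have hni := (centralizer ({z} : Set G)).inv_mem hn
  have h1 : ∀ a b : G, IsConj a b ↔ IsConj a (n * b * n⁻¹) := fun a b =>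
    ⟨fun h => h.trans (isConj_iff.2 ⟨n, rfl⟩), fun h => h.trans (isConj_iff.2 ⟨n, rfl⟩).symm⟩
  have h2 : ∀ {w : G} {ε : Equiv.Perm V}, (w ∈ centralizer ({z} : Set G) ∧ J4Type.lin ρ w = ε) ↔
      (n * w * n⁻¹ ∈ centralizer ({z} : Set G) ∧
        J4Type.lin ρ (n * w * n⁻¹) = J4Type.lin ρ n * ε * (J4Type.lin ρ n)⁻¹) := by
    intro w ε
    constructor
    · rintro ⟨hw, rfl⟩
      refine ⟨mul_mem (mul_mem hn hw) hni, ?_⟩
      rw [(S.D.lin_mul (mul_mem hn hw) hni).1, (S.D.lin_mul hn hw).1, S.D.lin_inv hn]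
    · rintro ⟨hw, e⟩
      have hw' : w ∈ centralizer ({z} : Set G) := by
        have := mul_mem (mul_mem hni hw) hn
        rwa [show n⁻¹ * (n * w * n⁻¹) * n = w by group] at this
      rw [(S.D.lin_mul (mul_mem hn hw') hni).1, (S.D.lin_mul hn hw').1, S.D.lin_inv hn] at e
      exact ⟨hw', mul_left_cancel (mul_right_cancel e)⟩
  show PairP z t P ρ γ δ p ↔ PairP z t P ρ _ _ (n * p.1 * n⁻¹, n * p.2 * n⁻¹)
  refine and_congr (and_congr (h1 _ _) (and_congr (h1 _ _) ?_)) (and_congr h2 h2)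
  have hz : n * z * n⁻¹ = z := mul_inv_eq_iff_eq_mul.2 (S.D.comm_z hn).eq
  rw [show n * p.1 * n⁻¹ * (n * p.2 * n⁻¹) = n * (p.1 * p.2) * n⁻¹ by group, mem_zpowers_iff, mem_zpowers_iff]
  refine exists_congr fun k => ?_
  rw [conj_zpow]
  conv_rhs => rw [← hz]
  rw [mul_left_inj, mul_right_inj]

/-- The pairs split by their linear parts. -/
theorem pairs_split {t : G} (ht : t * t = 1) : Nat.card (Order.Pairs z t z) =
    ∑ γ ∈ invs S, ∑ δ ∈ invs S, A2 z t P ρ γ δ := by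
  classical
  haveI := S.M.fin
  haveI : Fintype G := Fintype.ofFinite G
  haveI : Fintype (Equiv.Perm V) := Fintype.ofFinite _
  let T : Finset (G × G) := Finset.univ.filter fun p =>
    IsConj z p.1 ∧ IsConj t p.2 ∧ z ∈ zpowers (p.1 * p.2)
  have hA : ∀ γ δ, A2 z t P ρ γ δ = (T.filter fun p => (p.1 ∈ centralizer ({z} : Set G) ∧
      J4Type.lin ρ p.1 = γ) ∧ (p.2 ∈ centralizer ({z} : Set G) ∧ J4Type.lin ρ p.2 = δ)).card := by
    intro γ δ
    rw [A2, Nat.card_eq_fintype_card, Fintype.card_subtype]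
    exact congrArg Finset.card (Finset.ext fun p => by simp [T, PairP])
  have hsq : ∀ {u w : G}, u * u = 1 → IsConj u w → w * w = 1 := fun {u w} hu h => by
    obtain ⟨g, rfl⟩ := isConj_iff.1 h
    rw [show g * u * g⁻¹ * (g * u * g⁻¹) = g * (u * u) * g⁻¹ by group, hu]; group
  have hH : ∀ p ∈ T, p.1 ∈ centralizer ({z} : Set G) ∧ p.2 ∈ centralizer ({z} : Set G) := by
    intro p hp
    simp only [T, Finset.mem_filter, Finset.mem_univ, true_and] at hp
    obtain ⟨hx, hy, hr⟩ := hp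
    obtain ⟨k, hk⟩ := mem_zpowers_iff.1 hr
    have hx2 := hsq S.D.zz hx
    have hy2 := hsq ht hy
    have hc : p.1 ∈ centralizer ({z} : Set G) := by
      refine mem_centralizer_singleton_iff.2 ?_
      have h1 : p.1 * z * p.1⁻¹ = z⁻¹ := by
        rw [← hk, ← conj_zpow, show p.1 * (p.1 * p.2) * p.1⁻¹ = p.1 * p.1 * p.2 * p.1⁻¹ by group, hx2, one_mul,
          show p.2 * p.1⁻¹ = (p.1 * p.2)⁻¹ by rw [mul_inv_rev, inv_eq_of_mul_eq_one_right hy2], inv_zpow]
      rw [inv_eq_of_mul_eq_one_right S.D.zz, mul_inv_eq_iff_eq_mul] at h1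
      exact h1
    refine ⟨hc, ?_⟩
    have hrc : p.1 * p.2 ∈ centralizer ({z} : Set G) := by
      refine mem_centralizer_singleton_iff.2 ?_
      rw [← hk]
      exact ((Commute.refl _).zpow_right k).eq
    have := mul_mem (inv_mem hc) hrc
    rwa [inv_mul_cancel_left] at this
  have hmap : ∀ p ∈ T, (J4Type.lin ρ p.1, J4Type.lin ρ p.2) ∈ invs S ×ˢ invs S := by
    intro p hp
    obtain ⟨h1, h2⟩ := hH p hp
    simp only [T, Finset.mem_filter, Finset.mem_univ, true_and] at hp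
    rw [Finset.mem_product, mem_invs S, mem_invs S]
    refine ⟨⟨S.D.lin_mem h1, ?_⟩, S.D.lin_mem h2, ?_⟩
    · rw [← (S.D.lin_mul h1 h1).1, hsq S.D.zz hp.1, (S.D.lin_oc (one_mem _)).1]
    · rw [← (S.D.lin_mul h2 h2).1, hsq ht hp.2.1, (S.D.lin_oc (one_mem _)).1]
  rw [← Finset.sum_product']
  calc Nat.card (Order.Pairs z t z) = T.card := by
        show Nat.card {p : G × G // IsConj z p.1 ∧ IsConj t p.2 ∧ z ∈ zpowers (p.1 * p.2)} = _
        rw [Nat.card_eq_fintype_card, Fintype.card_subtype]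
    _ = ∑ w ∈ invs S ×ˢ invs S, (T.filter fun p => (J4Type.lin ρ p.1, J4Type.lin ρ p.2) = w).card :=
        Finset.card_eq_sum_card_fiberwise hmap
    _ = _ := Finset.sum_congr rfl fun w _ => by
        rw [hA]
        refine congrArg Finset.card (Finset.filter_congr fun p hp => ?_)
        obtain ⟨h1, h2⟩ := hH p hp
        rw [Prod.ext_iff]
        exact ⟨fun e => ⟨⟨h1, e.1⟩, h2, e.2⟩, fun e => ⟨e.1.2, e.2.2⟩⟩

/-- A sum over a class inside the fibres of one linear part. -/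
theorem sum_class {σ : Equiv.Perm V} {X : ℕ} (hσ : Pk B σ X) (u : G) (f : V → ℕ) [Fintype G]
    [DecidablePred fun x : G => IsConj u x ∧ x ∈ centralizer ({z} : Set G) ∧ J4Type.lin ρ x = σ] :
    ∑ x ∈ Finset.univ.filter (fun x : G => IsConj u x ∧ x ∈ centralizer ({z} : Set G) ∧ J4Type.lin ρ x = σ),
        f (trans π P x) = ∑ a ∈ Finset.range 4096, fibNum z P π ρ B u X a * f (Rep.lin B a) := by
  classical
  set Sx := Finset.univ.filter (fun x : G => IsConj u x ∧ x ∈ centralizer ({z} : Set G) ∧ J4Type.lin ρ x = σ)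
  let tc : G → ℕ := fun x => (S.M.code_cases (trans π P x)).choose
  have htc : ∀ x, tc x < 4096 ∧ Rep.lin B (tc x) = trans π P x := fun x =>
    (S.M.code_cases (trans π P x)).choose_spec
  rw [← Finset.sum_fiberwise_of_maps_to (g := tc) (t := Finset.range 4096)
    fun x _ => Finset.mem_range.2 (htc x).1]
  refine Finset.sum_congr rfl fun a ha => ?_
  rw [Finset.sum_congr rfl (g := fun _ => f (Rep.lin B a)) fun x hx => by
    rw [← (htc x).2, (Finset.mem_filter.1 hx).2]]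
  rw [Finset.sum_const, smul_eq_mul, fibNum, Nat.card_eq_fintype_card, Fintype.card_subtype]
  congr 2
  ext x
  simp only [Sx, Finset.mem_filter, Finset.mem_univ, true_and]
  constructor
  · rintro ⟨⟨hu, hH, hl⟩, ht⟩
    exact ⟨⟨hH, hl ▸ hσ, by rw [← ht]; exact (htc x).2.symm⟩, hu⟩
  · rintro ⟨⟨hH, hp, ht⟩, hu⟩
    exact ⟨⟨hu, hH, Pk.inj S hp hσ⟩, S.lin_lt_inj (htc x).1 (Finset.mem_range.1 ha) ((htc x).2.trans ht)⟩

end Sys

variable {S : Sys z P π ρ q B} {F : Frame S} (hF : F.Good) (C : ClassData z P π ρ B F.tt)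
include hF C

/-- The value over the first point of an orbit. -/
theorem a2_eval {cp : List ℕ} {j : ℕ} {o : Orb} (hj : j < 4) (ho : orbOK cp j o = true)
    (hw : ∀ k ∈ o.word, k < 4) {σ δ : Equiv.Perm V} (hσ : σ ∈ ρ.range) (hσX : Pk B σ (sigOf j))
    (hδ : δ ∈ ρ.range) (hδY : Pk B δ (tauOf o.rep)) :
    A2 z F.tt P ρ σ δ = o.val := by
  classical
  haveI : Fintype G := Fintype.ofFinite G
  simp only [orbOK, listsOK, Bool.and_eq_true] at ho
  obtain ⟨⟨⟨⟨⟨⟨hi4, -⟩, hgw⟩, hexp⟩, hlA, hlB⟩, -⟩, hval⟩ := ho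
  have hi4 : o.cls < 4 := by simpa [Nat.blt_eq] using hi4
  obtain ⟨g, hg, hgx⟩ := word_pk S (gs := gensP) (fun k hk => gen_pk S hk) (w := o.word)
    (fun k hk => gens_len ▸ hw k hk)
  set gx := wordP gensP o.word
  obtain ⟨σi, hσi, hσip, -⟩ := sig_pk S hi4
  have hδeq : g * σi * g⁻¹ = δ := by
    rw [mul_inv_eq_iff_eq_mul]
    exact Pk.inj S (hgx.mul hσip) ((Nat.eq_of_beq_eq_true hgw).symm ▸ hδY.mul hgx)
  set R := mulP (sigOf j) (tauOf o.rep)
  let gd : ℕ → ℕ → ℕ := fun a b => if good qBits (oddB o.k) (innerB wP R o.k) (mulP (sumP R o.k) a)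
        (mulP (sumP R (o.k / 2)) a) (mulP (sumP R o.k) (mulP (sigOf j) b))
        (mulP (sumP R (o.k / 2)) (mulP (sigOf j) b)) = true then 1 else 0
  let cd : V → ℕ := fun v => (S.M.code_cases v).choose
  have hcd : ∀ a, a < 4096 → cd (Rep.lin B a) = a := fun a ha =>
    S.lin_lt_inj (S.M.code_cases _).choose_spec.1 ha (S.M.code_cases _).choose_spec.2
  let W : V → V → ℕ := fun v w => gd (cd v) (cd w)
  have hW : ∀ a b, a < 4096 → b < 4096 → W (Rep.lin B a) (Rep.lin B b) = gd a b := fun a b ha hb => by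
    show gd (cd _) (cd _) = _
    rw [hcd a ha, hcd b hb]
  have hcard : A2 z F.tt P ρ σ δ =
      ∑ x ∈ Finset.univ.filter (fun x : G => IsConj z x ∧ x ∈ centralizer ({z} : Set G) ∧ J4Type.lin ρ x = σ),
        ∑ y ∈ Finset.univ.filter (fun y : G => IsConj F.tt y ∧ y ∈ centralizer ({z} : Set G) ∧
          J4Type.lin ρ y = δ), W (trans π P x) (trans π P y) := by
    rw [A2, Nat.card_eq_fintype_card, Fintype.card_subtype, ← Finset.sum_product']
    rw [Finset.card_filter]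
    rw [← Finset.sum_filter_of_ne (p := fun p : G × G => (IsConj z p.1 ∧ p.1 ∈ centralizer ({z} : Set G) ∧
      J4Type.lin ρ p.1 = σ) ∧ (IsConj F.tt p.2 ∧ p.2 ∈ centralizer ({z} : Set G) ∧ J4Type.lin ρ p.2 = δ))
      (s := Finset.univ) fun p _ hp => ?_]
    · refine Finset.sum_congr (Finset.ext fun p => by simp [Finset.mem_product]) fun p hp => ?_
      simp only [Finset.mem_product, Finset.mem_filter, Finset.mem_univ, true_and] at hp
      obtain ⟨⟨hx, hxH, hxl⟩, hy, hyH, hyl⟩ := hp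
      obtain ⟨a, ha, ea⟩ := S.M.code_cases (trans π P p.1)
      obtain ⟨b, hb, eb⟩ := S.M.code_cases (trans π P p.2)
      have hgi := good_iff hF C hσ hδ (⟨hxH, hxl ▸ hσX, ea.symm⟩ : Fib z P π ρ B _ a p.1)
        (⟨hyH, hyl ▸ hδY, eb.symm⟩ : Fib z P π ρ B _ b p.2) hσX hδY ha hb hx hy hexp
      rw [← ea, ← eb, hW a b ha hb]
      refine ite_congr (propext ?_) (fun _ => rfl) fun _ => rfl
      rw [PairP]
      exact ⟨fun h => hgi.1 h.1.2.2, fun h => ⟨⟨hx, hy, hgi.2 h⟩, ⟨hxH, hxl⟩, hyH, hyl⟩⟩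
    · rw [ne_eq, ite_eq_right_iff, _root_.not_imp] at hp
      obtain ⟨⟨⟨hx, hy, -⟩, hxs, hys⟩, -⟩ := hp
      exact ⟨⟨hx, hxs⟩, hy, hys⟩
  rw [hcard, sum_class S hσX z fun v => ∑ y ∈ Finset.univ.filter (fun y : G => IsConj F.tt y ∧
    y ∈ centralizer ({z} : Set G) ∧ J4Type.lin ρ y = δ), W v (trans π P y)]
  have hwl := fun i (hi : i < 4) => List.all_eq_true.1 wLists_ok i (List.mem_range.2 hi)
  have hj' := hwl j hj
  have hi' := hwl o.cls hi4
  simp only [wListsOK, Bool.and_eq_true, List.all_eq_true, List.mem_range, Bool.not_eq_true',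
    Bool.and_eq_false_iff] at hj' hi'
  have hd : ∀ {a : ℕ} {A A' : ℕ}, (bit A a = false ∨ bit A' a = false) → ¬ (bit A a = true ∧ bit A' a = true) :=
    fun {a A A'} h hc => by rcases h with h | h <;> simp [h] at hc
  have hinner : ∀ a < 4096, (∑ y ∈ Finset.univ.filter (fun y : G => IsConj F.tt y ∧
      y ∈ centralizer ({z} : Set G) ∧ J4Type.lin ρ y = δ), W (Rep.lin B a) (trans π P y)) =
      rowSum qBits (oddB o.k) (innerB wP R o.k) (mulP (sumP R o.k) a) (mulP (sumP R (o.k / 2)) a) o.tB := by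
    intro a ha
    rw [sum_class S hδY F.tt fun w => W (Rep.lin B a) w]
    obtain ⟨gi, hgi⟩ := exists_pk S (inv_mem hg)
    have hli : ∀ b < 4096, mulP gx (mulP gi b) = b := fun b hb => by
      refine S.lin_lt_inj (hgx.lt (hgi.lt hb)) hb ?_
      rw [← hgx.apply (hgi.lt hb), ← hgi.apply hb, Equiv.Perm.inv_def, Equiv.apply_symm_apply]
    have hri : ∀ b < 4096, mulP gi (mulP gx b) = b := fun b hb => by
      refine S.lin_lt_inj (hgi.lt (hgx.lt hb)) hb ?_
      rw [← hgi.apply (hgx.lt hb), ← hgx.apply hb, Equiv.Perm.inv_def, Equiv.symm_apply_apply]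
    rw [← Finset.sum_nbij' (s := Finset.range 4096) (t := Finset.range 4096) (mulP gx) (mulP gi)
      (f := fun b => tW o.cls b * gd a (mulP gx b))
      (g := fun b => fibNum z P π ρ B F.tt (tauOf o.rep) b * W (Rep.lin B a) (Rep.lin B b))
      (fun b hb => Finset.mem_range.2 (hgx.lt (Finset.mem_range.1 hb)))
      (fun b hb => Finset.mem_range.2 (hgi.lt (Finset.mem_range.1 hb)))
      (fun b hb => hri b (Finset.mem_range.1 hb)) (fun b hb => hli b (Finset.mem_range.1 hb))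
      (fun b hb => by
        have hb := Finset.mem_range.1 hb
        rw [fibNum_tau S hg hgx hσi hσip (by rw [hδeq]; exact hδY) hb, C.t_num o.cls hi4 b hb,
          hW a _ ha (hgx.lt hb)])]
    rw [rowSum_eq, eqT_iff hlB, show (fun b => tW o.cls b * gd a (mulP gx b)) =
        fun b => wOf (tTwoB.getD o.cls 0) (tOneB.getD o.cls 0) b * gd a (mulP gx b) from rfl,
      sum_bits (eqM_iff.1 hi'.1.1.2) (eqM_iff.1 hi'.1.2) fun b hb => hd (hi'.2 b hb).2]
    simp only [listB, imA, List.map_append, List.map_map, List.sum_append, Function.comp_def, gd, mul_ite,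
      mul_one, mul_zero]
    rfl
  rw [Finset.sum_congr rfl (g := fun a => wOf (zTwoB.getD j 0) (zOneB.getD j 0) a *
    rowSum qBits (oddB o.k) (innerB wP R o.k) (mulP (sumP R o.k) a) (mulP (sumP R (o.k / 2)) a) o.tB)
    fun a ha => by
      rw [C.z_num j hj a (Finset.mem_range.1 ha), hinner a (Finset.mem_range.1 ha)]; rfl]
  rw [sum_bits (eqM_iff.1 hj'.1.1.1.1) (eqM_iff.1 hj'.1.1.1.2) fun b hb => hd (hj'.2 b hb).1,
    ← Nat.eq_of_beq_eq_true hval, pairSum_eq, eqT_iff hlA]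
  simp only [listA, imA, List.map_append, List.map_map, List.sum_append, Function.comp_def]
  rfl

end Cfsg.Agent.J4Type.V11.AZ
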