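import Cfsg.Agent.J4Type.Order.ZBase
import Cfsg.Agent.J4Type.Order.ZChecksFibre
import Cfsg.Agent.J4Type.Order.ZChecksBase
import Cfsg.Agent.J4Type.V11.CentT

/-!
# The part of the 2-core of an orthogonal conjugate in `C(z)`, with an element exchanging the two

After a change of the conjugate `u` by an element of `E` the group `X = O₂(C(u)) ∩ C(z)` consists of all
elements with linear part in the group of order 32 and translation part in its kernel set.  An element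
exchanging `z` and `u` carries it into `E` and fixes their intersection.
-/

set_option autoImplicit false

open Cfsg Subgroup

namespace Cfsg.Agent.J4Type.V11.AZ

open LargeExtra (oc oc_le oc_conj_mem conj_mem_oc)
open Cfsg.Agent.J4Type.Rep Cfsg.Agent.J4Type.Orbits

variable {G : Type*} [Group G] [Finite G] {z : G} {P : Subgroup G} {V : Type*} [AddCommGroup V]
  {π : ↥(oc z) →* Multiplicative V} {ρ : ↥(mSub z P) →* Equiv.Perm V} {q : V → ZMod 2} {B : List V}
  (S : Sys z P π ρ q B)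

theorem kList_nodup : kList.Nodup := by decide +kernel

theorem kList_small {r : ℕ} (hr : r ∈ kList) : r < 4096 := by
  have h := List.all_eq_true.1 kList_lt r hr
  exact blt_nat h

theorem bvB_eq {a b : ℕ} (ha : a < 4096) (hb : b < 4096) : bvB a b = Orbits.bv a b := by
  have h : ∀ r < 4096, bit qBits r = Orbits.qb r := fun r hr => beq_iff_eq.1 (all_range qBits_ok hr)
  rw [bvB, show Nat.xor a b = a ^^^ b from rfl, h _ (Nat.xor_lt_two_pow (n := 12) ha hb), h _ ha, h _ hb,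
    Orbits.bv, show Nat.xor a b = a ^^^ b from rfl]

theorem num_two {g w : G} {Q C : G → Prop} [DecidablePred C] (hne : w ≠ g) (hQ : ∀ h, Q h ↔ h = g ∨ h = w) :
    Nat.card {h : G // Q h ∧ C h} = (if C g then 1 else 0) + (if C w then 1 else 0) := by
  classical
  rw [Nat.card_congr (Equiv.subtypeEquivRight (q := fun h => h ∈ ({g, w} : Finset G).filter C)
    fun h => by simp [hQ h]), Nat.card_eq_finsetCard, Finset.filter_insert, Finset.filter_singleton]
  by_cases h1 : C g <;> by_cases h2 : C w <;> simp [h1, h2, hne.symm]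

/-- The lifts of a code in `E` with a property. -/
noncomputable def cnt (π : ↥(oc z) →* Multiplicative V) (B : List V) (C : G → Prop) (r : ℕ) : ℕ :=
  Nat.card {k : G // (k ∈ oc z ∧ vec π k = Rep.lin B r) ∧ C k}

section Basic

include S

theorem mul_z_ne (g : G) : g * z ≠ g := fun h => S.D.z_ne (mul_eq_left.1 h)

theorem cnt_pair {g : G} {r : ℕ} (hg : g ∈ oc z) (hv : vec π g = Rep.lin B r) (C : G → Prop)
    [DecidablePred C] :
    cnt π B C r = (if C g then 1 else 0) + (if C (g * z) then 1 else 0) := by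
  refine num_two (mul_z_ne S g) fun h => ⟨fun hh => S.D.vec_eq hh.1 hg (hh.2.trans hv.symm), ?_⟩
  rintro (rfl | rfl)
  · exact ⟨hg, hv⟩
  · exact ⟨mul_mem hg S.D.z_mem, by rw [vec_mul hg S.D.z_mem, S.D.vec_z, add_zero, hv]⟩

/-- An element of `E` outside the centre is conjugate in `E` to its product with `z`. -/
theorem isConj_flip {k : G} (hk : k ∈ oc z) (hv : vec π k ≠ 0) : IsConj k (k * z) := by
  by_contra hne
  refine hv ((S.D.vec_eq_zero hk).2 (S.D.set'.center_cases hk fun w hw => ?_))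
  rcases S.D.comm_cases hw hk with h | h
  · exact mul_inv_eq_iff_eq_mul.1 h
  · exact absurd (isConj_iff.2 ⟨w, h⟩) hne

/-- **The classes in `E`.** -/
theorem oc_class {k : G} {r : ℕ} (hk : k ∈ oc z) (hr : r < 4096) (hv : vec π k = Rep.lin B r)
    (hr0 : r ≠ 0) : IsConj z k ↔ bit Short.orbBits r = true := by
  have hvne : vec π k ≠ 0 := fun h => hr0 ((S.M.lin_eq_zero hr).1 (hv.symm.trans h))
  constructor
  · intro hc
    obtain ⟨g, hg⟩ := isConj_iff.1 hc
    have hconf : Conf z k := ⟨hk, fun e => hvne (by rw [e, S.D.vec_z]), g, hg⟩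
    obtain ⟨f₀, L⟩ := S.L
    obtain ⟨γ, hγ, hγv, -⟩ := L.stab _ hvne (hconf.vec_sing S.D) (xImage S.D k)
      (hconf.image_le S.D) (hconf.image_fix S.D) (hconf.image_normal S.D) (hconf.image_sq S.D)
      (hconf.image_big S.D)
    obtain ⟨s, hs, hsb, e⟩ := short.invariant S.M (inv_mem hγ) short.v₀_lt short.base
    rw [← hγv, ← Equiv.Perm.mul_apply, inv_mul_cancel, Equiv.Perm.one_apply, hv] at e
    rw [S.lin_lt_inj hr hs e]; exact hsb
  · intro hb
    obtain ⟨u, N⟩ := S.nconf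
    obtain ⟨γ, hγ, hγv⟩ := short.reach S.M hb
    obtain ⟨n, hn, rfl⟩ := S.lift_zero hγ
    obtain ⟨g, hg⟩ := N.conf.conj
    have hz : IsConj z (n * u * n⁻¹) := isConj_iff.2 ⟨n * g, by rw [← hg]; group⟩
    rcases S.D.vec_eq hk (oc_conj_mem hn.1 N.conf.mem) (by
      rw [S.D.vec_conj (cSub_le_mSub z P hn) N.conf.mem, N.vec_u, hγv, hv]) with e | e
    · rw [e]; exact hz
    · rw [e]
      refine hz.trans (isConj_flip S (oc_conj_mem hn.1 N.conf.mem) ?_)
      rw [S.D.vec_conj (cSub_le_mSub z P hn) N.conf.mem, N.vec_u, hγv, ← hv]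
      exact hvne

theorem mem_K {r : ℕ} (hr : r ∈ kList) : Rep.lin B r ∈ kernelSet q (qSub B) (Rep.lin B Short.v0) := by
  rw [S.M.kernelSet_qSub]; exact ⟨r, hr, rfl⟩

theorem of_mem_K {r : ℕ} (hr : r < 4096)
    (h : Rep.lin B r ∈ kernelSet q (qSub B) (Rep.lin B Short.v0)) : r ∈ kList := by
  rw [S.M.kernelSet_qSub] at h
  obtain ⟨k, hk, e⟩ := h
  rwa [← S.lin_lt_inj (kList_small hk) hr e]

end Basic

/-- The normalised conjugate with split `X` and an element exchanging it with `z`. -/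
structure XData (S : Sys z P π ρ q B) where
  /-- the conjugate -/
  u : G
  /-- the exchanging element -/
  s : G
  N : NConf S.D (Rep.lin B Short.v0) (qSub B) u
  split : ∀ x ∈ xSub z u, trans π P x ∈ kernelSet q (qSub B) (Rep.lin B Short.v0)
  sz : s * z * s⁻¹ = u
  su : s * u * s⁻¹ = z

include S in
theorem exists_xdata : Nonempty (XData S) := by
  obtain ⟨f₀, L⟩ := S.L
  obtain ⟨u, N⟩ := S.nconf
  obtain ⟨F, hF, hsplit⟩ := N.split L
  have hFH := oc_le z hF
  obtain ⟨g, hg⟩ := N.conf.conj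
  have hv : vec π (F * u * F⁻¹) = Rep.lin B Short.v0 := by
    rw [S.D.vec_conj_lin hFH N.conf.mem, (S.D.lin_oc hF).1, Equiv.Perm.one_apply, N.vec_u]
  have hc : Conf z (F * u * F⁻¹) := ⟨oc_conj_mem hFH N.conf.mem,
    fun e => S.M.base_ne (by rw [← hv, e, S.D.vec_z]), F * g, by rw [← hg]; group⟩
  have hback : ∀ {x : G}, x ∈ xSub z (F * u * F⁻¹) → F⁻¹ * x * F ∈ xSub z u := fun {x} hx => by
    refine ⟨?_, (centralizer ({z} : Set G)).mul_mem
      ((centralizer ({z} : Set G)).mul_mem ((centralizer ({z} : Set G)).inv_mem hFH) hx.2) hFH⟩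
    have := conj_mem_oc (g := F⁻¹) hx.1
    rwa [show F⁻¹ * (F * u * F⁻¹) * F⁻¹⁻¹ = u by group, inv_inv] at this
  have hlin : ∀ {x : G}, x ∈ xSub z u → lin ρ (F * x * F⁻¹) = lin ρ x := fun hx => (hsplit _ hx).2
  have himg : xImage S.D (F * u * F⁻¹) = qSub B := by
    rw [← N.image]
    ext γ
    rw [hc.mem_image S.D, N.conf.mem_image S.D]
    constructor
    · rintro ⟨x, hx, rfl⟩
      exact ⟨_, hback hx, by rw [← hlin (hback hx)]; congr 1; group⟩
    · rintro ⟨x, hx, rfl⟩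
      exact ⟨F * x * F⁻¹, ⟨conj_mem_oc hx.1, (centralizer ({z} : Set G)).mul_mem
        ((centralizer ({z} : Set G)).mul_mem hFH hx.2) ((centralizer ({z} : Set G)).inv_mem hFH)⟩, hlin hx⟩
  obtain ⟨s, hs, hs'⟩ := hc.swap S.D
  refine ⟨⟨_, s, ⟨hc, hv, himg⟩, fun x hx => ?_, hs, hs'⟩⟩
  have := (hsplit _ (hback hx)).1
  rwa [show F * (F⁻¹ * x * F) * F⁻¹ = x by group] at this

namespace XData

variable {S} (X : XData S)

include X

theorem mem_inter {k : G} {r : ℕ} (hk : k ∈ oc z) (hr : r ∈ kList) (hv : vec π k = Rep.lin B r) :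
    k ∈ oc z ⊓ oc X.u := by
  obtain ⟨f₀, L⟩ := S.L
  exact (X.N.mem_inter_iff L hk).2 (hv ▸ mem_K S hr)

theorem code_inter {k : G} (hk : k ∈ oc z ⊓ oc X.u) : ∃ r ∈ kList, vec π k = Rep.lin B r := by
  obtain ⟨f₀, L⟩ := S.L
  have h := X.N.vec_mem_kernel L hk
  rw [S.M.kernelSet_qSub] at h
  obtain ⟨r, hr, e⟩ := h
  exact ⟨r, hr, e.symm⟩

theorem mem_x {h : G} (hh : h ∈ centralizer ({z} : Set G)) (hl : lin ρ h ∈ qSub B)
    (ht : trans π P h ∈ kernelSet q (qSub B) (Rep.lin B Short.v0)) : h ∈ xSub z X.u := by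
  obtain ⟨f₀, L⟩ := S.L
  obtain ⟨x, hx, hxl⟩ := X.N.exists_x hl
  have hxi := (centralizer ({z} : Set G)).inv_mem hx.2
  have hk : h * x⁻¹ ∈ oc z := (S.D.lin_eq_one (mul_mem hh hxi)).1 (by
    rw [(S.D.lin_mul hh hxi).1, S.D.lin_inv hx.2, hxl, mul_inv_cancel])
  have e := (S.D.lin_mul (oc_le z hk) hx.2).2
  rw [inv_mul_cancel_right, (S.D.lin_oc hk).1, (S.D.lin_oc hk).2, Equiv.Perm.one_apply] at e
  obtain ⟨a, ha, hav⟩ := S.D.exists_vec (trans π P h)
  obtain ⟨b, hb, hbv⟩ := S.D.exists_vec (trans π P x)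
  have hsum := X.N.vec_mem_kernel L
    (mul_mem ((X.N.mem_inter_iff L ha).2 (hav ▸ ht)) ((X.N.mem_inter_iff L hb).2 (hbv ▸ X.split x hx)))
  rw [vec_mul ha hb, hav, hbv, e, add_assoc, S.D.two, add_zero] at hsum
  have := (oc X.u).mul_mem ((X.N.mem_inter_iff L hk).2 hsum).2 hx.1
  rw [inv_mul_cancel_right] at this
  exact ⟨this, hh⟩

/-- An element over the given map and a code of the kernel set. -/
theorem fib_mem {x r : ℕ} {h : G} (hf : Fib z P π ρ B x r h) (hx : ∃ M ∈ qList, enc M = x)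
    (hr : r ∈ kList) : h ∈ xSub z X.u := by
  refine X.mem_x hf.1 ?_ (hf.2.2 ▸ mem_K S hr)
  obtain ⟨M, hM, rfl⟩ := hx
  obtain ⟨γ, -, -, hd, -, -⟩ := S.M.mem_qSub_acts hM
  have hg : goodM M = true := by
    have h' : (qList.all goodM) = true := by decide +kernel
    exact List.all_eq_true.1 h' M hM
  rw [Pk.inj S hf.2.1 ⟨M, hg, rfl, hd⟩]
  exact S.M.mem_qSub.2 ⟨M, hM, hd⟩

theorem inv_sz : X.s⁻¹ * z * X.s⁻¹⁻¹ = X.u :=
  (congrArg (fun w => X.s⁻¹ * w * X.s⁻¹⁻¹) X.su).symm.trans (by group)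

theorem inv_su : X.s⁻¹ * X.u * X.s⁻¹⁻¹ = z :=
  (congrArg (fun w => X.s⁻¹ * w * X.s⁻¹⁻¹) X.sz).symm.trans (by group)

theorem conj_inter {k : G} (hk : k ∈ oc z ⊓ oc X.u) : X.s * k * X.s⁻¹ ∈ oc z ⊓ oc X.u :=
  ⟨by have := conj_mem_oc (g := X.s) hk.2; rwa [X.su] at this,
    by have := conj_mem_oc (g := X.s) hk.1; rwa [X.sz] at this⟩

theorem conj_inter_inv {k : G} (hk : k ∈ oc z ⊓ oc X.u) : X.s⁻¹ * k * X.s⁻¹⁻¹ ∈ oc z ⊓ oc X.u :=
  ⟨by have := conj_mem_oc (g := X.s⁻¹) hk.2; rwa [X.inv_su] at this,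
    by have := conj_mem_oc (g := X.s⁻¹) hk.1; rwa [X.inv_sz] at this⟩

theorem conj_x {h : G} (hh : h ∈ xSub z X.u) :
    X.s * h * X.s⁻¹ ∈ oc z ∧ Commute (X.s * h * X.s⁻¹) X.u := by
  refine ⟨by have := conj_mem_oc (g := X.s) hh.1; rwa [X.su] at this, ?_⟩
  rw [← X.sz]
  exact (Commute.conj_iff X.s).2 (S.D.comm_z hh.2)

theorem conj_not_K {h : G} (hh : h ∈ xSub z X.u) (hl : lin ρ h ≠ 1) {v : ℕ}
    (hv : vec π (X.s * h * X.s⁻¹) = Rep.lin B v) : v ∉ kList := fun hk => hl (by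
  have hm := X.mem_inter (X.conj_x hh).1 hk hv
  have := conj_mem_oc (g := X.s⁻¹) hm.2
  rw [X.inv_su, show X.s⁻¹ * (X.s * h * X.s⁻¹) * X.s⁻¹⁻¹ = h by group] at this
  exact (S.D.lin_eq_one hh.2).2 this)

/-- The exchanging element keeps the numbers in the intersection. -/
theorem count_conj (C C' : G → Prop) (h : ∀ k, C k ↔ C' (X.s * k * X.s⁻¹)) :
    Nat.card {k : G // k ∈ oc z ⊓ oc X.u ∧ C k} = Nat.card {k : G // k ∈ oc z ⊓ oc X.u ∧ C' k} := by
  refine Nat.card_congr ((MulAut.conj X.s).toEquiv.subtypeEquiv fun k => ?_)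
  show _ ↔ X.s * k * X.s⁻¹ ∈ oc z ⊓ oc X.u ∧ C' (X.s * k * X.s⁻¹)
  refine and_congr ⟨X.conj_inter, fun hk => ?_⟩ (h k)
  have := X.conj_inter_inv hk
  rwa [show X.s⁻¹ * (X.s * k * X.s⁻¹) * X.s⁻¹⁻¹ = k by group] at this

/-- Numbers in the intersection by codes. -/
theorem count_inter (C : G → Prop) :
    Nat.card {k : G // k ∈ oc z ⊓ oc X.u ∧ C k} = (kList.map (cnt π B C)).sum := by
  classical
  cases nonempty_fintype G
  rw [Nat.card_eq_fintype_card, Fintype.card_subtype]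
  rw [Finset.card_eq_sum_card_fiberwise (f := vec π) (t := kList.toFinset.image (Rep.lin B))
    (fun k hk => ?_), Finset.sum_image ?_, List.sum_toFinset _ kList_nodup]
  · refine congrArg List.sum (List.map_congr_left fun r hr => ?_)
    rw [cnt, Nat.card_eq_fintype_card, Fintype.card_subtype, Finset.filter_filter]
    refine congrArg Finset.card (Finset.filter_congr fun k _ => ?_)
    constructor
    · rintro ⟨⟨h1, h2⟩, h3⟩; exact ⟨⟨h1.1, h3⟩, h2⟩
    · rintro ⟨⟨h1, h3⟩, h2⟩; exact ⟨⟨X.mem_inter h1 hr h3, h2⟩, h3⟩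
  · intro a ha b hb e
    rw [Finset.mem_coe, List.mem_toFinset] at ha hb
    exact S.lin_lt_inj (kList_small ha) (kList_small hb) e
  · simp only [Finset.mem_coe, Finset.mem_filter, Finset.mem_univ, true_and] at hk
    obtain ⟨r, hr, e⟩ := X.code_inter hk.1
    rw [Finset.mem_coe, Finset.mem_image]
    exact ⟨r, List.mem_toFinset.2 hr, e.symm⟩

end XData

end Cfsg.Agent.J4Type.V11.AZ
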